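import Mathlib
import Cfsg.Agent.Lib.Sporadic.ChainCertificate

/-!
# Coset table 0 of a chain for PSU(4,3)
-/

set_option autoImplicit false
set_option maxRecDepth 100000
set_option maxHeartbeats 0
set_option Elab.async false

namespace CfsgLib.Known.U43Mult

open CfsgLib.Schur.Cert CfsgLib.Sporadic

/-- data -/
def next0 : Trie (ℕ) := .node (.node (.node (.node (.node (.node (.node (.node (.leaf 1) (.leaf 84)) (.node (.leaf 22) (.leaf 110))) (.node (.node (.leaf 25) (.leaf 61)) (.node (.leaf 65) (.leaf 112)))) (.node (.node (.node (.leaf 13) (.leaf 54)) (.node (.leaf 28) (.leaf 117))) (.node (.node (.leaf 35) (.leaf 76)) (.node (.leaf 41) (.leaf 106))))) (.node (.node (.node (.node (.leaf 7) (.leaf 87)) (.node (.leaf 50) (.leaf 101))) (.node (.node (.leaf 12) (.leaf 64)) (.node (.leaf 37) (.leaf 118)))) (.node (.node (.node (.leaf 20) (.leaf 88)) (.node (.leaf 31) (.leaf 107))) (.node (.node (.leaf 40) (.leaf 91)) (.node (.leaf 43) (.leaf 115)))))) (.node (.node (.node (.node (.node (.leaf 2) (.leaf 66)) (.node (.leaf 39) (.leaf 79)))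 (.node (.node (.leaf 11) (.leaf 86)) (.node (.leaf 36) (.leaf 102)))) (.node (.node (.node (.leaf 6) (.leaf 55)) (.node (.leaf 58) (.leaf 120))) (.node (.node (.leaf 17) (.leaf 70)) (.node (.leaf 42) (.leaf 122))))) (.node (.node (.node (.node (.leaf 10) (.leaf 90)) (.node (.leaf 27) (.leaf 114))) (.node (.node (.leaf 32) (.leaf 82)) (.node (.leaf 72) (.leaf 116)))) (.node (.node (.node (.leaf 23) (.leaf 59)) (.node (.leaf 62) (.leaf 96))) (.node (.node (.leaf 30) (.leaf 94)) (.leaf 46)))))) (.node (.node (.node (.node (.node (.node (.leaf 0) (.leaf 48)) (.node (.leaf 47) (.leaf 97))) (.node (.node (.leaf 26) (.leaf 99)) (.node (.leaf 67) (.leaf 123)))) (.node (.node (.node (.leaf 15) (.leaf 73)) (.node (.leaf 56) (.leaf 119))) (.node (.node (.leaf 16) (.leaf 69)) (.node (.leaf 57) (.leaf 109))))) (.node (.node (.node (.node (.leaf 3) (.leaf 89)) (.node (.leaf 52) (.leaf 100))) (.node (.node (.leaf 21) (.leaf 103)) (.node (.leaf 45) (.leaf 104)))) (.node (.node (.node (.leaf 8) (.leaf 95)) (.node (.leaf 53) (.leaf 121))) (.node (.node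 (.leaf 19) (.leaf 75)) (.node (.leaf 80) (.leaf 125)))))) (.node (.node (.node (.node (.node (.leaf 5) (.leaf 49)) (.node (.leaf 24) (.leaf 81))) (.node (.node (.leaf 29) (.leaf 63)) (.node (.leaf 51) (.leaf 124)))) (.node (.node (.node (.leaf 18) (.leaf 93)) (.node (.leaf 60) (.leaf 108))) (.node (.node (.leaf 38) (.leaf 92)) (.node (.leaf 78) (.leaf 113))))) (.node (.node (.node (.node (.leaf 4) (.leaf 71)) (.node (.leaf 34) (.leaf 85))) (.node (.node (.leaf 14) (.leaf 68)) (.node (.leaf 74) (.leaf 105)))) (.node (.node (.node (.leaf 9) (.leaf 98)) (.node (.leaf 33) (.leaf 111))) (.node (.node (.leaf 44) (.leaf 77)) (.leaf 83))))))) (.node (.node (.node (.node (.node (.node (.node (.leaf 2) (.leaf 85)) (.node (.leaf 46) (.leaf 35))) (.node (.node (.leaf 23) (.leaf 90)) (.node (.leaf 66) (.leaf 123)))) (.node (.node (.node (.leaf 14) (.leaf 74)) (.node (.leaf 26) (.leaf 118))) (.node (.node (.leaf 32) (.leaf 99)) (.node (.leaf 75) (.leaf 121))))) (.node (.node (.node (.node (.leaf 8) (.leaf 88)) (.node (.leaf 51) (.leaf 103))) (.node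 (.node (.leaf 30) (.leaf 102)) (.node (.leaf 70) (.leaf 62)))) (.node (.node (.node (.leaf 21) (.leaf 18)) (.node (.leaf 56) (.leaf 44))) (.node (.node (.leaf 41) (.leaf 106)) (.node (.leaf 29) (.leaf 125)))))) (.node (.node (.node (.node (.node (.leaf 4) (.leaf 13)) (.node (.leaf 5) (.leaf 112))) (.node (.node (.leaf 28) (.leaf 100)) (.node (.leaf 68) (.leaf 120)))) (.node (.node (.node (.leaf 17) (.leaf 92)) (.node (.leaf 59) (.leaf 110))) (.node (.node (.leaf 37) (.leaf 38)) (.node (.leaf 77) (.leaf 89))))) (.node (.node (.node (.node (.leaf 11) (.leaf 91)) (.node (.leaf 54) (.leaf 115))) (.node (.node (.leaf 33) (.leaf 52)) (.node (.leaf 73) (.leaf 47)))) (.node (.node (.node (.leaf 0) (.leaf 97)) (.node (.leaf 63) (.leaf 72))) (.node (.node (.leaf 43) (.leaf 108)) (.leaf 82)))))) (.node (.node (.node (.node (.node (.node (.leaf 3) (.leaf 86)) (.node (.leaf 48) (.leaf 111))) (.node (.node (.leaf 27) (.leaf 20)) (.node (.leaf 58) (.leaf 50)))) (.node (.node (.node (.leaf 16) (.leaf 80)) (.node (.leaf 57) (.leaf 114))) (.node (.node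 (.leaf 36) (.leaf 78)) (.node (.leaf 76) (.leaf 87))))) (.node (.node (.node (.node (.leaf 9) (.leaf 67)) (.node (.leaf 53) (.leaf 84))) (.node (.node (.leaf 31) (.leaf 104)) (.node (.leaf 71) (.leaf 117)))) (.node (.node (.node (.leaf 22) (.leaf 96)) (.node (.leaf 7) (.leaf 98))) (.node (.node (.leaf 42) (.leaf 107)) (.node (.leaf 81) (.leaf 93)))))) (.node (.node (.node (.node (.node (.leaf 6) (.leaf 25)) (.node (.leaf 49) (.leaf 113))) (.node (.node (.leaf 1) (.leaf 101)) (.node (.leaf 69) (.leaf 83)))) (.node (.node (.node (.leaf 19) (.leaf 94)) (.node (.leaf 61) (.leaf 119))) (.node (.node (.leaf 39) (.leaf 65)) (.node (.leaf 79) (.leaf 95))))) (.node (.node (.node (.node (.leaf 12) (.leaf 40)) (.node (.leaf 55) (.leaf 116))) (.node (.node (.leaf 34) (.leaf 105)) (.node (.leaf 10) (.leaf 124)))) (.node (.node (.node (.leaf 24) (.leaf 60)) (.node (.leaf 64) (.leaf 122))) (.node (.node (.leaf 45) (.leaf 109)) (.leaf 15)))))))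

/-- data -/
def prev0 : Trie (ℕ) := .node (.node (.node (.node (.node (.node (.node (.node (.leaf 1) (.leaf 84)) (.node (.leaf 22) (.leaf 110))) (.node (.node (.leaf 25) (.leaf 61)) (.node (.leaf 65) (.leaf 112)))) (.node (.node (.node (.leaf 13) (.leaf 54)) (.node (.leaf 28) (.leaf 117))) (.node (.node (.leaf 35) (.leaf 76)) (.node (.leaf 41) (.leaf 106))))) (.node (.node (.node (.node (.leaf 7) (.leaf 87)) (.node (.leaf 50) (.leaf 101))) (.node (.node (.leaf 12) (.leaf 64)) (.node (.leaf 37) (.leaf 118)))) (.node (.node (.node (.leaf 20) (.leaf 88)) (.node (.leaf 31) (.leaf 107))) (.node (.node (.leaf 40) (.leaf 91)) (.node (.leaf 43) (.leaf 115)))))) (.node (.node (.node (.node (.node (.leaf 2) (.leaf 66)) (.node (.leaf 39) (.leaf 79))) (.node (.node (.leaf 11) (.leaf 86)) (.node (.leaf 36) (.leaf 102)))) (.node (.node (.node (.leaf 6) (.leaf 55)) (.node (.leaf 58) (.leaf 120))) (.node (.node (.leaf 17) (.leaf 70)) (.node (.leaf 42) (.leaf 122))))) (.node (.node (.node (.node (.leaf 10) (.leaf 90)) (.node (.leaf 27) (.leaf 114)))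 (.node (.node (.leaf 32) (.leaf 82)) (.node (.leaf 72) (.leaf 116)))) (.node (.node (.node (.leaf 23) (.leaf 59)) (.node (.leaf 62) (.leaf 96))) (.node (.node (.leaf 30) (.leaf 94)) (.leaf 46)))))) (.node (.node (.node (.node (.node (.node (.leaf 0) (.leaf 48)) (.node (.leaf 47) (.leaf 97))) (.node (.node (.leaf 26) (.leaf 99)) (.node (.leaf 67) (.leaf 123)))) (.node (.node (.node (.leaf 15) (.leaf 73)) (.node (.leaf 56) (.leaf 119))) (.node (.node (.leaf 16) (.leaf 69)) (.node (.leaf 57) (.leaf 109))))) (.node (.node (.node (.node (.leaf 3) (.leaf 89)) (.node (.leaf 52) (.leaf 100))) (.node (.node (.leaf 21) (.leaf 103)) (.node (.leaf 45) (.leaf 104)))) (.node (.node (.node (.leaf 8) (.leaf 95)) (.node (.leaf 53) (.leaf 121))) (.node (.node (.leaf 19) (.leaf 75)) (.node (.leaf 80) (.leaf 125)))))) (.node (.node (.node (.node (.node (.leaf 5) (.leaf 49)) (.node (.leaf 24) (.leaf 81))) (.node (.node (.leaf 29) (.leaf 63)) (.node (.leaf 51) (.leaf 124)))) (.node (.node (.node (.leaf 18) (.leaf 93)) (.node (.leaf 60) (.leaf 108))) (.node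 (.node (.leaf 38) (.leaf 92)) (.node (.leaf 78) (.leaf 113))))) (.node (.node (.node (.node (.leaf 4) (.leaf 71)) (.node (.leaf 34) (.leaf 85))) (.node (.node (.leaf 14) (.leaf 68)) (.node (.leaf 74) (.leaf 105)))) (.node (.node (.node (.leaf 9) (.leaf 98)) (.node (.leaf 33) (.leaf 111))) (.node (.node (.leaf 44) (.leaf 77)) (.leaf 83))))))) (.node (.node (.node (.node (.node (.node (.node (.leaf 14) (.leaf 47)) (.node (.leaf 24) (.leaf 77))) (.node (.node (.leaf 9) (.leaf 73)) (.node (.leaf 33) (.leaf 98)))) (.node (.node (.node (.leaf 4) (.leaf 110)) (.node (.leaf 71) (.leaf 85))) (.node (.node (.leaf 15) (.leaf 68)) (.node (.leaf 44) (.leaf 114))))) (.node (.node (.node (.node (.leaf 2) (.leaf 50)) (.node (.leaf 25) (.leaf 82))) (.node (.node (.leaf 81) (.leaf 101)) (.node (.leaf 86) (.leaf 103)))) (.node (.node (.node (.leaf 7) (.leaf 57)) (.node (.leaf 108) (.leaf 94))) (.node (.node (.leaf 18) (.leaf 74)) (.node (.leaf 79) (.leaf 119)))))) (.node (.node (.node (.node (.node (.leaf 0) (.leaf 48)) (.node (.leaf 23) (.leaf 109)))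 (.node (.node (.leaf 76) (.leaf 62)) (.node (.leaf 113) (.leaf 105)))) (.node (.node (.node (.leaf 55) (.leaf 72)) (.node (.leaf 29) (.leaf 92))) (.node (.node (.leaf 40) (.leaf 80)) (.node (.leaf 49) (.leaf 111))))) (.node (.node (.node (.node (.leaf 3) (.leaf 52)) (.node (.leaf 90) (.leaf 84))) (.node (.node (.leaf 13) (.leaf 65)) (.node (.leaf 38) (.leaf 104)))) (.node (.node (.node (.leaf 8) (.leaf 89)) (.node (.leaf 32) (.leaf 106))) (.node (.node (.leaf 20) (.leaf 75)) (.leaf 116)))))) (.node (.node (.node (.node (.node (.node (.leaf 19) (.leaf 91)) (.node (.leaf 22) (.leaf 78))) (.node (.node (.leaf 10) (.leaf 61)) (.node (.leaf 35) (.leaf 99)))) (.node (.node (.node (.leaf 5) (.leaf 54)) (.node (.leaf 28) (.leaf 87))) (.node (.node (.leaf 67) (.leaf 122)) (.node (.leaf 41) (.leaf 120))))) (.node (.node (.node (.node (.leaf 34) (.leaf 51)) (.node (.leaf 26) (.leaf 83))) (.node (.node (.leaf 12) (.leaf 64)) (.node (.leaf 37) (.leaf 117)))) (.node (.node (.node (.leaf 66) (.leaf 58)) (.node (.leaf 31) (.leaf 95))) (.node (.node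 (.leaf 60) (.leaf 125)) (.node (.leaf 43) (.leaf 124)))))) (.node (.node (.node (.node (.node (.leaf 1) (.leaf 69)) (.node (.leaf 96) (.leaf 88))) (.node (.node (.leaf 11) (.leaf 115)) (.node (.leaf 36) (.leaf 102)))) (.node (.node (.node (.leaf 6) (.leaf 56)) (.node (.leaf 30) (.leaf 93))) (.node (.node (.leaf 17) (.leaf 70)) (.node (.leaf 42) (.leaf 112))))) (.node (.node (.node (.node (.leaf 45) (.leaf 53)) (.node (.leaf 27) (.leaf 100))) (.node (.node (.leaf 16) (.leaf 121)) (.node (.leaf 39) (.leaf 107)))) (.node (.node (.node (.leaf 63) (.leaf 59)) (.node (.leaf 118) (.leaf 97))) (.node (.node (.leaf 21) (.leaf 123)) (.leaf 46)))))))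

/-- data -/
def lab0 : Trie (Word) := .node (.node (.node (.node (.node (.node (.node (.node (.leaf []) (.leaf [])) (.node (.leaf []) (.leaf []))) (.node (.node (.leaf []) (.leaf [])) (.node (.leaf []) (.leaf [(1, true), (0, true), (1, false), (0, true), (1, true), (1, true), (0, true), (1, false), (1, false), (0, true), (1, true), (0, true), (1, false)])))) (.node (.node (.node (.leaf []) (.leaf [])) (.node (.leaf []) (.leaf []))) (.node (.node (.leaf []) (.leaf [(0, true), (1, true), (0, true), (1, true), (1, true), (0, true), (1, false), (0, true), (1, true), (0, true), (1, true)])) (.node (.leaf []) (.leaf []))))) (.node (.node (.node (.node (.leaf []) (.leaf [])) (.node (.leaf []) (.leaf [(0, true), (1, true), (0, true), (1, false), (1, false), (0, true), (1, true), (0, true), (1, true), (1, true), (0, true), (1, false), (1, false), (0, true), (1, true), (1, true)]))) (.node (.node (.leaf []) (.leaf [])) (.node (.leaf []) (.leaf [(0, true), (1, false), (0, true), (1, false), (1, false), (0, true), (1, false), (0, true), (1, false),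 (0, true), (1, false), (0, true), (1, true), (1, true), (0, true), (1, true)])))) (.node (.node (.node (.leaf []) (.leaf [(1, false), (0, true), (1, false), (0, true), (1, true), (0, true), (1, false), (1, false), (0, true), (1, false), (0, true)])) (.node (.leaf []) (.leaf [(0, true), (1, true), (0, true), (1, false), (0, true), (1, true), (1, true), (1, true), (0, true), (1, true)]))) (.node (.node (.leaf []) (.leaf [(0, true), (1, false), (1, false), (0, true), (1, false), (0, true), (1, true), (1, true), (0, true), (1, false), (0, true), (1, true), (0, true), (1, false), (0, true)])) (.node (.leaf []) (.leaf [])))))) (.node (.node (.node (.node (.node (.leaf [(0, true)]) (.leaf [(0, true), (1, false), (0, true), (1, false), (0, true), (1, true), (1, true), (1, true), (0, true), (1, true), (0, true), (1, true)])) (.node (.leaf [(1, false)]) (.leaf []))) (.node (.node (.leaf []) (.leaf [(1, false), (1, false), (0, true), (1, true), (0, true), (1, true), (1, true), (1, true), (0, true), (1, true), (0, true), (1, false), (0, true)]))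 (.node (.leaf []) (.leaf [])))) (.node (.node (.node (.leaf []) (.leaf [])) (.node (.leaf []) (.leaf []))) (.node (.node (.leaf []) (.leaf [])) (.node (.leaf []) (.leaf [(1, true), (0, true), (1, true), (0, true), (1, false), (0, true), (1, false), (0, true), (1, true), (0, true), (1, true), (0, true), (1, false), (0, true), (1, false)]))))) (.node (.node (.node (.node (.leaf []) (.leaf [])) (.node (.leaf []) (.leaf []))) (.node (.node (.leaf []) (.leaf [(0, true), (1, true), (0, true), (1, false), (0, true), (1, true), (1, true), (1, true), (0, true), (1, false), (0, true), (1, true), (1, true)])) (.node (.leaf []) (.leaf [(1, false), (0, true), (1, false), (1, false), (0, true), (1, true), (0, true), (1, true), (0, true), (1, true), (0, true), (1, true), (1, true), (0, true), (1, true), (0, true)])))) (.node (.node (.node (.leaf []) (.leaf [])) (.node (.leaf []) (.leaf []))) (.node (.node (.leaf [(1, false), (0, true), (1, true), (0, true), (1, true), (1, true), (1, true), (0, true), (1, true), (1, true), (1, true), (0, true), (1,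 false), (0, true), (1, true)]) (.leaf [(1, false), (1, false), (0, true), (1, true), (1, true), (1, true), (0, true), (1, true), (1, true)])) (.leaf [])))))) (.node (.node (.node (.node (.node (.node (.leaf []) (.leaf [])) (.node (.leaf []) (.leaf [(1, true), (0, true), (1, true), (0, true), (1, false), (0, true), (1, true), (0, true), (1, false), (0, true), (1, false)]))) (.node (.node (.leaf []) (.leaf [])) (.node (.leaf []) (.leaf [(1, false), (1, false), (0, true), (1, false), (0, true), (1, true), (1, true), (0, true), (1, false), (1, false), (0, true), (1, true), (1, true), (0, true), (1, false)])))) (.node (.node (.node (.leaf []) (.leaf [(0, true), (1, true), (0, true), (1, false), (0, true), (1, true), (0, true), (1, false), (0, true), (1, false), (0, true), (1, true), (0, true), (1, true), (0, true), (1, false), (1, false)])) (.node (.leaf []) (.leaf []))) (.node (.node (.leaf []) (.leaf [])) (.node (.leaf [(1, false), (0, true), (1, true), (0, true), (1, true), (0, true), (1, false), (0, true), (1, false), (0, true), (1,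 true)]) (.leaf []))))) (.node (.node (.node (.node (.leaf []) (.leaf [])) (.node (.leaf []) (.leaf [(0, true), (1, true), (0, true), (1, true), (0, true), (1, false), (0, true), (1, false), (0, true), (1, true), (1, true), (0, true), (1, true), (1, true), (0, true), (1, false)]))) (.node (.node (.leaf [(0, true), (1, false), (1, false), (0, true), (1, false), (0, true), (1, true), (0, true), (1, false), (0, true), (1, true), (0, true), (1, true), (1, true), (0, true)]) (.leaf [])) (.node (.leaf [(1, false), (0, true), (1, true), (1, true), (1, true), (0, true), (1, true), (1, true), (1, true), (0, true), (1, true), (0, true), (1, false), (0, true), (1, false), (0, true)]) (.leaf [])))) (.node (.node (.node (.leaf []) (.leaf [])) (.node (.leaf [(0, true), (1, true), (0, true), (1, true), (0, true), (1, false), (0, true), (1, true), (1, true), (1, true), (0, true), (1, true), (1, true), (1, true), (0, true), (1, true)]) (.leaf []))) (.node (.node (.leaf []) (.leaf [])) (.node (.leaf []) (.leaf [(1, true), (0, true), (1, true), (0, true),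 (1, false), (0, true), (1, false), (0, true), (1, true), (0, true), (1, false), (0, true), (1, true)])))))) (.node (.node (.node (.node (.node (.leaf []) (.leaf [])) (.node (.leaf []) (.leaf []))) (.node (.node (.leaf []) (.leaf [])) (.node (.leaf [(1, false), (0, true), (1, true), (0, true), (1, false), (0, true), (1, false), (0, true), (1, true), (1, true), (1, true), (0, true), (1, true), (1, true)]) (.leaf [])))) (.node (.node (.node (.leaf []) (.leaf [])) (.node (.leaf []) (.leaf [(1, false), (0, true), (1, true), (1, true), (1, true), (0, true), (1, true), (0, true), (1, false), (0, true)]))) (.node (.node (.leaf []) (.leaf [(0, true), (1, true), (0, true), (1, false), (0, true), (1, true), (0, true), (1, false), (1, false), (0, true), (1, true), (0, true), (1, true), (1, true), (0, true)])) (.node (.leaf []) (.leaf [(1, true), (0, true), (1, false), (1, false), (0, true), (1, true), (1, true), (0, true), (1, false), (1, false), (0, true), (1, true), (0, true), (1, true), (1, true)]))))) (.node (.node (.node (.node (.leaf [])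 (.leaf [(1, false), (0, true), (1, true), (0, true), (1, true), (0, true), (1, false), (0, true), (1, false), (0, true), (1, true)])) (.node (.leaf [(1, true)]) (.leaf []))) (.node (.node (.leaf []) (.leaf [])) (.node (.leaf []) (.leaf [])))) (.node (.node (.node (.leaf []) (.leaf [])) (.node (.leaf []) (.leaf [(1, true), (1, true), (1, true), (0, true), (1, true), (0, true), (1, true), (1, true), (1, true), (0, true), (1, false), (0, true), (1, true), (1, true), (1, true)]))) (.node (.node (.leaf []) (.leaf [])) (.leaf []))))))) (.node (.node (.node (.node (.node (.node (.node (.leaf []) (.leaf [])) (.node (.leaf []) (.leaf [(0, true), (1, true), (0, true), (1, false), (0, true), (1, true), (0, true), (1, true), (0, true), (1, false), (1, false), (0, true), (1, false), (0, true), (1, true)]))) (.node (.node (.leaf [(1, true), (0, true), (1, true), (0, true), (1, false), (0, true), (1, false), (0, true)]) (.leaf [(1, false), (0, true), (1, true), (0, true), (1, true), (0, true), (1, false), (0, true), (1, true), (0, true), (1, true),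 (1, true), (0, true), (1, false), (1, false)])) (.node (.leaf []) (.leaf [])))) (.node (.node (.node (.leaf []) (.leaf [(1, false), (0, true), (1, false), (1, false), (0, true), (1, true), (1, true), (0, true), (1, false), (0, true), (1, true), (0, true), (1, false), (0, true), (1, false), (1, false)])) (.node (.leaf [(1, true), (1, true), (0, true), (1, true), (0, true), (1, false), (0, true), (1, true), (0, true), (1, false), (1, false), (0, true), (1, true), (1, true), (0, true), (1, true)]) (.leaf []))) (.node (.node (.leaf [(1, false), (1, false), (0, true), (1, true), (1, true), (0, true), (1, true), (1, true), (1, true)]) (.leaf [(1, true), (1, true), (1, true), (0, true), (1, true), (1, true), (0, true), (1, true), (0, true), (1, true), (0, true), (1, false), (0, true), (1, false)])) (.node (.leaf []) (.leaf [(1, false), (0, true), (1, true), (0, true), (1, true), (1, true), (0, true), (1, true), (0, true), (1, true), (0, true), (1, true), (0, true)]))))) (.node (.node (.node (.node (.leaf []) (.leaf [])) (.node (.leaf [])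 (.leaf [(0, true), (1, false), (0, true), (1, true), (0, true), (1, true), (1, true), (1, true), (0, true), (1, false), (0, true), (1, false), (0, true), (1, true), (1, true)]))) (.node (.node (.leaf []) (.leaf [])) (.node (.leaf []) (.leaf [(1, true), (0, true), (1, true), (0, true), (1, false), (0, true), (1, true), (0, true), (1, false), (1, false), (0, true), (1, false), (1, false), (0, true), (1, true)])))) (.node (.node (.node (.leaf []) (.leaf [])) (.node (.leaf [(0, true), (1, true), (0, true), (1, true), (0, true), (1, true), (1, true), (0, true), (1, true), (1, true), (1, true), (0, true), (1, true), (1, true), (1, true), (0, true), (1, false)]) (.leaf [(1, true), (0, true), (1, true), (0, true), (1, false), (0, true), (1, false), (0, true), (1, false), (1, false), (0, true), (1, true), (1, true), (1, true), (0, true), (1, true), (1, true)]))) (.node (.node (.leaf []) (.leaf [])) (.node (.leaf [(1, false), (0, true), (1, true), (0, true), (1, true), (1, true), (1, true), (0, true), (1, true), (1, true), (1, true), (0, true),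 (1, false), (0, true), (1, true), (0, true)]) (.leaf [])))))) (.node (.node (.node (.node (.node (.leaf []) (.leaf [])) (.node (.leaf [(0, true), (1, true), (0, true), (1, true), (0, true), (1, false), (0, true), (1, false)]) (.leaf []))) (.node (.node (.leaf []) (.leaf [])) (.node (.leaf []) (.leaf [(1, false), (1, false), (0, true), (1, true), (1, true), (0, true), (1, true), (0, true), (1, false), (1, false), (0, true), (1, true), (1, true), (1, true)])))) (.node (.node (.node (.leaf []) (.leaf [])) (.node (.leaf []) (.leaf [(0, true), (1, false), (1, false), (0, true), (1, false), (0, true), (1, false), (1, false), (0, true), (1, false), (0, true), (1, false), (0, true)]))) (.node (.node (.leaf []) (.leaf [(1, true), (0, true), (1, true), (0, true), (1, false), (0, true), (1, false), (0, true), (1, false)])) (.node (.leaf []) (.leaf [(0, true), (1, false), (0, true), (1, true), (0, true), (1, false), (0, true), (1, true), (1, true), (1, true), (0, true), (1, true), (1, true), (0, true), (1, true)]))))) (.node (.node (.node (.node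 (.leaf []) (.leaf [])) (.node (.leaf []) (.leaf []))) (.node (.node (.leaf []) (.leaf [(0, true), (1, true), (0, true), (1, true), (0, true), (1, true), (0, true), (1, false), (0, true), (1, false), (0, true), (1, false), (1, false), (0, true), (1, false), (1, false)])) (.node (.leaf []) (.leaf [])))) (.node (.node (.node (.leaf []) (.leaf [])) (.node (.leaf []) (.leaf [(1, true), (0, true), (1, true), (1, true), (0, true), (1, false), (1, false), (0, true), (1, true), (0, true), (1, false), (1, false), (0, true), (1, true), (1, true)]))) (.node (.node (.leaf []) (.leaf [])) (.leaf [])))))) (.node (.node (.node (.node (.node (.node (.leaf []) (.leaf [])) (.node (.leaf []) (.leaf []))) (.node (.node (.leaf []) (.leaf [])) (.node (.leaf [(0, true), (1, true), (1, true), (0, true), (1, false), (0, true), (1, true), (1, true), (1, true), (0, true), (1, true), (0, true), (1, false), (0, true), (1, true)]) (.leaf [(1, true), (0, true), (1, true), (0, true), (1, false), (0, true), (1, false), (0, true), (1, false), (1, false), (0, true),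 (1, true), (1, true), (1, true)])))) (.node (.node (.node (.leaf []) (.leaf [(1, true), (1, true), (0, true), (1, true), (1, true), (0, true), (1, true), (0, true), (1, true), (0, true), (1, false), (0, true), (1, false), (0, true), (1, false), (0, true)])) (.node (.leaf []) (.leaf [(1, false), (1, false), (0, true), (1, false), (0, true), (1, true), (1, true), (1, true), (0, true), (1, true), (0, true), (1, true), (1, true), (0, true), (1, true)]))) (.node (.node (.leaf []) (.leaf [(1, false), (0, true), (1, false), (1, false), (0, true), (1, true), (1, true), (1, true), (0, true), (1, true), (0, true), (1, false), (0, true), (1, true), (0, true)])) (.node (.leaf []) (.leaf [(1, false), (0, true), (1, false), (0, true), (1, true), (0, true), (1, false), (1, false), (0, true), (1, false), (0, true)]))))) (.node (.node (.node (.node (.leaf []) (.leaf [(1, true), (0, true), (1, true), (0, true), (1, false), (0, true), (1, false), (0, true)])) (.node (.leaf []) (.leaf [(1, true), (1, true), (0, true), (1, false), (1, false), (0, true),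 (1, true), (1, true), (0, true), (1, true), (0, true), (1, true), (0, true), (1, true), (1, true), (0, true)]))) (.node (.node (.leaf []) (.leaf [])) (.node (.leaf []) (.leaf [(0, true), (1, true), (1, true), (1, true), (0, true), (1, true), (0, true), (1, false), (0, true), (1, true), (1, true), (0, true), (1, false), (1, false)])))) (.node (.node (.node (.leaf []) (.leaf [])) (.node (.leaf []) (.leaf [(1, true), (0, true), (1, true), (0, true), (1, false), (1, false), (0, true), (1, false), (0, true), (1, false), (0, true), (1, false), (0, true), (1, true), (1, true)]))) (.node (.node (.leaf []) (.leaf [])) (.node (.leaf []) (.leaf [(1, true), (1, true), (1, true), (0, true), (1, true), (0, true), (1, true), (1, true), (0, true), (1, true), (1, true), (1, true), (0, true), (1, false)])))))) (.node (.node (.node (.node (.node (.leaf []) (.leaf [(0, true), (1, true), (0, true), (1, true), (0, true), (1, false), (0, true), (1, false)])) (.node (.leaf []) (.leaf []))) (.node (.node (.leaf []) (.leaf [])) (.node (.leaf []) (.leaf [(0,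 true), (1, false), (1, false), (0, true), (1, false), (0, true), (1, false), (0, true), (1, false), (1, false), (0, true), (1, true), (1, true), (0, true), (1, false), (1, false)])))) (.node (.node (.node (.leaf []) (.leaf [])) (.node (.leaf []) (.leaf [(0, true), (1, true), (1, true), (1, true), (0, true), (1, true), (1, true), (0, true), (1, true), (0, true), (1, true), (1, true), (0, true), (1, false), (1, false), (0, true)]))) (.node (.node (.leaf []) (.leaf [(1, true), (1, true), (0, true), (1, true), (1, true), (0, true), (1, true), (0, true), (1, true), (0, true), (1, false), (0, true), (1, false), (0, true), (1, false), (0, true)])) (.node (.leaf []) (.leaf [(0, true), (1, true), (1, true), (0, true), (1, false), (0, true), (1, false), (1, false), (0, true), (1, false), (0, true), (1, false), (0, true), (1, true), (1, true)]))))) (.node (.node (.node (.node (.leaf []) (.leaf [(1, false), (0, true), (1, false), (1, false), (0, true), (1, true), (1, true), (0, true), (1, false), (0, true), (1, true), (0, true), (1, false), (0,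 true), (1, false), (1, false)])) (.node (.leaf []) (.leaf []))) (.node (.node (.leaf []) (.leaf [])) (.node (.leaf []) (.leaf [(0, true), (1, true), (0, true), (1, true), (0, true), (1, true), (1, true), (0, true), (1, true), (0, true), (1, false), (0, true), (1, false)])))) (.node (.node (.node (.leaf []) (.leaf [(0, true), (1, false), (0, true), (1, true), (0, true), (1, true), (1, true), (1, true), (0, true), (1, true), (1, true), (1, true), (0, true), (1, false), (0, true), (1, true)])) (.node (.leaf []) (.leaf []))) (.node (.node (.leaf []) (.leaf [])) (.leaf [(1, true), (1, true), (1, true), (0, true), (1, false), (1, false), (0, true), (1, true), (1, true)])))))))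

/-- data -/
def val0 : Trie (Vec) := .node (.node (.node (.node (.node (.node (.node (.node (.leaf []) (.leaf [])) (.node (.leaf [0, 0, 0, 0, 0, 0, 0, 0, 0, 0, 0, 0, 0, 1]) (.leaf []))) (.node (.node (.leaf []) (.leaf [0, 0, 0, 0, 0, 0, 0, 0, 0, 0, 0, 0, 0, 1])) (.node (.leaf []) (.leaf [0, 0, 0, 0, 0, 0, 0, 0, 0, 0, 0, 0, 0, 0, 0, 0, 0, 0, 0, 0, 0, 0, 0, 0, 0, 0, 0, 0, 0, 0, 0, 0, 0, 1])))) (.node (.node (.node (.leaf []) (.leaf [0, 0, 0, 0, 0, 0, 0, 0, 0, 0, 0, 0, 0, 1])) (.node (.leaf [0, 0, 0, 0, 0, 0, 0, 0, 0, 0, 0, 0, 0, 1]) (.leaf []))) (.node (.node (.leaf []) (.leaf [0, 0, 0, 0, 0, (-5), 0, 0, 0, 0, 0, 0, 0, 1, 0, 0, 0, 0, 0, 0, 0, (-1)])) (.node (.leaf [0, 0, 0, 0, 0, 0, 0, 0, 0, 0, 0, 0, 0, 1]) (.leaf [0, 0, 0, 0, 0, 0, 0, 0, 0, 0, 0, 0, 0, 1]))))) (.node (.node (.node (.node (.leaf []) (.leaf [])) (.node (.leaf []) (.leaf [(-31), (-1), 19, 121, 8, (-3), 20, 2, 13, 3, (-3), 2, (-27), (-3), 1, (-1)]))) (.node (.node (.leaf [0, 0, 0, 0, 0, 0, 0, 0, 0, 0, 0, 0, 0, 1]) (.leaf [0, 0, 0, 0, 0, 0, 0, 0, 0, 0, 0, 0, 0, 1])) (.node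 (.leaf [0, 0, 0, 0, 0, 0, 0, 0, 0, 0, 0, 0, 0, 1]) (.leaf [(-100), 45, (-103), (-183), (-74), 15, (-19), (-9), (-50), (-20), 1, 30, (-6), (-1), 2, (-2), (-1), 0, (-1), 1, 0, 2, 0, 0, (-2), 0, 1, 0, 0, (-1), 0, 2, 1, 0, 1, 0, (-1), 0, 0, 0, 0, 1, (-1)])))) (.node (.node (.node (.leaf []) (.leaf [0, 0, 0, 0, 0, 0, 0, 0, 0, 0, 0, 0, 0, 0, 0, 0, 0, 0, 0, 0, 0, 1])) (.node (.leaf [0, 0, 0, 0, 0, 0, 0, 0, 0, 0, 0, 0, 0, 1]) (.leaf [(-1), 2, (-3), 1, (-3), (-4), (-1), 0, (-1), 0, 0, 0, 2, 1, 0, 0, 0, 0, 0, 0, 0, 0, (-1)]))) (.node (.node (.leaf []) (.leaf [0, 0, 0, 0, 0, (-7), 0, 0, 0, 0, 0, 0, 0, 1, 0, 0, 0, 0, 0, 0, 0, 0, 0, 0, 0, 0, 0, 0, 0, 0, 0, 0, 0, 0, 0, (-1)])) (.node (.leaf [0, 0, 0, 0, 0, 0, 0, 0, 0, 0, 0, 0, 0, 1]) (.leaf [0, 0, 0, 0, 0, 0, 0, 0, 0, 0, 0, 0, 0, 1])))))) (.node (.node (.node (.node (.node (.leaf []) (.leaf [0, 0, 0, 0, 0, 0, 0, 0, 0, 0, 0, 0, 0, 0, 0, 0, 0, 0, 0, 0, 0, 0, 0, 0, 0, 0, 1])) (.node (.leaf [0, 0, 0, 0, 0, 0, 0, 0, 0, 0, 0, 0, 0, 1]) (.leaf [0, 0, 0, 0, 0, 0, 0, 0, 0, 0, 0, 0, 0, 1]))) (.node (.node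 (.leaf [0, 0, 0, 0, 0, 0, 0, 0, 0, 0, 0, 0, 0, 1]) (.leaf [0, 0, 0, 0, 0, 0, 0, 0, 0, 0, 0, 0, 0, 0, 0, 0, 0, 0, 0, 0, 0, 0, 0, 0, 0, 0, 0, 0, 0, 0, 0, 0, 1])) (.node (.leaf [0, 0, 0, 0, 0, 0, 0, 0, 0, 0, 0, 0, 0, 1]) (.leaf [0, 0, 0, 0, 0, 0, 0, 0, 0, 0, 0, 0, 0, 1])))) (.node (.node (.node (.leaf [0, 0, 0, 0, 0, 0, 0, 0, 0, 0, 0, 0, 0, 1]) (.leaf [0, 0, 0, 0, 0, 0, 0, 0, 0, 0, 0, 0, 0, 1])) (.node (.leaf []) (.leaf []))) (.node (.node (.leaf [0, 0, 0, 0, 0, 0, 0, 0, 0, 0, 0, 0, 0, 1]) (.leaf [0, 0, 0, 0, 0, 0, 0, 0, 0, 0, 0, 0, 0, 1])) (.node (.leaf [0, 0, 0, 0, 0, 0, 0, 0, 0, 0, 0, 0, 0, 1]) (.leaf [0, 0, 0, 0, 0, 0, 0, 0, 0, 0, 0, 0, 0, 0, 0, 0, 0, 0, 0, 0, 0, 0, 0, 0, 0, 0, 0, 0, 0, 0, 0, 0, 0, 0, 0, 0, 0, 1]))))) (.node (.node (.node (.node (.leaf []) (.leaf [])) (.node (.leaf [0, 0, 0, 0, 0, 0, 0, 0, 0, 0, 0, 0, 0, 1]) (.leaf []))) (.node (.node (.leaf []) (.leaf [(-2), 1, (-2), (-1), (-2), (-4), (-1), 0, (-1), (-2), 0, 0, 2, 1, 0, 0, 0, 0, 0, 0, 0, 0, 0, 0, 0, 0, 0, 0, 0, 0, 0, 0, (-1)])) (.node (.leaf []) (.leaf [(-85), 23,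 (-74), 39, 23, 0, (-2), 0, (-18), 2, (-2), 7, (-39), (-2), 0, 0, 0, 0, 1, 1, (-1), 0, 0, 0, 0, 0, 0, 0, 0, 0, 0, 0, 0, 0, 1, 0, 0, 0, 0, 0, 0, (-1)])))) (.node (.node (.node (.leaf []) (.leaf [0, 0, 0, 0, 0, 0, 0, 0, 0, 0, 0, 0, 0, 1])) (.node (.leaf []) (.leaf [0, 0, 0, 0, 0, 0, 0, 0, 0, 0, 0, 0, 0, 1]))) (.node (.node (.leaf [76, (-58), (-19), (-52), 14, 49, (-39), (-32), (-31), (-46), 3, 38, 40, 6, 8, (-11), 2, 1, (-1), (-1), (-1), 4, (-1), 0, (-4), 0, 1, 0, 0, (-2), 0, 6, 0, 0, 4, 1, 1, 1, (-1), 2, 1, 1, (-3)]) (.leaf [0, 0, 0, 0, 0, 0, 0, 0, 0, 0, 0, 0, 0, 0, 0, 0, 0, 0, 0, 0, 0, 0, 0, 0, 0, 1])) (.leaf [0, 0, 0, 0, 0, 0, 0, 0, 0, 0, 0, 0, 0, 1])))))) (.node (.node (.node (.node (.node (.node (.leaf [0, 0, 0, 0, 0, 0, 0, 0, 0, 0, 0, 0, 0, 1]) (.leaf [0, 0, 0, 0, 0, 0, 0, 0, 0, 0, 0, 0, 0, 1])) (.node (.leaf []) (.leaf [0, 0, 0, 0, 0, 0, 0, 0, 0, 0, 0, 0, 0, 0, 0, 0, 0, 0, 0, 0, 0, 0, 0, 1]))) (.node (.node (.leaf []) (.leaf [])) (.node (.leaf []) (.leaf [363, (-125), 179, (-331), 9, 15, (-41), (-40), 5, (-7), 22, (-46), 187, (-6),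 (-4), 0, (-1), 1, (-1), (-1), 3, 1, 1, 0, 0, 1, 1, 3, (-1), (-2), 0, (-2), 1, 3, 2, 0, 0, 0, 0, 0, 0, 2, (-1)])))) (.node (.node (.node (.leaf []) (.leaf [(-122), 55, (-68), 29, (-66), 0, 5, 0, (-16), (-2), (-3), 26, (-44), 2, 3, (-2), 0, 0, 0, 0, 0, 1, 0, 0, (-2), 0, 0, 1, 0, (-1), 0, 2, 0, 0, 0, 0, (-1)])) (.node (.leaf []) (.leaf []))) (.node (.node (.leaf [0, 0, 0, 0, 0, 0, 0, 0, 0, 0, 0, 0, 0, 1]) (.leaf [0, 0, 0, 0, 0, 0, 0, 0, 0, 0, 0, 0, 0, 1])) (.node (.leaf [0, 0, 0, 0, 0, 0, 0, 0, 0, 0, 0, 0, 0, 0, 0, 0, 0, 0, 1]) (.leaf [0, 0, 0, 0, 0, 0, 0, 0, 0, 0, 0, 0, 0, 1]))))) (.node (.node (.node (.node (.leaf [0, 0, 0, 0, 0, 0, 0, 0, 0, 0, 0, 0, 0, 1]) (.leaf [])) (.node (.leaf []) (.leaf [19, 9, (-20), (-126), (-31), (-2), (-15), (-2), (-16), (-6), 3, (-1), 34, 4, (-1), 1]))) (.node (.node (.leaf [0, 0, 0, 0, 0, 0, 0, 0, 0, 0, 0, 0, 0, 0, 0, 0, 0, 0, 0, 0, 0, 0, 0, 0, 0, 0, 0, 0, 0, 0, 0, 1]) (.leaf [])) (.node (.leaf [136, (-39), 200, 148, 164, (-127), 68, 46, 89, 103, 5, (-150), 20, (-14), (-22), 24, (-2), (-1), 2, 0, 1, (-8),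 2, 0, 12, 0, (-3), (-3), 0, 7, 0, (-18), 0, 0, (-6), (-2), (-1), (-2), 0, (-3), (-2), (-2), 5]) (.leaf [0, 0, 0, 0, 0, 0, 0, 0, 0, 0, 0, 0, 0, 1])))) (.node (.node (.node (.leaf [0, 0, 0, 0, 0, 0, 0, 0, 0, 0, 0, 0, 0, 1]) (.leaf [])) (.node (.leaf [(-311), 121, (-128), 190, (-131), 0, 28, 9, (-27), 1, (-9), 51, (-129), 12, 4, (-2), 0, 1, 0, 0, 1, (-1), 0, 0, (-1), 0, 0, 0, 0, (-1), 0, 5, 0, 0, (-1), 0, 0, 0, 1, 1, 0, (-1), (-3)]) (.leaf []))) (.node (.node (.leaf [0, 0, 0, 0, 0, 0, 0, 0, 0, 0, 0, 0, 0, 1]) (.leaf [0, 0, 0, 0, 0, 0, 0, 0, 0, 0, 0, 0, 0, 1])) (.node (.leaf []) (.leaf [0, 0, 0, 0, 0, 0, 0, 0, 0, 0, 0, 0, 0, 0, 0, 0, 0, 0, 0, 0, 0, 0, 0, 0, 0, 0, 0, 0, 0, 0, 1])))))) (.node (.node (.node (.node (.node (.leaf []) (.leaf [0, 0, 0, 0, 0, 0, 0, 0, 0, 0, 0, 0, 0, 1])) (.node (.leaf [0, 0, 0, 0, 0, 0, 0, 0, 0, 0, 0, 0, 0, 1]) (.leaf [0, 0, 0, 0, 0, 0, 0, 0, 0, 0, 0, 0, 0, 1]))) (.node (.node (.leaf []) (.leaf [0, 0, 0, 0, 0, 0, 0, 0, 0, 0, 0, 0, 0, 1])) (.node (.leaf [0, 0, 0, 0, 0, 0, 0, 0, 0, 0, 0, 0, 0, 0, 0, 0, 0, 0, 0,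 0, 0, 0, 0, 0, 0, 0, 0, 0, 0, 0, 0, 0, 0, 0, 0, 0, 1]) (.leaf [])))) (.node (.node (.node (.leaf []) (.leaf [])) (.node (.leaf []) (.leaf [0, 0, 0, 0, 0, 0, 0, 0, 0, 0, 0, 0, 0, 0, 0, 0, 0, 0, 0, 0, 0, 0, 1]))) (.node (.node (.leaf []) (.leaf [0, 0, 0, 0, 0, 0, 0, 0, 0, 0, 0, 0, 0, 0, 0, 0, 0, 0, 0, 0, 0, 0, 0, 0, 0, 0, 0, 0, 0, 0, 0, 0, 0, 0, 0, 1])) (.node (.leaf []) (.leaf [(-61), 110, 17, 18, (-278), 0, 24, 19, (-10), (-29), 4, 3, 92, 6, (-3), 5, 3, (-4), 2, (-3), 1, (-3), 1, 0, 2, 0, (-1), 1, 2, 3, 0, (-3), (-1), (-1), (-2), 1, 1, (-1), 0, (-3), (-1), 0, 2]))))) (.node (.node (.node (.node (.leaf [0, 0, 0, 0, 0, 0, 0, 0, 0, 0, 0, 0, 0, 1]) (.leaf [0, 0, 0, 0, 0, 0, 0, 0, 0, 0, 0, 0, 0, 0, 0, 0, 0, 0, 0, 0, 1])) (.node (.leaf []) (.leaf [0, 0, 0, 0, 0, 0, 0, 0, 0, 0, 0, 0, 0, 1]))) (.node (.node (.leaf [0, 0, 0, 0, 0, 0, 0, 0, 0, 0, 0, 0, 0, 1]) (.leaf [0, 0, 0, 0, 0, 0, 0, 0, 0, 0, 0, 0, 0, 1])) (.node (.leaf []) (.leaf [0, 0, 0, 0, 0, 0, 0, 0, 0, 0, 0, 0, 0, 1])))) (.node (.node (.node (.leaf [0, 0, 0, 0, 0, 0, 0, 0, 0, 0, 0,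 0, 0, 1]) (.leaf [])) (.node (.leaf [0, 0, 0, 0, 0, 0, 0, 0, 0, 0, 0, 0, 0, 1]) (.leaf [(-44), 59, (-47), (-187), (-115), 8, (-11), 11, (-28), (-10), 2, 10, 38, (-3), 1, (-1), 0, 0, 0, 0, 0, 0, 0, 0, 0, 0, 0, 0, 0, 0, 0, 0, 0, 0, 0, 0, 1, 1]))) (.node (.node (.leaf []) (.leaf [0, 0, 0, 0, 0, 0, 0, 0, 0, 0, 0, 0, 0, 1])) (.leaf []))))))) (.node (.node (.node (.node (.node (.node (.node (.leaf []) (.leaf [])) (.node (.leaf []) (.leaf [0, 0, 0, 0, 0, 0, 0, 0, 0, 0, 0, 0, 0, 0, 0, 0, 0, 0, 0, 0, 0, 0, 0, 0, 0, 0, 0, 0, 0, 0, 0, 0, 0, 0, 1]))) (.node (.node (.leaf [(-16), 13, (-5), (-8), (-31), (-3), 4, 0, (-4), (-2), 0, 2, 6, 0, 1, (-1)]) (.leaf [0, 0, 0, 0, 0, 0, 0, 0, 0, 0, 0, 0, 0, 0, 0, 0, 0, 0, 0, 0, 0, 0, 0, 0, 0, 0, 0, 0, 0, 0, 0, 0, 0, 0, 0, 0, 0, 0, 0, 1])) (.node (.leaf []) (.leaf [])))) (.node (.node (.node (.leaf []) (.leaf [111, (-58), 61, (-23), 87, (-13), (-3), 0, 15, 9, 3, (-25), 28, (-3), (-2), 1, 0, 0, 0, 0, 0, (-1), 0, 0, 2, 0, 0, (-1), 0, 1, 0, (-2)])) (.node (.leaf [(-92), 48, (-49), (-2), (-79), 7, 1, 0, (-15), (-9),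 (-3), 25, (-22), 3, 2, (-1), 0, 0, 0, 0, 0, 0, 0, 0, (-1), 0, 0, 1, 0, (-1), 0, 2]) (.leaf []))) (.node (.node (.leaf [0, 0, 0, 0, 0, 0, 0, 0, 0, 0, 0, 0, 0, 0, 0, 0, 0, 0, 0, 1]) (.leaf [0, 0, 0, 0, 0, (-5), (-1), 0, 0, 0, 0, 0, 0, 0, 1, 0, 0, 0, 0, 0, 0, 0, 0, 0, 0, 0, 0, 0, 0, 0, 0, 0, 0, 0, 0, 0, 0, 0, (-1)])) (.node (.leaf []) (.leaf [0, 0, 0, 0, 0, 0, 0, 0, 0, 0, 0, 0, 0, 0, 0, 0, 0, 0, 0, 0, 0, 0, 0, 0, 0, 0, 0, 0, 0, 1]))))) (.node (.node (.node (.node (.leaf []) (.leaf [])) (.node (.leaf []) (.leaf [8, (-1), 2, (-7), 13, (-8), (-1), 0, 6, 4, 0, (-5), (-2), 0, 1, 0, 0, 0, 0, 0, 0, 0, 0, 0, 0, 0, 0, 0, 0, 0, 0, 0, 0, 0, 0, 0, 0, 0, 0, 0, 0, (-1)]))) (.node (.node (.leaf []) (.leaf [])) (.node (.leaf []) (.leaf [0, 0, 0, 0, 0, 0, 0, 0, 0, 0, 0, 0, 0, 0, 0, 0, 0, 0, 0, 0, 0, 0, 0, 0, 0, 0, 0, 0, 0, 0, 0, 0, 0, 0, 0, 0, 0, 0, 0, 0, 0, 1])))) (.node (.node (.node (.leaf []) (.leaf [0, 0, 0, 0, 0, 0, 0, 0, 0, 0, 0, 0, 0, 0, 1])) (.node (.leaf [(-27), 23, (-18), (-14), (-44), 12, (-6), 10, (-15), (-7), 0, 4, 14, 1, (-2), 2, 0, 0,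 0, 0, 0, 1, 0, 0, 0, 0, 0, 0, 0, 0, 0, 0, 0, 0, 0, 0, 0, 2]) (.leaf [288, (-63), 172, (-375), (-98), (-13), (-25), (-21), 12, (-3), 17, (-28), 166, 5, (-3), 4, (-1), (-1), (-1), (-1), 3, (-1), 1, 0, 0, 1, 0, 2, 0, 1, 0, (-2), 1, 0, (-1), 1, 0, (-3), 0, (-1), (-1), 2, 1]))) (.node (.node (.leaf []) (.leaf [])) (.node (.leaf [(-92), 38, (-66), (-15), 27, (-14), 5, 17, (-1), 17, (-8), 7, (-55), (-1), 1, 2, (-2), 0, 0, 1, 0, 0, 0, 0, 0, 0, 0, 0, 0, 0, 0, 0, 0, 0, (-3), 0, (-1), 0, 1, 0, 0, 0, 1]) (.leaf [])))))) (.node (.node (.node (.node (.node (.leaf []) (.leaf [0, 0, 0, 0, 0, 0, 0, 0, 0, 0, 0, 0, 0, 0, 1])) (.node (.leaf [0, 0, 0, 0, 0, 0, 0, 0, 0, 0, 0, 0, 0, 0, 0, 1]) (.leaf []))) (.node (.node (.leaf []) (.leaf [])) (.node (.leaf []) (.leaf [22, (-13), 25, 2, (-2), (-7), 4, 0, 4, (-5), 0, 1, 10, (-2), 2, (-1), 1, 0, 0, (-1), 0, 0, 0, 0, 0, 0, 0, (-1), 0, 0, 0, 0, 0, 0, (-1)])))) (.node (.node (.node (.leaf []) (.leaf [])) (.node (.leaf []) (.leaf [0, 0, 0, 0, 0, 0, 0, 0, 0, 0, 0, 0, 0, 0, 0, 0, 0, 0, 0, 0, 0, 0, 0, 0, 0, 0, 0, 1])))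 (.node (.node (.leaf []) (.leaf [0, 0, 0, 0, 0, 0, 0, 0, 0, 0, 0, 0, 0, 0, 0, 0, 0, 1])) (.node (.leaf []) (.leaf [(-5), (-3), 2, 7, 3, (-5), (-1), 0, (-2), (-2), 0, 2, (-4), 0, 1, 0, 0, 0, 0, 0, 0, 0, 0, 0, 0, 0, 0, 0, 0, 0, 0, 0, 0, 0, 0, 0, 0, 0, 0, 0, (-1)]))))) (.node (.node (.node (.node (.leaf []) (.leaf [])) (.node (.leaf []) (.leaf []))) (.node (.node (.leaf []) (.leaf [84, (-27), 54, (-22), 24, (-18), 6, (-5), 14, 12, 2, (-24), 38, (-8), 1, 2, 0, (-2), 0, (-1), 1, 0, 0, 0, 1, 0, 0, 0, 0, 1, 0, (-3), 0, 0, (-2), 1, 0, 0, 0, (-1), 0, 0, 1])) (.node (.leaf []) (.leaf [0, 0, 0, 0, 0, 0, 0, 0, 0, 0, 0, 0, 0, 0, 1])))) (.node (.node (.node (.leaf [0, 0, 0, 0, 0, 0, 0, 0, 0, 0, 0, 0, 0, 0, 1]) (.leaf [])) (.node (.leaf []) (.leaf [(-93), 59, (-55), (-57), (-117), 7, (-1), 0, (-24), (-17), 0, 25, (-1), 3, 3, (-1), 0, 0, 0, 0, 0, 1, 0, 0, (-2), 0, 0, 0, 0, (-1), 0, 2]))) (.node (.node (.leaf []) (.leaf [])) (.leaf [])))))) (.node (.node (.node (.node (.node (.node (.leaf []) (.leaf [])) (.node (.leaf []) (.leaf []))) (.node (.node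 (.leaf []) (.leaf [0, 0, 0, 0, 0, 0, 0, 0, 0, 0, 0, 0, 0, 0, 1])) (.node (.leaf [6, 4, (-8), (-35), (-11), (-5), (-4), 0, (-4), (-3), 0, 0, 13, 0, 1, 0, 0, 0, 0, 0, 0, 0, 0, 0, 0, 0, 0, 0, 0, 0, 0, 0, 0, 0, (-1)]) (.leaf [0, 0, 0, 0, 0, 0, 0, 0, 0, 0, 0, 0, 0, 0, 0, 0, 0, 0, 0, 0, 0, 0, 0, 0, 0, 0, 0, 0, 0, 0, 0, 0, 0, 0, 0, 0, 0, 0, 1])))) (.node (.node (.node (.leaf []) (.leaf [5, 1, 3, 3, 1, (-9), 1, 0, 3, 1, 0, (-5), 5, 0, 1, 0, 0, (-1), 0, 0, 0, 0, 0, 0, 0, 0, 0, 0, 0, 0, 0, 0, 0, 0, 0, 0, 0, 0, 0, (-1)])) (.node (.leaf []) (.leaf [(-8), 25, (-32), (-102), (-43), (-1), (-15), 1, (-16), (-3), 4, 1, 21, 2, (-1), 1, (-1), 0, 0, 1, 0, 0, 0, 0, (-1), 0, 0, 1, 0, (-1), 0, 0, 0, 0, 1]))) (.node (.node (.leaf []) (.leaf [0, 0, 0, 0, 0, 0, 0, 0, 0, 0, 0, 0, 0, 0, 0, 0, 0, 0, 0, 0, 0, 0, 0, 0, 0, 0, 0, 0, 0, 0, 0, 0, 0, 0, 0, 0, 0, 0, 0, 0, 1])) (.node (.leaf []) (.leaf [0, 0, 0, 0, 0, 0, 0, 0, 0, 0, 0, 0, 0, 0, 0, 0, 0, 0, 0, 0, 0, 0, 0, 0, 1]))))) (.node (.node (.node (.node (.leaf []) (.leaf [(-16), 13, (-5), (-8), (-31), (-3), 4, 0,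 (-4), (-2), 0, 2, 6, 0, 1, 0, (-1)])) (.node (.leaf []) (.leaf [(-119), 58, (-111), (-112), (-77), 4, (-18), 6, (-46), (-25), 1, 31, (-10), 10, 1, (-1), 0, 1, 0, 0, (-1), 0, 0, 0, (-1), 0, 0, (-1), 0, (-1), 0, 2, 0, 0, 1, (-1), 0, 0, 0, 1, 0, 0, (-1)]))) (.node (.node (.leaf []) (.leaf [])) (.node (.leaf []) (.leaf [0, 0, 0, 0, 0, 0, 0, 0, 0, 0, 0, 0, 0, 0, 0, 0, 0, 0, 0, 0, 0, 0, 0, 0, 0, 0, 0, 0, 0, 0, 0, 0, 0, 0, 0, 0, 0, 0, 0, 0, 0, 0, 1])))) (.node (.node (.node (.leaf []) (.leaf [])) (.node (.leaf [0, 0, 0, 0, 0, 0, 0, 0, 0, 0, 0, 0, 0, 0, 1]) (.leaf [386, (-60), 175, (-628), (-230), 27, (-64), (-38), (-24), (-50), 28, (-24), 294, 0, 0, (-1), 0, (-1), (-1), (-2), 3, 2, 1, 0, (-1), 1, 1, 1, 0, 0, 0, 0, 1, 0, 1, 1, 0, 0, 0, (-1), 0, 2, (-1)]))) (.node (.node (.leaf []) (.leaf [])) (.node (.leaf []) (.leaf [(-214), 119, (-143), 29, (-296), 78, (-11), (-29), (-70), (-68), (-4), 91, 9, 5, 15, (-12), 2, (-2), (-1), (-2), (-1), 8, (-2), 0, (-9), 1, 1, 3, 0, (-4), 0, 9, 1, 0, 2, 3, 0, 3, (-1), 0, 1, 2, (-2)])))))) (.node (.node (.node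 (.node (.node (.leaf []) (.leaf [0, 0, 0, 0, 0, 0, 0, 0, 0, 0, 0, 0, 0, 0, 0, 0, 1])) (.node (.leaf []) (.leaf []))) (.node (.node (.leaf [0, 0, 0, 0, 0, 0, 0, 0, 0, 0, 0, 0, 0, 0, 1]) (.leaf [])) (.node (.leaf []) (.leaf [129, (-52), 60, (-77), 13, 12, (-11), (-18), 10, (-7), 2, (-2), 51, (-4), 6, (-3), 0, (-1), (-1), 1, 0, 3, (-1), 0, (-2), 0, 1, 0, (-1), (-1), 0, 2, 1, 0, (-1), 2, 0, 1, 0, 0, 1])))) (.node (.node (.node (.leaf []) (.leaf [])) (.node (.leaf []) (.leaf [(-72), 19, 17, 253, 15, (-11), 29, 13, 21, 20, (-4), (-8), (-55), 4, (-5), 4, 0, 0, 1, 0, 0, (-2), 1, 0, 2, 0, (-1), 1, 0, 1, 0, (-2), 0, 0, 0, 0, 1, (-1), 0, 0, (-1), 0, 1]))) (.node (.node (.leaf []) (.leaf [76, (-40), 19, (-65), 47, 7, (-17), (-5), 1, (-9), 3, (-4), 24, (-2), (-1), (-1), 0, 1, 0, 1, 0, 0, 0, 0, 0, 0, 0, 0, 0, 0, 0, 0, 0, 0, 2, 0, 0, 0, 0, 0, 0, 0, (-1)])) (.node (.leaf []) (.leaf [(-146), 138, (-109), (-252), (-336), 28, (-17), (-2), (-62), (-60), 4, 53, 70, 6, 7, (-3), 1, (-2), 0, (-1), 0, 2, 0, 0, (-4), 0, 0, 1, 1, (-1), 0, 4, 0, (-1), (-1), 1,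 0, 0, 1, (-1)]))))) (.node (.node (.node (.node (.leaf []) (.leaf [111, (-58), 61, (-23), 87, (-13), (-3), 0, 15, 9, 3, (-25), 28, (-3), (-1), 1, 0, 0, 0, 0, 0, 0, 0, 0, 1, 0, 0, (-1), 0, 1, 0, (-2)])) (.node (.leaf []) (.leaf []))) (.node (.node (.leaf []) (.leaf [])) (.node (.leaf [0, 0, 0, 0, 0, 0, 0, 0, 0, 0, 0, 0, 0, 0, 1]) (.leaf [0, 0, 0, 0, 0, 0, 0, 0, 0, 0, 0, 0, 0, 0, 0, 0, 0, 0, 0, 0, 0, 0, 0, 0, 0, 0, 0, 0, 1])))) (.node (.node (.node (.leaf []) (.leaf [89, (-38), 65, 16, (-26), 9, (-6), (-17), 1, (-19), 8, (-7), 55, 1, 0, (-2), 2, 0, 0, (-1), 0, 0, 0, 0, 0, 0, 0, 0, 0, 0, 0, 0, 0, 0, 3, 0, 1, 0, (-1), 0, 0, 0, (-1)])) (.node (.leaf []) (.leaf []))) (.node (.node (.leaf []) (.leaf [])) (.leaf [(-2), (-1), (-1), 0, 1, (-1), 0, 0, 0, (-2), 0, 0, 0, 0, 1, 0, 0, 0, 0, (-1)])))))))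

/-- data -/
def rank0 : Trie (ℕ) := .node (.node (.node (.node (.node (.node (.node (.node (.leaf 0) (.leaf 0)) (.node (.leaf 15) (.leaf 0))) (.node (.node (.leaf 0) (.leaf 33)) (.node (.leaf 0) (.leaf 83)))) (.node (.node (.node (.leaf 0) (.leaf 30)) (.node (.leaf 18) (.leaf 0))) (.node (.node (.leaf 0) (.leaf 69)) (.node (.leaf 24) (.leaf 48))))) (.node (.node (.node (.node (.leaf 0) (.leaf 0)) (.node (.leaf 0) (.leaf 106))) (.node (.node (.leaf 10) (.leaf 35)) (.node (.leaf 23) (.leaf 112)))) (.node (.node (.node (.leaf 0) (.leaf 68)) (.node (.leaf 19) (.leaf 71))) (.node (.node (.leaf 0) (.leaf 87)) (.node (.leaf 26) (.leaf 50)))))) (.node (.node (.node (.node (.node (.leaf 1) (.leaf 75)) (.node (.leaf 21) (.leaf 41))) (.node (.node (.leaf 9) (.leaf 81)) (.node (.leaf 22) (.leaf 45)))) (.node (.node (.node (.leaf 6) (.leaf 31)) (.node (.leaf 0) (.leaf 0))) (.node (.node (.leaf 13) (.leaf 38)) (.node (.leaf 25) (.leaf 89))))) (.node (.node (.node (.node (.leaf 0) (.leaf 0)) (.node (.leaf 17) (.leaf 0))) (.node (.node (.leaf 0)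 (.leaf 82)) (.node (.leaf 0) (.leaf 113)))) (.node (.node (.node (.leaf 0) (.leaf 32)) (.node (.leaf 0) (.leaf 44))) (.node (.node (.leaf 119) (.leaf 74)) (.leaf 27)))))) (.node (.node (.node (.node (.node (.node (.leaf 3) (.leaf 28)) (.node (.leaf 0) (.leaf 72))) (.node (.node (.leaf 0) (.leaf 0)) (.node (.leaf 0) (.leaf 124)))) (.node (.node (.node (.leaf 0) (.leaf 115)) (.node (.leaf 0) (.leaf 0))) (.node (.node (.leaf 12) (.leaf 37)) (.node (.leaf 64) (.leaf 49))))) (.node (.node (.node (.node (.leaf 4) (.leaf 0)) (.node (.leaf 0) (.leaf 100))) (.node (.node (.leaf 80) (.leaf 0)) (.node (.leaf 121) (.leaf 46)))) (.node (.node (.node (.leaf 7) (.leaf 0)) (.node (.leaf 120) (.leaf 0))) (.node (.node (.leaf 14) (.leaf 39)) (.node (.leaf 0) (.leaf 79)))))) (.node (.node (.node (.node (.node (.leaf 0) (.leaf 29)) (.node (.leaf 16) (.leaf 42))) (.node (.node (.leaf 0) (.leaf 34)) (.node (.leaf 88) (.leaf 0)))) (.node (.node (.node (.leaf 0) (.leaf 0)) (.node (.leaf 0) (.leaf 70))) (.node (.node (.leaf 0) (.leaf 86)) (.node (.leaf 0)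 (.leaf 127))))) (.node (.node (.node (.node (.leaf 5) (.leaf 67)) (.node (.leaf 2) (.leaf 43))) (.node (.node (.leaf 11) (.leaf 36)) (.node (.leaf 0) (.leaf 47)))) (.node (.node (.node (.leaf 8) (.leaf 0)) (.node (.leaf 20) (.leaf 125))) (.node (.node (.leaf 0) (.leaf 40)) (.leaf 0))))))) (.node (.node (.node (.node (.node (.node (.node (.leaf 0) (.leaf 0)) (.node (.leaf 0) (.leaf 84))) (.node (.node (.leaf 60) (.leaf 92)) (.node (.leaf 0) (.leaf 0)))) (.node (.node (.node (.leaf 0) (.leaf 103)) (.node (.leaf 107) (.leaf 0))) (.node (.node (.leaf 65) (.leaf 91)) (.node (.leaf 0) (.leaf 78))))) (.node (.node (.node (.node (.leaf 0) (.leaf 0)) (.node (.leaf 0) (.leaf 97))) (.node (.node (.leaf 0) (.leaf 0)) (.node (.leaf 0) (.leaf 96)))) (.node (.node (.node (.leaf 0) (.leaf 56)) (.node (.leaf 114) (.leaf 117))) (.node (.node (.leaf 0) (.leaf 0)) (.node (.leaf 108) (.leaf 0)))))) (.node (.node (.node (.node (.node (.leaf 0) (.leaf 55)) (.node (.leaf 59) (.leaf 0))) (.node (.node (.leaf 0) (.leaf 0)) (.node (.leaf 0) (.leaf 101)))) (.node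 (.node (.node (.leaf 0) (.leaf 0)) (.node (.leaf 0) (.leaf 76))) (.node (.node (.leaf 0) (.leaf 63)) (.node (.leaf 0) (.leaf 95))))) (.node (.node (.node (.node (.leaf 0) (.leaf 0)) (.node (.leaf 0) (.leaf 0))) (.node (.node (.leaf 0) (.leaf 105)) (.node (.leaf 0) (.leaf 58)))) (.node (.node (.node (.leaf 51) (.leaf 0)) (.node (.leaf 0) (.leaf 109))) (.node (.node (.leaf 0) (.leaf 0)) (.leaf 0)))))) (.node (.node (.node (.node (.node (.node (.leaf 0) (.leaf 0)) (.node (.leaf 0) (.leaf 0))) (.node (.node (.leaf 0) (.leaf 57)) (.node (.leaf 85) (.leaf 90)))) (.node (.node (.node (.leaf 0) (.leaf 93)) (.node (.leaf 0) (.leaf 110))) (.node (.node (.leaf 0) (.leaf 94)) (.node (.leaf 0) (.leaf 73))))) (.node (.node (.node (.node (.leaf 0) (.leaf 62)) (.node (.leaf 0) (.leaf 111))) (.node (.node (.leaf 0) (.leaf 0)) (.node (.leaf 0) (.leaf 98)))) (.node (.node (.node (.leaf 0) (.leaf 0)) (.node (.leaf 53) (.leaf 123))) (.node (.node (.leaf 0) (.leaf 0)) (.node (.leaf 0) (.leaf 126)))))) (.node (.node (.node (.node (.node (.leaf 0) (.leaf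 61)) (.node (.leaf 0) (.leaf 0))) (.node (.node (.leaf 52) (.leaf 0)) (.node (.leaf 0) (.leaf 118)))) (.node (.node (.node (.leaf 0) (.leaf 0)) (.node (.leaf 0) (.leaf 116))) (.node (.node (.leaf 0) (.leaf 99)) (.node (.leaf 0) (.leaf 122))))) (.node (.node (.node (.node (.leaf 0) (.leaf 102)) (.node (.leaf 0) (.leaf 0))) (.node (.node (.leaf 0) (.leaf 0)) (.node (.leaf 54) (.leaf 77)))) (.node (.node (.node (.leaf 0) (.leaf 104)) (.node (.leaf 0) (.leaf 0))) (.node (.node (.leaf 0) (.leaf 0)) (.leaf 66)))))))

/-- data -/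
def tree0 : Trie (ℕ × ℕ) := .node (.node (.node (.node (.node (.node (.node (.leaf (0, 0)) (.leaf (47, 1))) (.node (.leaf (22, 0)) (.leaf (77, 1)))) (.node (.node (.leaf (9, 1)) (.leaf (61, 0))) (.node (.leaf (33, 1)) (.leaf (98, 1))))) (.node (.node (.node (.leaf (4, 1)) (.leaf (54, 0))) (.node (.leaf (28, 0)) (.leaf (85, 1)))) (.node (.node (.leaf (15, 1)) (.leaf (68, 1))) (.node (.leaf (41, 0)) (.leaf (106, 0)))))) (.node (.node (.node (.node (.leaf (2, 1)) (.leaf (50, 1))) (.node (.leaf (25, 1)) (.leaf (82, 1)))) (.node (.node (.leaf (12, 0)) (.leaf (64, 0))) (.node (.leaf (37, 0)) (.leaf (103, 1))))) (.node (.node (.node (.leaf (7, 1)) (.leaf (57, 1))) (.node (.leaf (31, 0)) (.leaf (94, 1)))) (.node (.node (.leaf (18, 1)) (.leaf (74, 1))) (.node (.leaf (43, 0)) (.leaf (115, 0))))))) (.node (.node (.node (.node (.node (.leaf (0, 1)) (.leaf (48, 1))) (.node (.leaf (23, 1)) (.leaf (79, 0)))) (.node (.node (.leaf (11, 0)) (.leaf (62, 1))) (.node (.leaf (36, 0)) (.leaf (102, 0))))) (.node (.node (.node (.leaf (6, 0)) (.leaf (55, 0)))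 (.node (.leaf (29, 1)) (.leaf (92, 1)))) (.node (.node (.leaf (17, 0)) (.leaf (70, 0))) (.node (.leaf (42, 0)) (.leaf (111, 1)))))) (.node (.node (.node (.node (.leaf (3, 1)) (.leaf (52, 1))) (.node (.leaf (27, 0)) (.leaf (84, 1)))) (.node (.node (.leaf (13, 1)) (.leaf (65, 1))) (.node (.leaf (38, 1)) (.leaf (104, 1))))) (.node (.node (.node (.leaf (8, 1)) (.leaf (59, 0))) (.node (.leaf (32, 1)) (.leaf (96, 0)))) (.node (.node (.leaf (20, 1)) (.leaf (75, 1))) (.leaf (46, 0))))))) (.node (.node (.node (.node (.node (.node (.leaf (0, 0)) (.leaf (48, 0))) (.node (.leaf (22, 1)) (.leaf (78, 1)))) (.node (.node (.leaf (10, 1)) (.leaf (61, 1))) (.node (.leaf (35, 1)) (.leaf (99, 1))))) (.node (.node (.node (.leaf (5, 1)) (.leaf (54, 1))) (.node (.leaf (28, 1)) (.leaf (87, 1)))) (.node (.node (.leaf (16, 0)) (.leaf (69, 0))) (.node (.leaf (41, 1)) (.leaf (109, 0)))))) (.node (.node (.node (.node (.leaf (3, 0)) (.leaf (51, 1))) (.node (.leaf (26, 1)) (.leaf (83, 1)))) (.node (.node (.leaf (12, 1)) (.leaf (64, 1))) (.node (.leaf (37, 1)) (.leaf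 (104, 0))))) (.node (.node (.node (.leaf (8, 0)) (.leaf (58, 1))) (.node (.leaf (31, 1)) (.leaf (95, 1)))) (.node (.node (.leaf (19, 0)) (.leaf (75, 0))) (.node (.leaf (43, 1)) (.leaf (124, 1))))))) (.node (.node (.node (.node (.node (.leaf (1, 1)) (.leaf (49, 0))) (.node (.leaf (24, 0)) (.leaf (81, 0)))) (.node (.node (.leaf (11, 1)) (.leaf (63, 0))) (.node (.leaf (36, 1)) (.leaf (102, 1))))) (.node (.node (.node (.leaf (6, 1)) (.leaf (56, 1))) (.node (.leaf (30, 1)) (.leaf (93, 1)))) (.node (.node (.leaf (17, 1)) (.leaf (70, 1))) (.node (.leaf (42, 1)) (.leaf (112, 1)))))) (.node (.node (.node (.node (.leaf (4, 0)) (.leaf (53, 1))) (.node (.leaf (27, 1)) (.leaf (85, 0)))) (.node (.node (.leaf (14, 0)) (.leaf (68, 0))) (.node (.leaf (39, 1)) (.leaf (105, 0))))) (.node (.node (.node (.leaf (9, 0)) (.leaf (59, 1))) (.node (.leaf (33, 0)) (.leaf (97, 1)))) (.node (.node (.leaf (21, 1)) (.leaf (77, 0))) (.leaf (46, 1)))))))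

/-- data -/
def cert0 : Trie (ℕ × ℕ × ℕ) := .node (.node (.node (.node (.node (.node (.node (.leaf (0, 0, 1)) (.leaf (8, 0, 6))) (.node (.leaf (2, 61, 1)) (.leaf (3, 62, 2)))) (.node (.node (.leaf (2, 27, 1)) (.leaf (21, 0, 9))) (.node (.leaf (2, 109, 1)) (.leaf (4, 49, 47))))) (.node (.node (.node (.leaf (2, 11, 1)) (.leaf (13, 0, 12))) (.node (.leaf (2, 79, 1)) (.leaf (28, 1, 21)))) (.node (.node (.leaf (2, 42, 1)) (.leaf (26, 0, 12))) (.node (.leaf (3, 20, 4)) (.leaf (4, 71, 4)))))) (.node (.node (.node (.node (.leaf (2, 4, 1)) (.leaf (2, 76, 1))) (.node (.leaf (2, 69, 1)) (.leaf (5, 33, 5)))) (.node (.node (.leaf (2, 34, 0)) (.leaf (3, 35, 1))) (.node (.leaf (3, 7, 4)) (.leaf (4, 63, 51))))) (.node (.node (.node (.leaf (2, 17, 1)) (.leaf (17, 0, 12))) (.node (.leaf (2, 102, 1)) (.leaf (3, 72, 4)))) (.node (.node (.leaf (2, 49, 1)) (.leaf (3, 38, 2))) (.node (.leaf (5, 0, 9)) (.leaf (4, 79, 7))))))) (.node (.node (.node (.node (.node (.leaf (2, 0, 1)) (.leaf (9, 0, 9))) (.node (.leaf (2, 64, 1)) (.leaf (4, 17, 60)))) (.node (.node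 (.leaf (2, 31, 1)) (.leaf (22, 0, 11))) (.node (.leaf (3, 0, 4)) (.leaf (4, 54, 64))))) (.node (.node (.node (.leaf (2, 14, 1)) (.leaf (15, 0, 8))) (.node (.leaf (2, 85, 1)) (.leaf (3, 26, 4)))) (.node (.node (.leaf (2, 46, 1)) (.leaf (3, 50, 2))) (.node (.leaf (4, 0, 6)) (.leaf (4, 76, 14)))))) (.node (.node (.node (.node (.leaf (2, 8, 1)) (.leaf (2, 107, 1))) (.node (.leaf (2, 75, 1)) (.leaf (13, 34, 8)))) (.node (.node (.leaf (2, 37, 1)) (.leaf (2, 91, 1))) (.node (.leaf (3, 13, 4)) (.leaf (4, 69, 15))))) (.node (.node (.node (.leaf (2, 22, 1)) (.leaf (19, 0, 13))) (.node (.leaf (2, 105, 1)) (.leaf (4, 15, 6)))) (.node (.node (.leaf (2, 55, 1)) (.leaf (3, 78, 3))) (.node (.leaf (6, 0, 10)) (.leaf (4, 81, 21)))))))) (.node (.node (.node (.node (.node (.node (.leaf (1, 0, 7)) (.leaf (3, 15, 4))) (.node (.leaf (2, 63, 1)) (.leaf (31, 0, 11)))) (.node (.node (.leaf (2, 28, 1)) (.leaf (2, 82, 1))) (.node (.leaf (2, 115, 1)) (.leaf (4, 51, 48))))) (.node (.node (.node (.leaf (2, 12, 1)) (.leaf (14, 0, 10))) (.node (.leaf (2, 81, 1)) (.leaf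 (2, 100, 0)))) (.node (.node (.leaf (2, 43, 1)) (.leaf (27, 0, 11))) (.node (.leaf (3, 47, 4)) (.leaf (4, 74, 17)))))) (.node (.node (.node (.node (.leaf (2, 6, 1)) (.leaf (11, 0, 11))) (.node (.leaf (2, 70, 1)) (.leaf (10, 34, 8)))) (.node (.node (.leaf (2, 36, 1)) (.leaf (24, 0, 10))) (.node (.leaf (3, 10, 4)) (.leaf (4, 65, 14))))) (.node (.node (.node (.leaf (2, 19, 1)) (.leaf (18, 0, 12))) (.node (.leaf (2, 104, 1)) (.leaf (3, 87, 1)))) (.node (.node (.leaf (2, 54, 1)) (.leaf (29, 0, 10))) (.node (.leaf (3, 25, 3)) (.leaf (4, 80, 42))))))) (.node (.node (.node (.node (.node (.leaf (2, 3, 1)) (.leaf (10, 0, 9))) (.node (.leaf (2, 68, 1)) (.leaf (4, 33, 9)))) (.node (.node (.leaf (2, 33, 1)) (.leaf (23, 0, 10))) (.node (.leaf (3, 1, 4)) (.leaf (4, 62, 39))))) (.node (.node (.node (.leaf (2, 16, 1)) (.leaf (16, 0, 11))) (.node (.leaf (2, 96, 1)) (.leaf (3, 29, 4)))) (.node (.node (.leaf (2, 48, 1)) (.leaf (28, 0, 9))) (.node (.leaf (3, 5, 2)) (.leaf (4, 77, 55)))))) (.node (.node (.node (.node (.leaf (2, 9, 1)) (.leaf (12, 0, 10)))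 (.node (.leaf (2, 77, 1)) (.leaf (25, 66, 49)))) (.node (.node (.leaf (2, 41, 1)) (.leaf (25, 0, 8))) (.node (.leaf (3, 18, 4)) (.leaf (4, 70, 53))))) (.node (.node (.node (.leaf (2, 24, 1)) (.leaf (20, 0, 5))) (.node (.leaf (2, 106, 1)) (.leaf (4, 38, 15)))) (.node (.node (.leaf (2, 59, 1)) (.leaf (30, 0, 11))) (.leaf (7, 0, 8)))))))

/-- data -/
def pot0 : Trie (Vec) := .node (.node (.node (.node (.node (.node (.node (.leaf []) (.leaf [2, 6])) (.node (.leaf [2, 4]) (.leaf [3, 7]))) (.node (.node (.leaf [2, 3]) (.leaf [3, 6])) (.node (.leaf [1, 6]) (.leaf [3, 8])))) (.node (.node (.node (.leaf [0, 3]) (.leaf [4, 5])) (.node (.leaf [3, 4]) (.leaf [2, 8]))) (.node (.node (.leaf [3, 3]) (.leaf [4, 6])) (.node (.leaf [3, 5]) (.leaf [4, 8]))))) (.node (.node (.node (.node (.leaf [0, 2]) (.leaf [4, 5])) (.node (.leaf [3, 4]) (.leaf [3, 7]))) (.node (.node (.leaf [2, 3]) (.leaf [3, 6])) (.node (.leaf [4, 4]) (.leaf [3, 8])))) (.node (.node (.node (.leaf [1, 3]) (.leaf [2, 7])) (.node (.leaf [2, 5]) (.leaf [3, 8]))) (.node (.node (.leaf [2,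 4]) (.leaf [3, 7])) (.node (.leaf [3, 5]) (.leaf [4, 8])))))) (.node (.node (.node (.node (.node (.leaf [0, 1]) (.leaf [1, 7])) (.node (.leaf [1, 5]) (.leaf [3, 7]))) (.node (.node (.leaf [2, 3]) (.leaf [3, 6])) (.node (.leaf [4, 4]) (.leaf [4, 7])))) (.node (.node (.node (.leaf [2, 2]) (.leaf [3, 6])) (.node (.leaf [2, 5]) (.leaf [3, 8]))) (.node (.node (.leaf [3, 3]) (.leaf [5, 5])) (.node (.leaf [3, 5]) (.leaf [3, 9]))))) (.node (.node (.node (.node (.leaf [1, 2]) (.leaf [4, 5])) (.node (.leaf [3, 4]) (.leaf [3, 7]))) (.node (.node (.leaf [1, 4]) (.leaf [2, 7])) (.node (.leaf [3, 5]) (.leaf [2, 9])))) (.node (.node (.node (.leaf [0, 4]) (.leaf [3, 6])) (.node (.leaf [2, 5]) (.leaf [4, 7]))) (.node (.node (.leaf [2, 4]) (.leaf [3, 7])) (.leaf [3, 5])))))) (.node (.node (.node (.node (.node (.node (.leaf [1]) (.leaf [2, 6])) (.node (.leaf [1, 5]) (.leaf [3, 7]))) (.node (.node (.leaf [2, 3]) (.leaf [2, 7])) (.node (.leaf [4, 4]) (.leaf [3, 8])))) (.node (.node (.node (.leaf [2, 2]) (.leaf [3, 6])) (.node (.leaf [2, 5]) (.leaf [5,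 6]))) (.node (.node (.leaf [3, 3]) (.leaf [4, 6])) (.node (.leaf [2, 6]) (.leaf [5, 7]))))) (.node (.node (.node (.node (.leaf [2, 1]) (.leaf [3, 6])) (.node (.leaf [3, 4]) (.leaf [3, 7]))) (.node (.node (.leaf [1, 4]) (.leaf [2, 7])) (.node (.leaf [3, 5]) (.leaf [3, 8])))) (.node (.node (.node (.leaf [1, 3]) (.leaf [3, 6])) (.node (.leaf [1, 6]) (.leaf [4, 7]))) (.node (.node (.leaf [2, 4]) (.leaf [4, 6])) (.node (.leaf [2, 6]) (.leaf [4, 9])))))) (.node (.node (.node (.node (.node (.leaf [1, 1]) (.leaf [5, 4])) (.node (.leaf [4, 3]) (.leaf [3, 7]))) (.node (.node (.leaf [1, 4]) (.leaf [3, 6])) (.node (.leaf [3, 5]) (.leaf [3, 8])))) (.node (.node (.node (.leaf [1, 3]) (.leaf [3, 6])) (.node (.leaf [2, 5]) (.leaf [4, 7]))) (.node (.node (.leaf [2, 4]) (.leaf [4, 6])) (.node (.leaf [2, 6]) (.leaf [3, 9]))))) (.node (.node (.node (.node (.leaf [1, 2]) (.leaf [3, 6])) (.node (.leaf [2, 5]) (.leaf [3, 7]))) (.node (.node (.leaf [1, 4]) (.leaf [5, 5])) (.node (.leaf [2, 6]) (.leaf [6, 6])))) (.node (.node (.node (.leaf [3, 2]) (.leaf [2,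 7])) (.node (.leaf [2, 5]) (.leaf [3, 8]))) (.node (.node (.leaf [1, 5]) (.leaf [4, 6])) (.leaf [2, 6]))))))

/-- the table -/
def table0 : Table where
  size := 126
  ngen := 2
  next g x := next0.get (2 * g + x)
  prev g x := prev0.get (2 * g + x)
  lab g x := lab0.get (2 * g + x)
  val g x := val0.get (2 * g + x)
  rank g x := rank0.get (2 * g + x)
  tree g := tree0.get g
  cert j := cert0.get j
  nded := 127
  rels := [⟨[(1, true), (0, true), (1, false)], [(0, true)], []⟩,
    ⟨[(0, true), (1, true), (1, true), (0, true), (1, true), (1, true), (1, true), (0, true), (1, false), (0, false), (1, false), (1, false), (1, false), (1, false)], [(1, true)], []⟩,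
    ⟨[(0, true), (0, true)], [], [0, 0, 0, 0, 0, 0, 0, 0, 0, 0, 0, 0, 0, 1]⟩,
    ⟨[(1, true), (1, true), (1, true), (1, true), (1, true)], [], [0, 0, 0, 0, 0, 0, 0, 0, 0, 0, 0, 0, 0, 0, 1]⟩,
    ⟨[(1, true), (1, true), (1, true), (1, true), (0, true), (1, true), (1, true), (0, false), (1, true), (0, true), (1, true), (1, true), (1, true), (0, true), (1, false), (0, false), (1, false), (1, false), (1, false), (0, false), (1, false), (0, true), (1, true), (1, true), (0, true), (1, true), (1, true), (1, true), (0, true), (1, false), (0, false), (1, false), (1, false), (1, false), (0, false), (1, true), (1, true), (1, true), (0, true), (1, true), (0, false), (1, false), (1, false), (1, false), (0, false), (1, false), (1, false), (0, false), (1, true), (0, false), (1, true), (1, true), (1, true), (0, true), (1, true), (0, false), (1, false), (1, false), (1, false), (0, false), (1, false), (1, false), (0, false), (1, true), (0, false), (1, false)], [], [0, 0, 0, 0, 0, 0, 0, 0, 0, 0, 0, 0, 0, 0, 0, 1]⟩,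
    ⟨[(0, true), (1, true), (0, true), (1, true), (0, true), (1, true), (0, true), (1, true), (0, true), (1, true), (0, false), (1, false), (1, false), (0, false), (1, true), (0, true), (1, true), (1, true), (1, true), (0, true), (1, false), (0, false), (1, false), (1, false), (1, false), (0, false), (1, false), (0, true), (1, true), (1, true), (0, true), (1, true), (1, true), (1, true), (0, true), (1, false), (0, false), (1, false), (1, false), (1, false), (0, false), (1, true), (1, true), (1, true), (0, true), (1, true), (0, false), (1, false), (1, false), (1, false), (0, false), (1, false), (1, false), (0, false), (1, true), (0, false), (1, true), (1, true), (1, true), (0, true), (1, true), (0, false), (1, false), (1, false), (1, false), (0, false), (1, false), (1, false), (0, false), (1, true), (0, false), (1, false)], [], [0, 0, 0, 0, 0, 0, 0, 0, 0, 0, 0, 0, 0, 0, 0, 0, 1]⟩,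
    ⟨[(0, true), (1, true), (1, true), (0, true), (1, true), (0, true), (1, true), (0, true), (1, true), (0, true), (1, true), (0, false), (1, true), (0, true), (1, false), (0, false), (1, false), (1, false), (1, false), (0, false), (1, false), (0, true), (1, true), (1, true), (0, true), (1, true), (1, true), (1, true), (0, true), (1, false), (0, false), (1, false), (1, false), (1, false), (0, false), (1, false), (0, true), (1, true), (1, true), (0, true), (1, true), (1, true), (1, true), (0, true), (1, false), (0, false), (1, false), (1, false), (1, false), (0, false), (1, true), (1, true), (1, true), (0, true), (1, true), (0, false), (1, false), (1, false), (1, false), (0, false), (1, false), (1, false), (0, false), (1, true), (0, false), (1, true), (1, true), (1, true), (0, true), (1, true), (0, false), (1, false), (1, false), (1, false), (0, false), (1, false), (1, false), (0, false)], [], [0, 0, 0, 0, 0, 0, 0, 0, 0, 0, 0, 0, 0, 0, 0, 0, 0, 1]⟩,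
    ⟨[(0, true), (1, true), (1, true), (1, true), (0, true), (1, true), (1, true), (1, true), (0, true), (1, false), (1, false), (1, false), (0, false), (1, false), (1, false), (1, false), (0, false), (1, true), (1, true), (1, true), (1, true), (0, true), (1, true), (0, false), (1, false), (1, false), (1, false), (0, false), (1, false), (1, false), (0, false), (1, true), (0, false), (1, false), (0, true), (1, true), (1, true), (0, true), (1, true), (1, true), (1, true), (0, true), (1, false), (0, false), (1, false), (1, false), (1, false), (0, false), (1, false), (0, true), (1, true), (1, true), (0, true), (1, true), (1, true), (1, true), (0, true), (1, false), (0, false), (1, false), (1, false), (1, false), (0, false), (1, true), (1, true), (1, true), (0, true), (1, true), (0, false), (1, false), (1, false), (1, false), (0, false), (1, false), (1, false), (0, false), (1, true), (0, false), (1, true), (1, true), (1, true), (0, true), (1, true), (0, false), (1, false), (1, false), (1, false), (0, false), (1, false), (1, false), (0,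 false), (1, true), (0, false), (1, false), (0, true), (1, true), (1, true), (0, true), (1, true), (1, true), (1, true), (0, true), (1, false), (0, false), (1, false), (1, false), (1, false), (1, false)], [], [0, 0, 0, 0, 0, 0, 0, 0, 0, 0, 0, 0, 0, 0, 0, 0, 0, 0, 1]⟩,
    ⟨[(0, true), (1, true), (0, true), (1, true), (0, true), (1, true), (1, true), (0, false), (1, false), (0, false), (1, true), (0, true), (1, true), (0, false), (1, false), (1, false), (1, false), (0, false), (1, false), (1, false), (0, false), (1, true), (1, true), (1, true), (1, true), (0, true), (1, true), (0, false), (1, false), (1, false), (1, false), (0, false), (1, false), (1, false), (0, false), (1, true), (1, true), (1, true), (1, true), (0, true), (1, true), (0, false), (1, false), (1, false), (1, false), (0, false), (1, false), (1, false), (0, false), (1, true), (0, false), (1, true), (1, true), (1, true), (0, true), (1, true), (0, false), (1, false), (1, false), (1, false), (0, false), (1, false), (1, false), (0, false), (1, true), (1, true), (1, true),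 (1, true), (0, true), (1, true), (0, false), (1, false), (1, false), (1, false), (0, false), (1, false), (1, false), (0, false), (1, true), (0, false), (1, false), (0, true), (1, true), (1, true), (0, true), (1, true), (1, true), (1, true), (0, true), (1, false), (0, false), (1, false), (1, false), (1, false), (1, false), (0, true), (1, true), (1, true), (0, true), (1, true), (1, true), (1, true), (0, true), (1, false), (0, false), (1, false), (1, false), (1, false), (1, false)], [], [0, 0, 0, 0, 0, 0, 0, 0, 0, 0, 0, 0, 0, 0, 0, 0, 0, 0, 0, 1]⟩,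
    ⟨[(0, true), (1, true), (1, true), (0, true), (1, true), (0, true), (1, true), (1, true), (1, true), (0, true), (1, false), (1, false), (1, false), (0, false), (1, false), (0, false), (1, false), (1, false), (0, false), (1, true), (1, true), (1, true), (1, true), (0, true), (1, true), (0, false), (1, false), (1, false), (1, false), (0, false), (1, false), (1, false), (0, false), (1, true), (0, false), (1, false), (0, true), (1, true), (1, true), (0, true), (1, true), (1, true), (1, true), (0, true), (1, false), (0, false), (1, false), (1, false), (1, false), (0, false), (1, false), (0, true), (1, true), (1, true), (0, true), (1, true), (1, true), (1, true), (0, true), (1, false), (0, false), (1, false), (1, false), (1, false), (0, false), (1, true), (1, true), (1, true), (0, true), (1, true), (0, false), (1, false), (1, false), (1, false), (0, false), (1, false), (1, false), (0, false), (1, true), (0, false), (1, true), (1, true), (1, true), (0, true), (1, true), (0, false), (1, false), (1, false), (1, false), (0, false), (1, false),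 (1, false), (0, false), (1, true), (0, false), (1, false), (0, true), (1, true), (1, true), (0, true), (1, true), (1, true), (1, true), (0, true), (1, false), (0, false), (1, false), (1, false), (1, false), (1, false)], [], [0, 0, 0, 0, 0, 0, 0, 0, 0, 0, 0, 0, 0, 0, 0, 0, 0, 0, 0, 0, 1]⟩,
    ⟨[(0, true), (1, true), (1, true), (1, true), (0, true), (1, true), (1, true), (1, true), (1, true), (0, true), (1, false), (1, false), (0, false), (1, false), (0, false), (1, false), (1, false), (0, false), (1, false), (0, false), (1, true), (0, false), (1, false), (0, true), (1, true), (1, true), (0, true), (1, true), (1, true), (1, true), (0, true), (1, false), (0, false), (1, false), (1, false), (1, false), (0, false), (1, false), (0, true), (1, true), (1, true), (0, true), (1, true), (1, true), (1, true), (0, true), (1, false), (0, false), (1, false), (1, false), (1, false), (1, false), (0, true), (1, true), (1, true), (0, true), (1, true), (1, true), (1, true), (0, true), (1, false), (0, false), (1, false), (1, false), (1, false), (0, false),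 (1, true), (1, true), (1, true), (0, true), (1, true), (0, false), (1, false), (1, false), (1, false), (0, false), (1, false), (1, false), (0, false), (1, true), (0, false), (1, false), (0, true), (1, true), (1, true), (0, true), (1, true), (1, true), (1, true), (0, true), (1, false), (0, false), (1, false), (1, false), (1, false), (0, false), (1, false), (0, true), (1, true), (1, true), (0, true), (1, true), (1, true), (1, true), (0, true), (1, false), (0, false), (1, false), (1, false), (1, false), (1, false)], [], [0, 0, 0, 0, 0, 0, 0, 0, 0, 0, 0, 0, 0, 0, 0, 0, 0, 0, 0, 0, 0, 1]⟩,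
    ⟨[(0, true), (1, true), (1, true), (1, true), (0, true), (1, true), (1, true), (0, true), (1, true), (0, true), (1, true), (0, true), (1, false), (1, false), (1, false), (0, false), (1, false), (1, false), (0, false), (1, false), (1, false), (1, false), (0, false), (1, true), (0, false), (1, false), (0, true), (1, true), (1, true), (0, true), (1, true), (1, true), (1, true), (0, true), (1, false), (0, false), (1, false), (1, false), (1, false), (0, false), (1, true), (1, true), (1, true), (0, true), (1, true), (0, false), (1, false), (1, false), (1, false), (0, false), (1, false), (1, false), (0, false), (1, true), (0, false), (1, true), (1, true), (1, true), (0, true), (1, true), (0, false), (1, false), (1, false), (1, false), (0, false), (1, false), (1, false), (0, false), (1, true), (1, true), (1, true), (1, true), (0, true), (1, true), (0, false), (1, false), (1, false), (1, false), (0, false), (1, false), (1, false), (0, false), (1, true), (1, true), (1, true), (1, true), (0, true), (1, true), (0, false), (1, false), (1, false),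 (1, false), (0, false), (1, false), (1, false), (0, false), (1, true), (0, false), (1, false), (0, true), (1, true), (1, true), (0, true), (1, true), (1, true), (1, true), (0, true), (1, false), (0, false), (1, false), (1, false), (1, false), (1, false)], [], [0, 0, 0, 0, 0, 0, 0, 0, 0, 0, 0, 0, 0, 0, 0, 0, 0, 0, 0, 0, 0, 0, 1]⟩,
    ⟨[(0, true), (1, true), (1, true), (1, true), (1, true), (0, true), (1, true), (1, true), (0, true), (1, true), (0, true), (1, false), (0, false), (1, false), (1, false), (0, false), (1, false), (1, false), (0, true), (1, true), (1, true), (1, true), (0, true), (1, false), (0, false), (1, false), (1, false), (1, false), (0, false), (1, false), (0, true), (1, true), (1, true), (0, true), (1, true), (1, true), (1, true), (0, true), (1, false), (0, false), (1, false), (1, false), (1, false), (0, false), (1, true), (1, true), (1, true), (0, true), (1, true), (0, false), (1, false), (1, false), (1, false), (0, false), (1, false), (1, false), (0, false), (1, true), (0, false), (1, false), (0, true), (1, true),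 (1, true), (0, true), (1, true), (1, true), (1, true), (0, true), (1, false), (0, false), (1, false), (1, false), (1, false), (0, false), (1, true), (1, true), (1, true), (0, true), (1, true), (0, false), (1, false), (1, false), (1, false), (0, false), (1, false), (1, false), (0, false), (1, true), (0, false), (1, true), (1, true), (1, true), (0, true), (1, true), (0, false), (1, false), (1, false), (1, false), (0, false), (1, false), (1, false), (0, false)], [], [0, 0, 0, 0, 0, 0, 0, 0, 0, 0, 0, 0, 0, 0, 0, 0, 0, 0, 0, 0, 0, 0, 0, 1]⟩,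
    ⟨[(0, true), (1, true), (1, true), (1, true), (1, true), (0, true), (1, true), (0, true), (1, true), (0, true), (1, true), (0, true), (1, true), (0, false), (1, false), (0, false), (1, false), (0, false), (1, false), (1, false), (0, false), (1, false), (0, false), (1, true), (0, false), (1, false), (0, true), (1, true), (1, true), (0, true), (1, true), (1, true), (1, true), (0, true), (1, false), (0, false), (1, false), (1, false), (1, false), (0, false), (1, false), (0, true), (1, true), (1, true), (0, true), (1, true), (1, true), (1, true), (0, true), (1, false), (0, false), (1, false), (1, false), (1, false), (1, false), (0, true), (1, true), (1, true), (0, true), (1, true), (1, true), (1, true), (0, true), (1, false), (0, false), (1, false), (1, false), (1, false), (0, false), (1, true), (1, true), (1, true), (0, true), (1, true), (0, false), (1, false), (1, false), (1, false), (0, false), (1, false), (1, false), (0, false), (1, true), (0, false), (1, false), (0, true), (1, true), (1, true), (0, true), (1, true), (1, true),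 (1, true), (0, true), (1, false), (0, false), (1, false), (1, false), (1, false), (0, false), (1, false), (0, true), (1, true), (1, true), (0, true), (1, true), (1, true), (1, true), (0, true), (1, false), (0, false), (1, false), (1, false), (1, false), (1, false)], [], [0, 0, 0, 0, 0, 0, 0, 0, 0, 0, 0, 0, 0, 0, 0, 0, 0, 0, 0, 0, 0, 0, 0, 0, 1]⟩,
    ⟨[(0, true), (1, true), (1, true), (1, true), (0, true), (1, true), (1, true), (0, true), (1, true), (1, true), (0, true), (1, false), (1, false), (0, false), (1, false), (1, false), (0, false), (1, false), (1, false), (1, false), (0, false), (1, true), (1, true), (1, true), (1, true), (0, true), (1, true), (0, false), (1, false), (1, false), (1, false), (0, false), (1, false), (1, false), (0, false), (1, true), (1, true), (1, true), (1, true), (0, true), (1, true), (0, false), (1, false), (1, false), (1, false), (0, false), (1, false), (1, false), (0, false), (1, true), (0, false), (1, true), (1, true), (1, true), (0, true), (1, true), (0, false), (1, false), (1, false), (1, false), (0,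 false), (1, false), (1, false), (0, false), (1, true), (1, true), (1, true), (1, true), (0, true), (1, true), (0, false), (1, false), (1, false), (1, false), (0, false), (1, false), (1, false), (0, false), (1, true), (1, true), (1, true), (1, true), (0, true), (1, true), (0, false), (1, false), (1, false), (1, false), (0, false), (1, false), (1, false), (0, false), (1, true), (0, false), (1, false), (0, true), (1, true), (1, true), (0, true), (1, true), (1, true), (1, true), (0, true), (1, false), (0, false), (1, false), (1, false), (1, false), (1, false), (0, true), (1, true), (1, true), (0, true), (1, true), (1, true), (1, true), (0, true), (1, false), (0, false), (1, false), (1, false), (1, false), (1, false)], [], [0, 0, 0, 0, 0, 0, 0, 0, 0, 0, 0, 0, 0, 0, 0, 0, 0, 0, 0, 0, 0, 0, 0, 0, 0, 1]⟩,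
    ⟨[(1, true), (1, true), (1, true), (0, true), (1, true), (1, true), (1, true), (1, true), (0, true), (1, false), (1, false), (1, false), (1, false), (0, false), (1, true), (0, true), (1, true), (0, false), (1, false), (1, false), (1, false), (0, false), (1, false), (1, false), (0, false), (1, true), (0, false), (1, true), (1, true), (1, true), (0, true), (1, true), (0, false), (1, false), (1, false), (1, false), (0, false), (1, false), (1, false), (0, false), (1, true), (0, false), (1, true), (1, true), (1, true), (0, true), (1, true), (0, false), (1, false), (1, false), (1, false), (0, false), (1, false), (1, false), (0, false), (1, true), (1, true), (1, true), (1, true), (0, true), (1, true), (0, false), (1, false), (1, false), (1, false), (0, false), (1, false), (1, false), (0, false), (1, true), (1, true), (1, true), (1, true), (0, true), (1, true), (0, false), (1, false), (1, false), (1, false), (0, false), (1, false), (1, false), (0, false), (1, true), (0, false), (1, false), (0, true), (1, true), (1, true), (0, true), (1,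 true), (1, true), (1, true), (0, true), (1, false), (0, false), (1, false), (1, false), (1, false), (0, false), (1, false), (0, true), (1, true), (1, true), (0, true), (1, true), (1, true), (1, true), (0, true), (1, false), (0, false), (1, false), (1, false), (1, false), (0, false), (1, false)], [], [0, 0, 0, 0, 0, 0, 0, 0, 0, 0, 0, 0, 0, 0, 0, 0, 0, 0, 0, 0, 0, 0, 0, 0, 0, 0, 1]⟩,
    ⟨[(0, true), (1, true), (1, true), (0, true), (1, true), (1, true), (1, true), (1, true), (0, true), (1, true), (1, true), (1, true), (0, false), (1, false), (1, false), (0, false), (1, false), (0, false), (1, false), (1, false), (1, false), (1, false), (0, false), (1, true), (0, false), (1, false), (0, true), (1, true), (1, true), (0, true), (1, true), (1, true), (1, true), (0, true), (1, false), (0, false), (1, false), (1, false), (1, false), (0, false), (1, false), (0, true), (1, true), (1, true), (0, true), (1, true), (1, true), (1, true), (0, true), (1, false), (0, false), (1, false), (1, false), (1, false), (0, false), (1, false), (0, true), (1,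 true), (1, true), (0, true), (1, true), (1, true), (1, true), (0, true), (1, false), (0, false), (1, false), (1, false), (1, false), (1, false), (0, true), (1, true), (1, true), (0, true), (1, true), (1, true), (1, true), (0, true), (1, false), (0, false), (1, false), (1, false), (1, false), (0, false), (1, false), (0, true), (1, true), (1, true), (0, true), (1, true), (1, true), (1, true), (0, true), (1, false), (0, false), (1, false), (1, false), (1, false), (0, false), (1, false), (0, true), (1, true), (1, true), (0, true), (1, true), (1, true), (1, true), (0, true), (1, false), (0, false), (1, false), (1, false), (1, false), (1, false), (0, true), (1, true), (1, true), (0, true), (1, true), (1, true), (1, true), (0, true), (1, false), (0, false), (1, false), (1, false), (1, false), (0, false), (1, false)], [], [0, 0, 0, 0, 0, 0, 0, 0, 0, 0, 0, 0, 0, 0, 0, 0, 0, 0, 0, 0, 0, 0, 0, 0, 0, 0, 0, 1]⟩,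
    ⟨[(0, true), (1, true), (0, true), (1, true), (1, true), (0, true), (1, true), (0, true), (1, true), (0, true), (1, true), (0, true), (1, true), (0, false), (1, false), (1, false), (0, false), (1, false), (0, false), (1, false), (1, false), (0, false), (1, false), (1, false), (1, false), (0, true), (1, true), (1, true), (0, true), (1, true), (1, true), (1, true), (0, true), (1, false), (0, false), (1, false), (1, false), (1, false), (0, false), (1, false), (0, true), (1, true), (1, true), (0, true), (1, true), (1, true), (1, true), (0, true), (1, false), (0, false), (1, false), (1, false), (1, false), (0, false), (1, true), (1, true), (1, true), (0, true), (1, true), (0, false), (1, false), (1, false), (1, false), (0, false), (1, false), (1, false), (0, false), (1, true), (0, false), (1, true), (1, true), (1, true), (0, true), (1, true), (0, false), (1, false), (1, false), (1, false), (0, false), (1, false), (1, false), (0, false), (1, true), (1, true), (1, true), (1, true), (0, true), (1, true), (0, false), (1, false), (1, false),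 (1, false), (0, false), (1, false), (1, false), (0, false), (1, true), (0, false), (1, true), (1, true), (1, true), (0, true), (1, true), (0, false), (1, false), (1, false), (1, false), (0, false), (1, false), (1, false), (0, false), (1, true), (0, false), (1, true), (1, true), (1, true), (0, true), (1, true), (0, false), (1, false), (1, false), (1, false), (0, false), (1, false), (1, false), (0, false), (1, true), (0, false), (1, false)], [], [0, 0, 0, 0, 0, 0, 0, 0, 0, 0, 0, 0, 0, 0, 0, 0, 0, 0, 0, 0, 0, 0, 0, 0, 0, 0, 0, 0, 1]⟩,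
    ⟨[(0, true), (1, true), (1, true), (0, true), (1, true), (1, true), (1, true), (1, true), (0, true), (1, true), (1, true), (0, true), (1, true), (0, false), (1, false), (0, false), (1, false), (0, false), (1, false), (0, false), (1, false), (1, false), (1, false), (1, false), (0, false), (1, true), (0, false), (1, true), (1, true), (1, true), (0, true), (1, true), (0, false), (1, false), (1, false), (1, false), (0, false), (1, false), (1, false), (0, false), (1, true), (0, false), (1, true), (1, true), (1, true), (0, true), (1, true), (0, false), (1, false), (1, false), (1, false), (0, false), (1, false), (1, false), (0, false), (1, true), (0, false), (1, true), (1, true), (1, true), (0, true), (1, true), (0, false), (1, false), (1, false), (1, false), (0, false), (1, false), (1, false), (0, false), (1, true), (0, false), (1, true), (1, true), (1, true), (0, true), (1, true), (0, false), (1, false), (1, false), (1, false), (0, false), (1, false), (1, false), (0, false), (1, true), (1, true), (1, true), (1, true), (0, true), (1,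 true), (0, false), (1, false), (1, false), (1, false), (0, false), (1, false), (1, false), (0, false), (1, true), (0, false), (1, true), (1, true), (1, true), (0, true), (1, true), (0, false), (1, false), (1, false), (1, false), (0, false), (1, false), (1, false), (0, false), (1, true), (0, false), (1, false), (0, true), (1, true), (1, true), (0, true), (1, true), (1, true), (1, true), (0, true), (1, false), (0, false), (1, false), (1, false), (1, false), (1, false)], [], [0, 0, 0, 0, 0, 0, 0, 0, 0, 0, 0, 0, 0, 0, 0, 0, 0, 0, 0, 0, 0, 0, 0, 0, 0, 0, 0, 0, 0, 1]⟩,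
    ⟨[(1, true), (1, true), (1, true), (0, true), (1, true), (1, true), (0, true), (1, true), (0, true), (1, true), (1, true), (0, true), (1, true), (0, true), (1, false), (0, false), (1, false), (1, false), (0, false), (1, false), (0, false), (1, false), (1, false), (0, false), (1, true), (0, true), (1, true), (0, false), (1, false), (1, false), (1, false), (0, false), (1, false), (1, false), (0, false), (1, true), (0, false), (1, false), (0, true), (1, true), (1, true), (0, true), (1, true), (1, true), (1, true), (0, true), (1, false), (0, false), (1, false), (1, false), (1, false), (0, false), (1, true), (1, true), (1, true), (0, true), (1, true), (0, false), (1, false), (1, false), (1, false), (0, false), (1, false), (1, false), (0, false), (1, true), (0, false), (1, false), (0, true), (1, true), (1, true), (0, true), (1, true), (1, true), (1, true), (0, true), (1, false), (0, false), (1, false), (1, false), (1, false), (0, false), (1, false), (0, true), (1, true), (1, true), (0, true), (1, true), (1, true), (1, true), (0, true),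 (1, false), (0, false), (1, false), (1, false), (1, false), (0, false), (1, true), (1, true), (1, true), (0, true), (1, true), (0, false), (1, false), (1, false), (1, false), (0, false), (1, false), (1, false), (0, false), (1, true), (0, false), (1, true), (1, true), (1, true), (0, true), (1, true), (0, false), (1, false), (1, false), (1, false), (0, false), (1, false), (1, false), (0, false)], [], [0, 0, 0, 0, 0, 0, 0, 0, 0, 0, 0, 0, 0, 0, 0, 0, 0, 0, 0, 0, 0, 0, 0, 0, 0, 0, 0, 0, 0, 0, 1]⟩,
    ⟨[(1, true), (1, true), (0, true), (1, true), (1, true), (0, true), (1, false), (1, false), (0, false), (1, false), (0, false), (1, true), (1, true), (1, true), (0, true), (1, true), (0, false), (1, false), (1, false), (1, false), (0, false), (1, false), (1, false), (0, false), (1, true), (1, true), (1, true), (1, true), (0, true), (1, true), (0, false), (1, false), (1, false), (1, false), (0, false), (1, false), (1, false), (0, false), (1, true), (0, false), (1, true), (1, true), (1, true), (0, true), (1, true), (0, false), (1, false), (1,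 false), (1, false), (0, false), (1, false), (1, false), (0, false), (1, true), (0, false), (1, false), (0, true), (1, true), (1, true), (0, true), (1, true), (1, true), (1, true), (0, true), (1, false), (0, false), (1, false), (1, false), (1, false), (0, false), (1, true), (1, true), (1, true), (0, true), (1, true), (0, false), (1, false), (1, false), (1, false), (0, false), (1, false), (1, false), (0, false), (1, true), (0, false), (1, false), (0, true), (1, true), (1, true), (0, true), (1, true), (1, true), (1, true), (0, true), (1, false), (0, false), (1, false), (1, false), (1, false), (0, false), (1, false), (0, true), (1, true), (1, true), (0, true), (1, true), (1, true), (1, true), (0, true), (1, false), (0, false), (1, false), (1, false), (1, false), (1, false), (0, true), (1, true), (1, true), (0, true), (1, true), (1, true), (1, true), (0, true), (1, false), (0, false), (1, false), (1, false), (1, false), (0, false), (1, false)], [], [0, 0, 0, 0, 0, 0, 0, 0, 0, 0, 0, 0, 0, 0, 0, 0, 0, 0, 0, 0, 0, 0, 0, 0, 0, 0, 0, 0, 0, 0,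 0, 1]⟩,
    ⟨[(1, true), (1, true), (1, true), (0, true), (1, true), (0, true), (1, true), (0, true), (1, true), (0, true), (1, false), (0, false), (1, false), (1, false), (1, false), (0, false), (1, false), (1, false), (0, false), (1, false), (0, true), (1, true), (1, true), (0, true), (1, true), (1, true), (1, true), (0, true), (1, false), (0, false), (1, false), (1, false), (1, false), (0, false), (1, true), (1, true), (1, true), (0, true), (1, true), (0, false), (1, false), (1, false), (1, false), (0, false), (1, false), (1, false), (0, false), (1, true), (0, false), (1, true), (1, true), (1, true), (0, true), (1, true), (0, false), (1, false), (1, false), (1, false), (0, false), (1, false), (1, false), (0, false), (1, true), (1, true), (1, true), (1, true), (0, true), (1, true), (0, false), (1, false), (1, false), (1, false), (0, false), (1, false), (1, false), (0, false), (1, true), (1, true), (1, true), (1, true), (0, true), (1, true), (0, false), (1, false), (1, false), (1, false), (0, false), (1, false), (1, false), (0, false),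 (1, true), (0, false), (1, true), (1, true), (1, true), (0, true), (1, true), (0, false), (1, false), (1, false), (1, false), (0, false), (1, false), (1, false), (0, false), (1, true), (0, false), (1, false), (0, true), (1, true), (1, true), (0, true), (1, true), (1, true), (1, true), (0, true), (1, false), (0, false), (1, false), (1, false), (1, false), (1, false), (0, true), (1, true), (1, true), (0, true), (1, true), (1, true), (1, true), (0, true), (1, false), (0, false), (1, false), (1, false), (1, false), (1, false)], [], [0, 0, 0, 0, 0, 0, 0, 0, 0, 0, 0, 0, 0, 0, 0, 0, 0, 0, 0, 0, 0, 0, 0, 0, 0, 0, 0, 0, 0, 0, 0, 0, 1]⟩,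
    ⟨[(0, true), (1, true), (1, true), (1, true), (1, true), (0, true), (1, true), (1, true), (1, true), (0, true), (1, true), (0, true), (1, false), (0, false), (1, false), (1, false), (1, false), (0, false), (1, false), (1, false), (0, true), (1, true), (1, true), (1, true), (0, true), (1, false), (0, false), (1, false), (1, false), (1, false), (0, false), (1, true), (1, true), (1, true), (0, true), (1, true), (0, false), (1, false), (1, false), (1, false), (0, false), (1, false), (1, false), (0, false), (1, true), (0, false), (1, false), (0, true), (1, true), (1, true), (0, true), (1, true), (1, true), (1, true), (0, true), (1, false), (0, false), (1, false), (1, false), (1, false), (1, false), (0, true), (1, true), (1, true), (0, true), (1, true), (1, true), (1, true), (0, true), (1, false), (0, false), (1, false), (1, false), (1, false), (0, false), (1, true), (1, true), (1, true), (0, true), (1, true), (0, false), (1, false), (1, false), (1, false), (0, false), (1, false), (1, false), (0, false), (1, true), (1, true), (1, true),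 (1, true), (0, true), (1, true), (0, false), (1, false), (1, false), (1, false), (0, false), (1, false), (1, false), (0, false), (1, true), (0, false), (1, false), (0, true), (1, true), (1, true), (0, true), (1, true), (1, true), (1, true), (0, true), (1, false), (0, false), (1, false), (1, false), (1, false), (0, false), (1, true), (1, true), (1, true), (0, true), (1, true), (0, false), (1, false), (1, false), (1, false), (0, false), (1, false), (1, false), (0, false)], [], [0, 0, 0, 0, 0, 0, 0, 0, 0, 0, 0, 0, 0, 0, 0, 0, 0, 0, 0, 0, 0, 0, 0, 0, 0, 0, 0, 0, 0, 0, 0, 0, 0, 1]⟩,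
    ⟨[(0, true), (1, true), (1, true), (1, true), (1, true), (0, true), (1, true), (0, true), (1, true), (1, true), (1, true), (0, false), (1, false), (0, false), (1, false), (0, false), (1, false), (0, false), (1, true), (1, true), (1, true), (1, true), (0, true), (1, true), (0, false), (1, false), (1, false), (1, false), (0, false), (1, false), (1, false), (0, false), (1, true), (0, false), (1, false), (0, true), (1, true), (1, true), (0, true), (1, true), (1, true), (1, true), (0, true), (1, false), (0, false), (1, false), (1, false), (1, false), (0, false), (1, false), (0, true), (1, true), (1, true), (0, true), (1, true), (1, true), (1, true), (0, true), (1, false), (0, false), (1, false), (1, false), (1, false), (1, false), (0, true), (1, true), (1, true), (0, true), (1, true), (1, true), (1, true), (0, true), (1, false), (0, false), (1, false), (1, false), (1, false), (0, false), (1, true), (1, true), (1, true), (0, true), (1, true), (0, false), (1, false), (1, false), (1, false), (0, false), (1, false), (1, false), (0, false),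 (1, true), (0, false), (1, true), (1, true), (1, true), (0, true), (1, true), (0, false), (1, false), (1, false), (1, false), (0, false), (1, false), (1, false), (0, false), (1, true), (0, false), (1, false), (0, true), (1, true), (1, true), (0, true), (1, true), (1, true), (1, true), (0, true), (1, false), (0, false), (1, false), (1, false), (1, false), (0, false), (1, true), (1, true), (1, true), (0, true), (1, true), (0, false), (1, false), (1, false), (1, false), (0, false), (1, false), (1, false), (0, false), (1, true), (0, false), (1, false)], [], [0, 0, 0, 0, 0, 0, 0, 0, 0, 0, 0, 0, 0, 0, 0, 0, 0, 0, 0, 0, 0, 0, 0, 0, 0, 0, 0, 0, 0, 0, 0, 0, 0, 0, 1]⟩,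
    ⟨[(0, true), (1, true), (1, true), (0, true), (1, true), (0, true), (1, true), (0, true), (1, true), (1, true), (0, true), (1, false), (0, false), (1, false), (1, false), (1, false), (1, false), (0, false), (1, false), (1, false), (0, false), (1, true), (0, false), (1, true), (1, true), (1, true), (0, true), (1, true), (0, false), (1, false), (1, false), (1, false), (0, false), (1, false), (1, false), (0, false), (1, true), (1, true), (1, true), (1, true), (0, true), (1, true), (0, false), (1, false), (1, false), (1, false), (0, false), (1, false), (1, false), (0, false), (1, true), (0, false), (1, true), (1, true), (1, true), (0, true), (1, true), (0, false), (1, false), (1, false), (1, false), (0, false), (1, false), (1, false), (0, false), (1, true), (0, false), (1, false), (0, true), (1, true), (1, true), (0, true), (1, true), (1, true), (1, true), (0, true), (1, false), (0, false), (1, false), (1, false), (1, false), (1, false), (0, true), (1, true), (1, true), (0, true), (1, true), (1, true), (1, true), (0, true), (1, false),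 (0, false), (1, false), (1, false), (1, false), (0, false), (1, true), (1, true), (1, true), (0, true), (1, true), (0, false), (1, false), (1, false), (1, false), (0, false), (1, false), (1, false), (0, false), (1, true), (0, false), (1, false), (0, true), (1, true), (1, true), (0, true), (1, true), (1, true), (1, true), (0, true), (1, false), (0, false), (1, false), (1, false), (1, false), (0, false), (1, true), (1, true), (1, true), (0, true), (1, true), (0, false), (1, false), (1, false), (1, false), (0, false), (1, false), (1, false), (0, false), (1, true), (0, false), (1, false)], [], [0, 0, 0, 0, 0, 0, 0, 0, 0, 0, 0, 0, 0, 0, 0, 0, 0, 0, 0, 0, 0, 0, 0, 0, 0, 0, 0, 0, 0, 0, 0, 0, 0, 0, 0, 1]⟩,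
    ⟨[(0, true), (1, true), (0, true), (1, true), (1, true), (0, true), (1, true), (1, true), (0, true), (1, false), (1, false), (0, false), (1, false), (1, false), (0, false), (1, false), (0, false), (1, true), (1, true), (1, true), (1, true), (0, true), (1, true), (0, false), (1, false), (1, false), (1, false), (0, false), (1, false), (1, false), (0, false), (1, true), (1, true), (1, true), (1, true), (0, true), (1, true), (0, false), (1, false), (1, false), (1, false), (0, false), (1, false), (1, false), (0, false), (1, true), (0, false), (1, true), (1, true), (1, true), (0, true), (1, true), (0, false), (1, false), (1, false), (1, false), (0, false), (1, false), (1, false), (0, false), (1, true), (1, true), (1, true), (1, true), (0, true), (1, true), (0, false), (1, false), (1, false), (1, false), (0, false), (1, false), (1, false), (0, false), (1, true), (1, true), (1, true), (1, true), (0, true), (1, true), (0, false), (1, false), (1, false), (1, false), (0, false), (1, false), (1, false), (0, false), (1, true), (0, false), (1,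 false), (0, true), (1, true), (1, true), (0, true), (1, true), (1, true), (1, true), (0, true), (1, false), (0, false), (1, false), (1, false), (1, false), (0, false), (1, false), (0, true), (1, true), (1, true), (0, true), (1, true), (1, true), (1, true), (0, true), (1, false), (0, false), (1, false), (1, false), (1, false), (0, false), (1, true), (1, true), (1, true), (0, true), (1, true), (0, false), (1, false), (1, false), (1, false), (0, false), (1, false), (1, false), (0, false), (1, true), (0, false), (1, false), (0, true), (1, true), (1, true), (0, true), (1, true), (1, true), (1, true), (0, true), (1, false), (0, false), (1, false), (1, false), (1, false), (1, false)], [], [0, 0, 0, 0, 0, 0, 0, 0, 0, 0, 0, 0, 0, 0, 0, 0, 0, 0, 0, 0, 0, 0, 0, 0, 0, 0, 0, 0, 0, 0, 0, 0, 0, 0, 0, 0, 1]⟩,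
    ⟨[(0, true), (1, true), (1, true), (1, true), (1, true), (0, true), (1, true), (1, true), (0, true), (1, true), (1, true), (1, true), (0, true), (1, false), (1, false), (1, false), (0, false), (1, false), (1, false), (0, false), (1, false), (1, false), (0, true), (1, true), (1, true), (1, true), (0, true), (1, false), (0, false), (1, false), (1, false), (1, false), (0, false), (1, false), (0, true), (1, true), (1, true), (0, true), (1, true), (1, true), (1, true), (0, true), (1, false), (0, false), (1, false), (1, false), (1, false), (0, false), (1, true), (1, true), (1, true), (0, true), (1, true), (0, false), (1, false), (1, false), (1, false), (0, false), (1, false), (1, false), (0, false), (1, true), (0, false), (1, true), (1, true), (1, true), (0, true), (1, true), (0, false), (1, false), (1, false), (1, false), (0, false), (1, false), (1, false), (0, false), (1, true), (0, false), (1, false), (0, true), (1, true), (1, true), (0, true), (1, true), (1, true), (1, true), (0, true), (1, false), (0, false), (1, false), (1, false),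 (1, false), (0, false), (1, false), (0, true), (1, true), (1, true), (0, true), (1, true), (1, true), (1, true), (0, true), (1, false), (0, false), (1, false), (1, false), (1, false), (0, false), (1, true), (1, true), (1, true), (0, true), (1, true), (0, false), (1, false), (1, false), (1, false), (0, false), (1, false), (1, false), (0, false), (1, true), (0, false), (1, true), (1, true), (1, true), (0, true), (1, true), (0, false), (1, false), (1, false), (1, false), (0, false), (1, false), (1, false), (0, false)], [], [0, 0, 0, 0, 0, 0, 0, 0, 0, 0, 0, 0, 0, 0, 0, 0, 0, 0, 0, 0, 0, 0, 0, 0, 0, 0, 0, 0, 0, 0, 0, 0, 0, 0, 0, 0, 0, 1]⟩,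
    ⟨[(1, true), (1, true), (0, true), (1, true), (0, true), (1, true), (1, true), (1, true), (1, true), (0, true), (1, true), (1, true), (0, false), (1, false), (0, false), (1, false), (1, false), (0, false), (1, false), (0, false), (1, true), (1, true), (1, true), (1, true), (0, true), (1, true), (0, false), (1, false), (1, false), (1, false), (0, false), (1, false), (1, false), (0, false), (1, true), (1, true), (1, true), (1, true), (0, true), (1, true), (0, false), (1, false), (1, false), (1, false), (0, false), (1, false), (1, false), (0, false), (1, true), (1, true), (1, true), (1, true), (0, true), (1, true), (0, false), (1, false), (1, false), (1, false), (0, false), (1, false), (1, false), (0, false), (1, true), (0, false), (1, false), (0, true), (1, true), (1, true), (0, true), (1, true), (1, true), (1, true), (0, true), (1, false), (0, false), (1, false), (1, false), (1, false), (1, false), (0, true), (1, true), (1, true), (0, true), (1, true), (1, true), (1, true), (0, true), (1, false), (0, false), (1, false), (1, false),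 (1, false), (0, false), (1, false), (0, true), (1, true), (1, true), (0, true), (1, true), (1, true), (1, true), (0, true), (1, false), (0, false), (1, false), (1, false), (1, false), (0, false), (1, false), (0, true), (1, true), (1, true), (0, true), (1, true), (1, true), (1, true), (0, true), (1, false), (0, false), (1, false), (1, false), (1, false), (0, false), (1, true), (1, true), (1, true), (0, true), (1, true), (0, false), (1, false), (1, false), (1, false), (0, false), (1, false), (1, false), (0, false), (1, true), (0, false), (1, true), (1, true), (1, true), (0, true), (1, true), (0, false), (1, false), (1, false), (1, false), (0, false), (1, false), (1, false), (0, false)], [], [0, 0, 0, 0, 0, 0, 0, 0, 0, 0, 0, 0, 0, 0, 0, 0, 0, 0, 0, 0, 0, 0, 0, 0, 0, 0, 0, 0, 0, 0, 0, 0, 0, 0, 0, 0, 0, 0, 1]⟩,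
    ⟨[(1, true), (1, true), (0, true), (1, true), (0, true), (1, true), (1, true), (1, true), (0, true), (1, true), (0, false), (1, false), (0, false), (1, false), (0, false), (1, true), (1, true), (0, true), (1, false), (0, false), (1, false), (1, false), (1, false), (1, false), (0, true), (1, true), (1, true), (0, true), (1, true), (1, true), (1, true), (0, true), (1, false), (0, false), (1, false), (1, false), (1, false), (0, false), (1, true), (1, true), (1, true), (0, true), (1, true), (0, false), (1, false), (1, false), (1, false), (0, false), (1, false), (1, false), (0, false), (1, true), (1, true), (1, true), (1, true), (0, true), (1, true), (0, false), (1, false), (1, false), (1, false), (0, false), (1, false), (1, false), (0, false), (1, true), (0, false), (1, true), (1, true), (1, true), (0, true), (1, true), (0, false), (1, false), (1, false), (1, false), (0, false), (1, false), (1, false), (0, false), (1, true), (0, false), (1, false), (0, true), (1, true), (1, true), (0, true), (1, true), (1, true), (1, true), (0, true),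 (1, false), (0, false), (1, false), (1, false), (1, false), (0, false), (1, true), (1, true), (1, true), (0, true), (1, true), (0, false), (1, false), (1, false), (1, false), (0, false), (1, false), (1, false), (0, false), (1, true), (0, false), (1, true), (1, true), (1, true), (0, true), (1, true), (0, false), (1, false), (1, false), (1, false), (0, false), (1, false), (1, false), (0, false), (1, true), (0, false), (1, false), (0, true), (1, true), (1, true), (0, true), (1, true), (1, true), (1, true), (0, true), (1, false), (0, false), (1, false), (1, false), (1, false), (1, false)], [], [0, 0, 0, 0, 0, 0, 0, 0, 0, 0, 0, 0, 0, 0, 0, 0, 0, 0, 0, 0, 0, 0, 0, 0, 0, 0, 0, 0, 0, 0, 0, 0, 0, 0, 0, 0, 0, 0, 0, 1]⟩,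
    ⟨[(0, true), (1, true), (0, true), (1, true), (1, true), (0, true), (1, true), (1, true), (1, true), (0, true), (1, true), (0, false), (1, false), (1, false), (0, false), (1, false), (1, false), (1, false), (1, false), (0, false), (1, true), (0, false), (1, true), (1, true), (1, true), (0, true), (1, true), (0, false), (1, false), (1, false), (1, false), (0, false), (1, false), (1, false), (0, false), (1, true), (0, false), (1, false), (0, true), (1, true), (1, true), (0, true), (1, true), (1, true), (1, true), (0, true), (1, false), (0, false), (1, false), (1, false), (1, false), (0, false), (1, true), (1, true), (1, true), (0, true), (1, true), (0, false), (1, false), (1, false), (1, false), (0, false), (1, false), (1, false), (0, false), (1, true), (0, false), (1, true), (1, true), (1, true), (0, true), (1, true), (0, false), (1, false), (1, false), (1, false), (0, false), (1, false), (1, false), (0, false), (1, true), (1, true), (1, true), (1, true), (0, true), (1, true), (0, false), (1, false), (1, false), (1, false), (0,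 false), (1, false), (1, false), (0, false), (1, true), (1, true), (1, true), (1, true), (0, true), (1, true), (0, false), (1, false), (1, false), (1, false), (0, false), (1, false), (1, false), (0, false), (1, true), (0, false), (1, false), (0, true), (1, true), (1, true), (0, true), (1, true), (1, true), (1, true), (0, true), (1, false), (0, false), (1, false), (1, false), (1, false), (1, false), (0, true), (1, true), (1, true), (0, true), (1, true), (1, true), (1, true), (0, true), (1, false), (0, false), (1, false), (1, false), (1, false), (0, false), (1, false), (0, true), (1, true), (1, true), (0, true), (1, true), (1, true), (1, true), (0, true), (1, false), (0, false), (1, false), (1, false), (1, false), (1, false)], [], [0, 0, 0, 0, 0, 0, 0, 0, 0, 0, 0, 0, 0, 0, 0, 0, 0, 0, 0, 0, 0, 0, 0, 0, 0, 0, 0, 0, 0, 0, 0, 0, 0, 0, 0, 0, 0, 0, 0, 0, 1]⟩,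
    ⟨[(1, true), (1, true), (1, true), (0, true), (1, true), (1, true), (0, true), (1, true), (1, true), (0, true), (1, true), (1, true), (0, false), (1, false), (0, false), (1, false), (0, false), (1, true), (0, true), (1, true), (0, false), (1, false), (1, false), (1, false), (0, false), (1, false), (1, false), (0, false), (1, true), (0, false), (1, false), (0, true), (1, true), (1, true), (0, true), (1, true), (1, true), (1, true), (0, true), (1, false), (0, false), (1, false), (1, false), (1, false), (1, false), (0, true), (1, true), (1, true), (0, true), (1, true), (1, true), (1, true), (0, true), (1, false), (0, false), (1, false), (1, false), (1, false), (0, false), (1, false), (0, true), (1, true), (1, true), (0, true), (1, true), (1, true), (1, true), (0, true), (1, false), (0, false), (1, false), (1, false), (1, false), (1, false), (0, true), (1, true), (1, true), (0, true), (1, true), (1, true), (1, true), (0, true), (1, false), (0, false), (1, false), (1, false), (1, false), (0, false), (1, true), (1, true), (1, true),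 (0, true), (1, true), (0, false), (1, false), (1, false), (1, false), (0, false), (1, false), (1, false), (0, false), (1, true), (0, false), (1, false), (0, true), (1, true), (1, true), (0, true), (1, true), (1, true), (1, true), (0, true), (1, false), (0, false), (1, false), (1, false), (1, false), (0, false), (1, true), (1, true), (1, true), (0, true), (1, true), (0, false), (1, false), (1, false), (1, false), (0, false), (1, false), (1, false), (0, false), (1, true), (0, false), (1, true), (1, true), (1, true), (0, true), (1, true), (0, false), (1, false), (1, false), (1, false), (0, false), (1, false), (1, false), (0, false)], [], [0, 0, 0, 0, 0, 0, 0, 0, 0, 0, 0, 0, 0, 0, 0, 0, 0, 0, 0, 0, 0, 0, 0, 0, 0, 0, 0, 0, 0, 0, 0, 0, 0, 0, 0, 0, 0, 0, 0, 0, 0, 1]⟩,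
    ⟨[(1, true), (1, true), (1, true), (0, true), (1, true), (1, true), (0, true), (1, true), (1, true), (1, true), (0, true), (1, true), (0, false), (1, false), (1, false), (1, false), (0, false), (1, false), (1, false), (0, false), (1, false), (1, false), (1, false), (0, true), (1, true), (1, true), (0, true), (1, true), (1, true), (1, true), (0, true), (1, false), (0, false), (1, false), (1, false), (1, false), (1, false), (0, true), (1, true), (1, true), (0, true), (1, true), (1, true), (1, true), (0, true), (1, false), (0, false), (1, false), (1, false), (1, false), (0, false), (1, true), (1, true), (1, true), (0, true), (1, true), (0, false), (1, false), (1, false), (1, false), (0, false), (1, false), (1, false), (0, false), (1, true), (1, true), (1, true), (1, true), (0, true), (1, true), (0, false), (1, false), (1, false), (1, false), (0, false), (1, false), (1, false), (0, false), (1, true), (0, false), (1, false), (0, true), (1, true), (1, true), (0, true), (1, true), (1, true), (1, true), (0, true), (1, false), (0, false),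 (1, false), (1, false), (1, false), (0, false), (1, true), (1, true), (1, true), (0, true), (1, true), (0, false), (1, false), (1, false), (1, false), (0, false), (1, false), (1, false), (0, false), (1, true), (0, false), (1, true), (1, true), (1, true), (0, true), (1, true), (0, false), (1, false), (1, false), (1, false), (0, false), (1, false), (1, false), (0, false), (1, true), (1, true), (1, true), (1, true), (0, true), (1, true), (0, false), (1, false), (1, false), (1, false), (0, false), (1, false), (1, false), (0, false), (1, true), (1, true), (1, true), (1, true), (0, true), (1, true), (0, false), (1, false), (1, false), (1, false), (0, false), (1, false), (1, false), (0, false), (1, true), (0, false), (1, false)], [], [0, 0, 0, 0, 0, 0, 0, 0, 0, 0, 0, 0, 0, 0, 0, 0, 0, 0, 0, 0, 0, 0, 0, 0, 0, 0, 0, 0, 0, 0, 0, 0, 0, 0, 0, 0, 0, 0, 0, 0, 0, 0, 1]⟩]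
  pot g := pot0.get g
  innerSize := 25920
  innerGen := 2

/-- the level -/
def level0 : ChainLevel where
  table := table0
  gexp := [[1], [0, 1]]
  perm := [853793393738839153423404711528520353840569870180127684689243323952488713027713331666369372848994604742672517809934093854250464770555392546413193048488113095070735842901340399101284317228337245654571030750982578373190912140279252511630812905337780677465233860770047564749865642291039536629712327061909026053443972692973226106305517273723684023622260770101517906930435442322965612, 872744263098320070219585980040280369717340470797233724402489232082572509841476577159349643412664228542215650849318518039776940116776114970683198340388220019332374076892390506166816141273883223426753105355527417958105286948923159241902182390823397433121204746245365629622072465053048647832779532953156025467419257559354144231568705342396623584334117669205634733008568631283519502]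
  pinv := [853793393738839153423404711528520353840569870180127684689243323952488713027713331666369372848994604742672517809934093854250464770555392546413193048488113095070735842901340399101284317228337245654571030750982578373190912140279252511630812905337780677465233860770047564749865642291039536629712327061909026053443972692973226106305517273723684023622260770101517906930435442322965612, 1395870144542742819361197498063132054274307574930247480169538922635414616012085686645599022562832238456411394915419572936579560198869700963203697398033948433550253670963259250822149363712261335847130530382479334547529338918118557791041787215126032453421594383828415013690942927075982178339654786156611749513573223409813982560426757316406419789353980006399296573194950052967165978]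
  defs := [[(1, true), (0, true), (1, false)], [(0, true), (1, true), (1, true), (0, true), (1, true), (1, true), (1, true), (0, true), (1, false), (0, false), (1, false), (1, false), (1, false), (1, false)]]
  eqs := [(2, 2, [0, 0, 0, 0, 0, 1, 0, 0, 0, 0, 0, 0, 0, (-1)]),
    (2, 21, [0, 0, 0, 0, 0, 7, 0, 0, 0, 0, 0, 0, 0, (-1), 0, 0, 0, 0, 0, 0, 0, 0, 0, 0, 0, 0, 0, 0, 0, 0, 0, 2]),
    (2, 94, [1, 1, (-1), 0, (-1), 1, 1, 0, 0, 2, 0, 0, 0, (-1), 0, 0, 0, 0, 0, 0, 0, 0, 0, 0, 0, 2]),
    (4, 16, [11, (-5), (-9), (-6), 14, 1, (-4), 0, (-2), (-2), 0, (-1), 6, (-2), 0, 0, 0, 0, 0, 1, 0, 0, 0, 0, 0, 0, 0, 0, 0, 0, (-1)]),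
    (4, 28, [22, (-5), 2, 18, 39, (-2), (-11), 9, 10, 5, 0, (-5), (-8), (-3), 0, 0, 0, 0, 0, 0, 0, (-1), 0, 0, 0, 0, 0, 0, 0, 0, 0, 0, 0, 0, 0, 0, (-1), 0, 0, 0, 1]),
    (4, 86, [52, (-35), (-3), (-73), 63, 13, (-21), (-5), (-6), (-4), 3, (-3), 7, (-8), 0, (-3), 0, 2, 0, 1, 0, 0, 0, 0, 0, 0, 0, 0, 0, 0, 0, 0, 0, 0, 2, 0, 0, 0, 0, 1, 0, 0, (-1)]),
    (5, 17, [16, (-13), 5, 8, 31, 3, (-4), 0, 4, 2, 0, (-2), (-6), 0, (-2), 2, (-1), 1]),
    (5, 54, [0, 0, 0, 0, 0, 0, 0, 0, 0, 0, 0, 0, 0, 1, (-1), 1, (-1), 0, 0, 0, 0, (-1), 0, 0, 1]),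
    (5, 63, [70, (-9), 33, 27, 43, (-16), (-1), 12, 22, 19, 0, (-29), 25, 7, (-4), 4, 0, 0, 1, (-1), 0, (-2), 0, 0, 2, 0, (-1), 0, 0, 1, 0, (-2), (-1), 0, (-1), 0, 1, 0, 0, 0, 0, (-1), 2]),
    (5, 76, [(-28), 31, (-22), (-21), (-57), 17, (-7), 11, (-13), (-9), 0, 4, 18, 3, (-2), 3, (-1), 0, (-1), 0, 0, 2, 0, 0, 0, 0, 0, 0, 0, 0, 0, 1, 0, 0, 0, 0, 0, 2, (-1)]),
    (5, 110, [17, 10, 20, 43, (-108), (-6), 16, (-28), 10, (-23), (-3), 8, 41, 4, 7, (-3), 1, (-3), 0, (-2), 0, (-1), 0, 0, (-1), 0, 0, 0, 1, 1, 0, 2, 0, (-1), (-3), 2, (-1), (-3), 1, (-1), 0, 0, 1]),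
    (5, 122, [(-13), 10, (-33), 59, 48, (-18), 1, 3, 9, 13, (-4), (-11), (-14), 1, 2, 0, (-2), 0, 0, 0, 0, 0, 0, (-1), 0, 0, 0, 0, 0, 0, 0, 0, 0, 0, (-1), 0, (-1), 0, 0, 0, (-1)]),
    (5, 124, [70, (-43), 9, (-58), 56, 0, (-15), (-8), 0, (-14), 3, (-4), 24, (-5), 1, (-2), (-1), 1, 0, 0, 0, 0, 0, 0, (-1), 0, 0, 0, 0, (-1), (-1), 0, 0, 0, 2, (-1), 0, 0, 0, 0, 0, 0, (-1)]),
    (6, 6, [(-2), 0, (-1), 0, 1, (-4), 0, 0, 0, (-2), 0, 0, 0, 3, (-1), 1, 0, (-1), (-1), 0, (-1), (-1), 0, 0, 1]),
    (6, 7, [(-15), 31, (-33), (-101), (-64), (-3), (-7), 0, (-14), (-12), 6, 1, 30, 4, 0, 1, 0, (-2), 0, 0, 0, 0, 0, 0, 0, 0, 1, 0, 0, 0, 0, 0, 0, 0, 0, (-1), 0, 0, 0, (-1)]),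
    (7, 24, [(-2), 1, (-4), (-1), (-4), (-1), 3, (-6), 0, 1, 0, 0, 1, (-2), 0, 0, 0, 0, (-1), 0, 0, 0, 0, 0, 0, 0, 0, 0, 0, 0, (-1), 0, 0, 1]),
    (7, 48, [(-8), 13, 13, (-44), (-51), 3, 2, (-6), 10, (-7), (-1), 8, (-1), 0, 3, (-2), 0, 0, (-1), 0, 0, 1, 0, 0, (-2), 0, 0, 1, 0, (-1), 0, 2, 0, (-1), 0, 0, (-1)]),
    (7, 66, [23, (-10), 30, (-12), (-59), 4, 13, (-13), (-3), (-13), 0, 8, 33, (-4), 0, 0, 0, 0, (-1), 0, 0, 0, 0, 0, 0, 0, 1, 0, 0, 0, (-1), 0, 1, 0, 0, 0, 0, 0, 0, 0, 0, 1, (-3)]),
    (8, 20, [(-36), 13, (-30), 36, (-15), (-2), 14, (-2), (-10), 8, (-5), 6, (-4), (-3), 0, 0, 0, 0, 0, (-1), 0, 0, 0, (-2), 0, (-1), 0, 0, 0, 0, (-1), 1, 0, 0, 0, 0, 2]),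
    (8, 29, [20, 3, (-21), (-55), (-1), (-5), (-10), (-5), (-2), (-5), 3, (-1), 17, (-3), (-1), 1, 0, 0, 0, (-1), 0, 0, 0, 0, 0, 0, (-1), 0, 0, 0, 0, (-2)]),
    (9, 24, [20, (-11), 13, 9, 5, 1, 4, (-6), 5, (-1), 0, (-1), 7, (-2), 0, 0, 0, 0, 0, 0, (-1), 0, 0, 0, 0, 0, 0, 0, 0, 0, (-1), 0, 0, 0, 0, 0, 0, 1]),
    (9, 83, [(-7), 20, (-17), (-121), (-19), (-1), (-11), 8, (-5), (-4), 6, (-7), 11, (-2), 0, 0, 0, 0, (-1), 0, (-1), 0, 0, 0, 0, 0, 0, 0, 0, 0, 0, 0, 0, 0, 0, 0, 1]),
    (9, 95, [3, 3, (-34), 15, 42, (-14), (-2), 1, 4, 9, 5, (-9), (-7), (-1), 0, 0, 0, 0, 0, 0, (-2), 0, 0, 0, 0, 0, 1, 0, 0, 0, 0, 0, 0, 0, 0, 0, 0, (-2)]),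
    (11, 1, [10, (-11), 16, (-52), 79, (-40), 9, 22, 7, 37, (-5), (-14), (-28), 2, (-1), 3, 1, (-1), (-1), (-1), 0, (-1), (-1), 0, 2, 0, (-1), (-3), 0, 4, 0, (-2), (-1), (-2), (-3), 1, 0, 0, 0, 0, 0, (-1), 1]),
    (22, 19, [4, 1, (-2), (-53), (-4), 0, 0, (-4), 0, 2, 0, 0, 3, (-2), 0, 0, 0, 0, 0, 0, 0, 0, 0, 0, 0, 0, (-1), 0, 0, 0, 0, 1, 0, (-1)]),
    (22, 69, [14, (-14), 11, 16, 17, 0, 0, 0, 0, 0, 0, 0, 0, (-2), 0, 0, 0, 0, 0, 0, 0, 0, 0, 0, 0, 0, 0, 0, 0, 0, 0, 0, 0, (-1)]),
    (22, 80, [19, (-9), (-5), 19, 25, (-1), (-4), (-1), 2, 0, 0, (-2), 4, (-2), 0, 0, 0, 0, 0, 0, 0, 0, 0, 1, 0, 0, 0, 0, 0, 0, 0, 0, 0, (-1), 0, 0, 0, (-1)]),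
    (26, 108, [(-26), 0, (-3), 1, 9, (-6), 3, (-1), (-3), 3, 0, 5, (-21), (-2), 0, 0, 0, 0, 0, 0, 0, 0, 0, 0, 0, 0, (-2), 0, 0, 0, 1, 0, 0, (-1), 0, 0, 0, (-1)]),
    (28, 4, [(-56), 36, (-14), (-2), (-137), 3, (-1), 2, (-29), (-25), 0, 23, 26, 11, 0, 0, (-1), 1, 0, 1, (-1), 0, 0, 0, (-1), 0, (-1), 0, 0, (-1), 0, 4, (-1), 0, 0, (-1), (-1), (-1), 1, (-1)]),
    (28, 66, [18, 3, 34, (-96), (-68), (-1), 0, 1, (-9), (-5), 1, 9, 27, (-7), 0, 0, 0, 0, 0, 0, 0, 0, 0, 0, 0, 0, 0, 0, 0, 0, 0, (-2), 1, 0, 0, 0, 0, 0, 0, (-1), 0, 1, (-1)]),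
    (29, 124, [24, 25, 8, (-37), (-63), (-6), 9, (-3), 5, 10, 1, (-13), 43, (-11), (-1), 2, (-1), (-1), (-1), 0, 2, 0, 0, (-1), 1, 0, 0, 2, 0, 0, (-1), (-2), 0, 0, (-1), 1, 0, 0, 0, (-1), (-1), 0, 1])]
  pts := [0]

end CfsgLib.Known.U43Mult
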