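import Mathlib
import Cfsg.Agent.Lib.Sporadic.ChainCertificate

/-!
# Coset table 1 of a chain for PSU(4,3)
-/

set_option autoImplicit false
set_option maxRecDepth 100000
set_option maxHeartbeats 0
set_option Elab.async false

namespace CfsgLib.Known.U43Mult

open CfsgLib.Schur.Cert CfsgLib.Sporadic

/-- data -/
def next1 : Trie (ℕ) := .node (.node (.node (.node (.node (.node (.node (.leaf 1) (.leaf 37)) (.leaf 20)) (.node (.node (.leaf 12) (.leaf 44)) (.leaf 29))) (.node (.node (.node (.leaf 6) (.leaf 41)) (.leaf 16)) (.node (.node (.leaf 8) (.leaf 40)) (.leaf 28)))) (.node (.node (.node (.node (.leaf 3) (.leaf 34)) (.leaf 22)) (.node (.node (.leaf 7) (.leaf 38)) (.leaf 26))) (.node (.node (.node (.leaf 4) (.leaf 42)) (.leaf 18)) (.node (.leaf 17) (.leaf 33))))) (.node (.node (.node (.node (.node (.leaf 0) (.leaf 30)) (.leaf 14)) (.node (.node (.leaf 13) (.leaf 36)) (.leaf 21))) (.node (.node (.node (.leaf 5) (.leaf 32)) (.leaf 25)) (.node (.leaf 9) (.leaf 24)))) (.node (.node (.node (.node (.leaf 2) (.leaf 31)) (.leaf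 15)) (.node (.node (.leaf 11) (.leaf 39)) (.leaf 23))) (.node (.node (.node (.leaf 10) (.leaf 43)) (.leaf 27)) (.node (.leaf 19) (.leaf 35)))))) (.node (.node (.node (.node (.node (.node (.leaf 2) (.leaf 10)) (.leaf 21)) (.node (.node (.leaf 3) (.leaf 33)) (.leaf 25))) (.node (.node (.node (.leaf 7) (.leaf 27)) (.leaf 20)) (.node (.node (.leaf 16) (.leaf 37)) (.leaf 32)))) (.node (.node (.node (.node (.leaf 4) (.leaf 39)) (.leaf 23)) (.node (.node (.leaf 14) (.leaf 43)) (.leaf 22))) (.node (.node (.node (.leaf 9) (.leaf 42)) (.leaf 13)) (.node (.leaf 18) (.leaf 34))))) (.node (.node (.node (.node (.node (.leaf 1) (.leaf 38)) (.leaf 17)) (.node (.node (.leaf 6) (.leaf 44)) (.leaf 30))) (.node (.node (.node (.leaf 8) (.leaf 41)) (.leaf 26)) (.node (.leaf 12) (.leaf 29)))) (.node (.node (.node (.node (.leaf 5) (.leaf 40)) (.leaf 24)) (.node (.node (.leaf 15) (.leaf 35)) (.leaf 31))) (.node (.node (.node (.leaf 11) (.leaf 19)) (.leaf 28)) (.node (.leaf 0) (.leaf 36))))))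

/-- data -/
def prev1 : Trie (ℕ) := .node (.node (.node (.node (.node (.node (.node (.leaf 1) (.leaf 37)) (.leaf 20)) (.node (.node (.leaf 12) (.leaf 44)) (.leaf 29))) (.node (.node (.node (.leaf 6) (.leaf 41)) (.leaf 16)) (.node (.node (.leaf 8) (.leaf 40)) (.leaf 28)))) (.node (.node (.node (.node (.leaf 3) (.leaf 34)) (.leaf 22)) (.node (.node (.leaf 7) (.leaf 38)) (.leaf 26))) (.node (.node (.node (.leaf 4) (.leaf 42)) (.leaf 18)) (.node (.leaf 17) (.leaf 33))))) (.node (.node (.node (.node (.node (.leaf 0) (.leaf 30)) (.leaf 14)) (.node (.node (.leaf 13) (.leaf 36)) (.leaf 21))) (.node (.node (.node (.leaf 5) (.leaf 32)) (.leaf 25)) (.node (.leaf 9) (.leaf 24)))) (.node (.node (.node (.node (.leaf 2) (.leaf 31)) (.leaf 15)) (.node (.node (.leaf 11) (.leaf 39)) (.leaf 23))) (.node (.node (.node (.leaf 10) (.leaf 43)) (.leaf 27)) (.node (.leaf 19) (.leaf 35)))))) (.node (.node (.node (.node (.node (.node (.leaf 15) (.leaf 28)) (.leaf 12)) (.node (.node (.leaf 5) (.leaf 35)) (.leaf 19))) (.node (.node (.node (.leaf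 2) (.leaf 31)) (.leaf 20)) (.node (.node (.leaf 13) (.leaf 41)) (.leaf 23)))) (.node (.node (.node (.node (.leaf 0) (.leaf 30)) (.leaf 14)) (.node (.node (.leaf 32) (.leaf 38)) (.leaf 21))) (.node (.node (.node (.leaf 9) (.leaf 33)) (.leaf 26)) (.node (.leaf 10) (.leaf 25))))) (.node (.node (.node (.node (.node (.leaf 1) (.leaf 40)) (.leaf 17)) (.node (.node (.leaf 6) (.leaf 37)) (.leaf 24))) (.node (.node (.node (.leaf 3) (.leaf 44)) (.leaf 16)) (.node (.leaf 22) (.leaf 29)))) (.node (.node (.node (.node (.leaf 8) (.leaf 43)) (.leaf 39)) (.node (.node (.leaf 7) (.leaf 42)) (.leaf 36))) (.node (.node (.node (.leaf 4) (.leaf 34)) (.leaf 18)) (.node (.leaf 11) (.leaf 27))))))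

/-- data -/
def lab1 : Trie (Word) := .node (.node (.node (.node (.node (.node (.node (.leaf []) (.leaf [])) (.leaf [])) (.node (.node (.leaf []) (.leaf [])) (.leaf []))) (.node (.node (.node (.leaf []) (.leaf [])) (.leaf [])) (.node (.node (.leaf []) (.leaf [])) (.leaf [(0, true), (1, true), (0, true), (1, true), (0, true), (1, false), (0, true), (1, false), (0, true), (1, true), (0, true), (1, false)])))) (.node (.node (.node (.node (.leaf []) (.leaf [(1, true), (0, true), (1, true), (1, true), (0, true), (1, true), (1, true), (0, true), (1, true)])) (.leaf [])) (.node (.node (.leaf []) (.leaf [])) (.leaf [(0, true), (1, true), (0, true), (1, true), (0, true), (1, true), (0, true), (1, false), (0, true), (1, false), (0, true), (1, false)]))) (.node (.node (.node (.leaf []) (.leaf [])) (.leaf [])) (.node (.leaf []) (.leaf []))))) (.node (.node (.node (.node (.node (.leaf []) (.leaf [])) (.leaf [])) (.node (.node (.leaf []) (.leaf [])) (.leaf []))) (.node (.node (.node (.leaf [(0, true), (1, true), (1, true), (0, true),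 (1, true), (0, true), (1, true), (0, true), (1, true), (0, true), (1, true)]) (.leaf [])) (.leaf [])) (.node (.leaf []) (.leaf [])))) (.node (.node (.node (.node (.leaf []) (.leaf [])) (.leaf [])) (.node (.node (.leaf [(0, true), (1, false), (1, false), (0, true), (1, true), (1, true)]) (.leaf [])) (.leaf []))) (.node (.node (.node (.leaf []) (.leaf [])) (.leaf [])) (.node (.leaf []) (.leaf [])))))) (.node (.node (.node (.node (.node (.node (.leaf []) (.leaf [])) (.leaf [])) (.node (.node (.leaf [(0, true)]) (.leaf [(1, true), (0, true), (1, true), (0, true), (1, true), (0, true), (1, false)])) (.leaf [(1, true), (0, true), (1, true), (1, true), (0, true), (1, true), (1, true), (0, true), (1, true)]))) (.node (.node (.node (.leaf []) (.leaf [(1, true), (1, true), (1, true)])) (.leaf [(1, false), (0, true), (1, true), (0, true), (1, true), (0, true), (1, true), (1, true), (1, true)])) (.node (.node (.leaf []) (.leaf [(1, false), (1, false), (0, true), (1, true), (0, true), (1, true), (0, true), (1, true)])) (.leaf []))))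 (.node (.node (.node (.node (.leaf []) (.leaf [])) (.leaf [])) (.node (.node (.leaf []) (.leaf [(1, true), (1, true), (0, true), (1, false)])) (.leaf [(0, true), (1, false), (0, true), (1, false), (0, true), (1, false), (0, true), (1, false), (0, true), (1, false), (1, false)]))) (.node (.node (.node (.leaf []) (.leaf [(0, true), (1, true), (0, true), (1, false), (1, false), (0, true), (1, true), (0, true), (1, true), (0, true), (1, true), (0, true)])) (.leaf [(1, true), (0, true), (1, false), (0, true), (1, false), (0, true), (1, false), (0, true)])) (.node (.leaf []) (.leaf []))))) (.node (.node (.node (.node (.node (.leaf [(1, true)]) (.leaf [])) (.leaf [(1, true), (1, true), (0, true), (1, false), (0, true), (1, false), (0, true), (1, false), (0, true), (1, false), (0, true)])) (.node (.node (.leaf [(1, true), (1, true), (0, true), (1, true), (1, true), (0, true)]) (.leaf [(0, true), (1, true), (0, true), (1, true), (1, true), (0, true), (1, false), (0, true), (1, false), (1, false)])) (.leaf []))) (.node (.node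 (.node (.leaf []) (.leaf [(1, true), (0, true), (1, true), (1, true), (0, true), (1, false), (0, true)])) (.leaf [])) (.node (.leaf [(1, false), (0, true), (1, false), (0, true), (1, false), (0, true), (1, false)]) (.leaf [(0, true), (1, true), (0, true), (1, false), (0, true), (1, false)])))) (.node (.node (.node (.node (.leaf []) (.leaf [])) (.leaf [])) (.node (.node (.leaf []) (.leaf [(1, false), (1, false), (0, true), (1, true), (0, true), (1, true), (0, true), (1, true), (0, true)])) (.leaf []))) (.node (.node (.node (.leaf []) (.leaf [(1, true), (0, true), (1, true), (1, true), (0, true), (1, true), (1, true), (0, true), (1, true)])) (.leaf [])) (.node (.leaf []) (.leaf []))))))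

/-- data -/
def val1 : Trie (Vec) := .node (.node (.node (.node (.node (.node (.node (.leaf []) (.leaf [])) (.leaf [])) (.node (.node (.leaf []) (.leaf [])) (.leaf []))) (.node (.node (.node (.leaf []) (.leaf [])) (.leaf [0, 0, 0, 0, 0, 1])) (.node (.node (.leaf [0, 0, 0, 0, 0, 1]) (.leaf [0, 0, 0, 0, 0, 1])) (.leaf [14, (-6), 15, 5, (-1), 1, 1, 0, 5, (-1), 0, (-1), 6])))) (.node (.node (.node (.node (.leaf []) (.leaf [(-13), 5, (-7), 13, (-5), 1, 1, 0, 0, (-1), 0, 0, (-3)])) (.leaf [])) (.node (.node (.leaf [0, 0, 0, 0, 0, 1]) (.leaf [0, 0, 0, 0, 0, 1])) (.leaf [(-4), 2, 0, 4, (-4), 0, 0, 0, 0, 1]))) (.node (.node (.node (.leaf [0, 0, 0, 0, 0, 1]) (.leaf [])) (.leaf [0, 0, 0, 0, 0, 1])) (.node (.leaf []) (.leaf []))))) (.node (.node (.node (.node (.node (.leaf [0, 0, 0, 0, 0, 1]) (.leaf [0, 0, 0, 0, 0, 1])) (.leaf [0, 0, 0, 0, 0, 1])) (.node (.node (.leaf []) (.leaf [0, 0, 0, 0, 0, 1])) (.leaf [0, 0, 0, 0, 0, 1]))) (.node (.node (.node (.leaf [5, (-7), 2, 4, 15, 0, (-2), 0, 2, 1, 0, (-1), (-3)]) (.leaf [0, 0, 0, 0,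 0, 1])) (.leaf [])) (.node (.leaf [0, 0, 0, 0, 0, 1]) (.leaf [0, 0, 0, 0, 0, 1])))) (.node (.node (.node (.node (.leaf [0, 0, 0, 0, 0, 1]) (.leaf [0, 0, 0, 0, 0, 1])) (.leaf [0, 0, 0, 0, 0, 1])) (.node (.node (.leaf [0, 0, 0, 0, 0, 0, 0, 0, 0, 1]) (.leaf [0, 0, 0, 0, 0, 1])) (.leaf [0, 0, 0, 0, 0, 1]))) (.node (.node (.node (.leaf []) (.leaf [])) (.leaf [])) (.node (.leaf []) (.leaf [])))))) (.node (.node (.node (.node (.node (.node (.leaf []) (.leaf [0, 0, 0, 0, 0, 0, 1])) (.leaf [])) (.node (.node (.leaf []) (.leaf [(-4), (-10), 6, 47, 26, (-2), 5, 0, 5, 5, (-2), 1, (-16)])) (.leaf [(-6), 1, (-2), (-1), 1, (-2), 1, 0, 1, 2, 0, 1, (-5)]))) (.node (.node (.node (.leaf []) (.leaf [0, 0, 0, 0, 0, 0, 0, 1])) (.leaf [1, (-4), 4, 3, 8, (-1), 1, 0, 2, 2, 0, 0, (-4)])) (.node (.node (.leaf []) (.leaf [21, (-12), 19, 10, 8, 1, 2, (-1), 6, 0, 0, (-2), 5])) (.leaf [])))) (.node (.node (.node (.node (.leaf []) (.leaf [])) (.leaf [])) (.node (.node (.leaf []) (.leaf [0, 0, 0, 0, 0, 0, 0, 0, 0, 0, 1])) (.leaf [(-5), 5, (-4), (-10),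 (-2), 0, 0, 0, 1, 0, 0, (-2), 1]))) (.node (.node (.node (.leaf []) (.leaf [3, 2, (-2), (-33), (-10), 0, (-3), 0, (-3), (-2), 1, 0, 9])) (.leaf [5, (-3), 5, 0, 2, 0, 1, 0, 1, 0, 0, (-1), 3])) (.node (.leaf []) (.leaf []))))) (.node (.node (.node (.node (.node (.leaf []) (.leaf [])) (.leaf [13, (-7), 6, 4, 16, (-1), (-1), 0, 4, 2, 0, (-4), 2])) (.node (.node (.leaf [0, 0, 0, 0, 0, 0, 0, 0, 1]) (.leaf [(-25), 14, (-21), (-12), (-3), (-1), (-4), 6, (-5), 1, 0, 1, (-7)])) (.leaf []))) (.node (.node (.node (.leaf []) (.leaf [(-6), 4, (-3), (-4), (-9), 0, 1, (-1), (-1), (-1), 0, 1, 2])) (.leaf [])) (.node (.leaf [0, 0, 0, 0, 0, 0, 0, 0, 0, 0, 0, 1]) (.leaf [0, 0, 0, 0, 0, 0, 0, 0, 0, 0, 0, 0, 1])))) (.node (.node (.node (.node (.leaf []) (.leaf [])) (.leaf [])) (.node (.node (.leaf []) (.leaf [(-8), 9, (-10), (-18), (-14), 2, (-1), 0, (-2), (-3), 0, (-1), 7])) (.leaf []))) (.node (.node (.node (.leaf []) (.leaf [3, (-4), 4, 2, 1, 2, 0, 0, 0, (-2), 0, (-1), 3])) (.leaf [])) (.node (.leaf [0, 0, 0, 0, 0, 0, 1]) (.leaf []))))))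

/-- data -/
def rank1 : Trie (ℕ) := .node (.node (.node (.node (.node (.node (.node (.leaf 0) (.leaf 0)) (.leaf 0)) (.node (.node (.leaf 0) (.leaf 0)) (.leaf 0))) (.node (.node (.node (.leaf 0) (.leaf 0)) (.leaf 11)) (.node (.node (.leaf 7) (.leaf 22)) (.leaf 35)))) (.node (.node (.node (.node (.leaf 0) (.leaf 42)) (.leaf 0)) (.node (.node (.leaf 6) (.leaf 20)) (.leaf 30))) (.node (.node (.node (.leaf 5) (.leaf 0)) (.leaf 12)) (.node (.leaf 0) (.leaf 0))))) (.node (.node (.node (.node (.node (.leaf 3) (.leaf 16)) (.leaf 9)) (.node (.node (.leaf 0) (.leaf 19)) (.leaf 13))) (.node (.node (.node (.leaf 33) (.leaf 18)) (.leaf 0)) (.node (.leaf 8) (.leaf 15)))) (.node (.node (.node (.node (.leaf 4) (.leaf 17)) (.leaf 10)) (.node (.node (.leaf 27) (.leaf 21)) (.leaf 14))) (.node (.node (.node (.leaf 0) (.leaf 0)) (.leaf 0)) (.node (.leaf 0) (.leaf 0)))))) (.node (.node (.node (.node (.node (.node (.leaf 0) (.leaf 24)) (.leaf 0)) (.node (.node (.leaf 1) (.leaf 44)) (.leaf 37))) (.node (.node (.node (.leaf 0) (.leaf 25)) (.leaf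 39)) (.node (.node (.leaf 0) (.leaf 43)) (.leaf 0)))) (.node (.node (.node (.node (.leaf 0) (.leaf 0)) (.leaf 0)) (.node (.node (.leaf 0) (.leaf 28)) (.leaf 38))) (.node (.node (.node (.leaf 0) (.leaf 46)) (.leaf 34)) (.node (.leaf 0) (.leaf 0))))) (.node (.node (.node (.node (.node (.leaf 2) (.leaf 0)) (.leaf 40)) (.node (.node (.leaf 26) (.leaf 45)) (.leaf 0))) (.node (.node (.node (.leaf 0) (.leaf 32)) (.leaf 0)) (.node (.leaf 29) (.leaf 31)))) (.node (.node (.node (.node (.leaf 0) (.leaf 0)) (.leaf 0)) (.node (.node (.leaf 0) (.leaf 41)) (.leaf 0))) (.node (.node (.node (.leaf 0) (.leaf 36)) (.leaf 0)) (.node (.leaf 23) (.leaf 0))))))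

/-- data -/
def tree1 : Trie (ℕ × ℕ) := .node (.node (.node (.node (.node (.node (.leaf (0, 0)) (.leaf (28, 1))) (.leaf (12, 1))) (.node (.node (.leaf (5, 1)) (.leaf (35, 1))) (.leaf (19, 1)))) (.node (.node (.node (.leaf (2, 1)) (.leaf (31, 1))) (.leaf (16, 0))) (.node (.node (.leaf (8, 0)) (.leaf (40, 0))) (.leaf (23, 1))))) (.node (.node (.node (.node (.leaf (0, 1)) (.leaf (30, 1))) (.leaf (14, 1))) (.node (.node (.leaf (7, 0)) (.leaf (38, 0))) (.leaf (21, 1)))) (.node (.node (.node (.leaf (4, 0)) (.leaf (33, 1))) (.leaf (18, 0))) (.node (.leaf (10, 1)) (.leaf (25, 1)))))) (.node (.node (.node (.node (.node (.leaf (0, 0)) (.leaf (30, 0))) (.leaf (14, 0))) (.node (.node (.leaf (6, 1)) (.leaf (36, 0))) (.leaf (21, 0)))) (.node (.node (.node (.leaf (3, 1)) (.leaf (32, 0))) (.leaf (16, 1))) (.node (.leaf (9, 0)) (.leaf (24, 0))))) (.node (.node (.node (.node (.leaf (2, 0)) (.leaf (31, 0))) (.leaf (15, 0))) (.node (.node (.leaf (7, 1)) (.leaf (39, 0))) (.leaf (23, 0)))) (.node (.node (.node (.leaf (4, 1)) (.leaf (34,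 1))) (.leaf (18, 1))) (.node (.leaf (11, 1)) (.leaf (27, 1))))))

/-- data -/
def cert1 : Trie (ℕ × ℕ × ℕ) := .node (.node (.node (.node (.node (.node (.leaf (0, 0, 4)) (.leaf (9, 1, 9))) (.leaf (2, 31, 1))) (.node (.node (.leaf (2, 14, 1)) (.leaf (9, 13, 10))) (.leaf (4, 0, 10)))) (.node (.node (.node (.leaf (2, 4, 1)) (.leaf (7, 19, 5))) (.leaf (2, 39, 1))) (.node (.node (.leaf (2, 21, 1)) (.leaf (9, 44, 2))) (.leaf (8, 0, 5))))) (.node (.node (.node (.node (.leaf (2, 0, 1)) (.leaf (5, 18, 2))) (.leaf (2, 36, 1))) (.node (.node (.leaf (2, 16, 1)) (.leaf (9, 36, 8))) (.leaf (6, 0, 4)))) (.node (.node (.node (.leaf (2, 8, 1)) (.leaf (8, 13, 3))) (.leaf (3, 0, 5))) (.node (.leaf (2, 24, 1)) (.leaf (9, 0, 8)))))) (.node (.node (.node (.node (.node (.leaf (1, 0, 1)) (.leaf (5, 10, 3))) (.leaf (2, 32, 1))) (.node (.node (.leaf (2, 15, 1)) (.leaf (9, 29, 41))) (.leaf (5, 0, 4)))) (.node (.node (.node (.leaf (2, 7, 1)) (.leaf (8, 10, 27))) (.leaf (2, 40, 1))) (.node (.node (.leaf (2, 23, 1)) (.leaf (3, 33, 1))) (.leaf (6,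 13, 4))))) (.node (.node (.node (.node (.leaf (2, 2, 1)) (.leaf (6, 2, 5))) (.leaf (2, 38, 1))) (.node (.node (.leaf (2, 18, 1)) (.leaf (9, 42, 3))) (.leaf (7, 0, 12)))) (.node (.node (.node (.leaf (2, 9, 1)) (.leaf (9, 7, 28))) (.leaf (3, 10, 5))) (.node (.leaf (2, 30, 1)) (.leaf (8, 4, 22))))))

/-- data -/
def pot1 : Trie (Vec) := .node (.node (.node (.node (.node (.node (.leaf []) (.leaf [17])) (.leaf [10])) (.node (.node (.leaf [7]) (.leaf [19])) (.leaf [13]))) (.node (.node (.node (.leaf [4]) (.leaf [18])) (.leaf [11])) (.node (.node (.leaf [8]) (.leaf [20])) (.leaf [15])))) (.node (.node (.node (.node (.leaf [2]) (.leaf [17])) (.leaf [11])) (.node (.node (.leaf [7]) (.leaf [19])) (.leaf [14]))) (.node (.node (.node (.leaf [5]) (.leaf [18])) (.leaf [12])) (.node (.leaf [9]) (.leaf [15]))))) (.node (.node (.node (.node (.node (.leaf [1]) (.leaf [16])) (.leaf [10])) (.node (.node (.leaf [7]) (.leaf [19])) (.leaf [13]))) (.node (.node (.node (.leaf [5]) (.leaf [18])) (.leaf [12])) (.node (.leaf [8]) (.leaf [14]))))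 (.node (.node (.node (.node (.leaf [3]) (.leaf [17])) (.leaf [11])) (.node (.node (.leaf [8]) (.leaf [20])) (.leaf [14]))) (.node (.node (.node (.leaf [6]) (.leaf [19])) (.leaf [13])) (.node (.leaf [10]) (.leaf [16])))))

/-- the table -/
def table1 : Table where
  size := 45
  ngen := 2
  next g x := next1.get (2 * g + x)
  prev g x := prev1.get (2 * g + x)
  lab g x := lab1.get (2 * g + x)
  val g x := val1.get (2 * g + x)
  rank g x := rank1.get (2 * g + x)
  tree g := tree1.get g
  cert j := cert1.get j
  nded := 46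
  rels := [⟨[(1, true), (0, true), (1, true), (1, true), (1, true), (0, false), (1, false)], [(0, true)], []⟩,
    ⟨[(0, true), (1, true), (0, false)], [(1, true)], []⟩,
    ⟨[(0, true), (0, true)], [], [0, 0, 0, 0, 0, 1]⟩,
    ⟨[(1, true), (1, true), (1, true), (1, true), (1, true), (1, true)], [], [0, 0, 0, 0, 0, 0, 1]⟩,
    ⟨[(1, true), (1, true), (1, true), (0, true), (1, true), (1, true), (1, true), (0, true), (1, true), (1, true), (1, true), (0, false), (1, false), (1, false), (1, false), (0, false), (1, false), (1, false), (1, false), (0, true), (1, false), (1, false), (1, false), (0, false)], [], [0, 0, 0, 0, 0, 0, 0, 1]⟩,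
    ⟨[(1, true), (1, true), (0, true), (1, true), (1, true), (0, false), (1, false), (0, true), (1, false), (1, false), (1, false), (0, false), (1, false), (0, true), (1, false), (1, false), (0, false), (1, true), (0, true), (1, false), (1, false), (1, false), (0, false), (1, false), (0, true), (1, false), (1, false), (0, false)], [], [0, 0, 0, 0, 0, 0, 0, 0, 1]⟩,
    ⟨[(1, true), (1, true), (1, true), (1, true), (0, true), (1, false), (1, false), (1, false), (1, false), (0, true), (1, false), (1, false), (0, false), (1, true), (0, true), (1, false), (1, false), (1, false), (0, false), (1, false), (0, true), (1, true), (1, true), (0, false), (1, true), (0, true), (1, false), (1, false), (1, false), (0, false), (1, false)], [], [0, 0, 0, 0, 0, 0, 0, 0, 0, 1]⟩,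
    ⟨[(1, true), (0, true), (1, true), (1, true), (0, true), (1, true), (1, true), (0, true), (1, true), (0, true), (1, true), (0, true), (1, true), (0, false), (1, false), (1, false), (1, false), (0, false), (1, false), (1, false), (0, false), (1, false), (1, false), (0, false), (1, false), (0, true), (1, true), (0, false), (1, true), (0, true), (1, false), (1, false), (1, false), (0, false), (1, false), (0, true), (1, false), (1, false), (0, false)], [], [0, 0, 0, 0, 0, 0, 0, 0, 0, 0, 1]⟩,
    ⟨[(1, true), (1, true), (0, true), (1, true), (0, true), (1, true), (0, false), (1, false), (1, false), (0, false), (1, false), (0, true), (1, true), (0, false), (1, true), (0, true), (1, false), (1, false), (1, false), (0, false), (1, false), (0, true), (1, true), (0, false), (1, true), (0, true), (1, false), (1, false), (1, false), (0, false), (1, false), (0, true), (1, true), (0, false), (1, true), (0, true), (1, false), (1, false), (1, false), (0, false), (1, false), (0, true), (1, true), (0, false)], [], [0, 0, 0, 0, 0,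 0, 0, 0, 0, 0, 0, 1]⟩,
    ⟨[(1, true), (1, true), (1, true), (1, true), (1, true), (0, true), (1, true), (0, true), (1, true), (0, false), (1, false), (0, false), (1, false), (1, false), (1, false), (1, false), (1, false), (0, true), (1, true), (0, false), (1, true), (0, true), (1, false), (1, false), (1, false), (0, false), (1, false), (0, true), (1, true), (0, false), (1, true), (0, true), (1, false), (1, false), (1, false), (0, false), (1, false), (0, true), (1, false), (0, false), (1, true), (0, true), (1, false), (1, false), (1, false), (0, false), (1, false)], [], [0, 0, 0, 0, 0, 0, 0, 0, 0, 0, 0, 0, 1]⟩]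
  pot g := pot1.get g
  innerSize := 576
  innerGen := 2

/-- the level -/
def level1 : ChainLevel where
  table := table1
  gexp := [[1, 0], [2, 0]]
  perm := [2423684399189443803960717091353390645816299300431029265954847173712559523606249520208008851786026960712146373019150322839696252140867779891222670892839839687809004490101368667478265208083493493320278752642628788948857854312831134057800688024393276698008848496833062797063525296876312172224663705666046143014511519846309872647152236732878361924454348097533698441542343848385153024, 1067684931347259625331712337693628623851653947443524446102717597244148533947440910782616919483423779849049860249051470171184098703775857300669082777082663831076471949950432274955783182543543260380060849087829739873735758245574936824227718566176027796803390961843573604012041215888596327727318932121667350598818445573938626827752903333373211665844817255684016753236523716810217472]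
  pinv := [2423684399189443803960717091353390645816299300431029265954847173712559523606249520208008851786026960712146373019150322839696252140867779891222670892839839687809004490101368667478265208083493493320278752642628788948857854312831134057800688024393276698008848496833062797063525296876312172224663705666046143014511519846309872647152236732878361924454348097533698441542343848385153024, 1881191036912567142635119453791254939919403606821262633479417379537759813596193320234606798432966782890388871629619201998644922276429224834849616524365990094659445256042582412601091144843360886081696054769395564078597848691167876534920536217864033410598969189893809215710050276257627933967263397583028107157683681074423043854354462718680485841605467291526529756354856592755182592]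
  defs := [[(1, true), (0, true), (1, true), (1, true), (1, true), (0, false), (1, false)], [(0, true), (1, true), (0, false)]]
  eqs := [(3, 1, [0, 1, 0, 0, 0, 0, (-1)]),
    (3, 6, [4, 1, 1, 0, 1, 0, (-1), 0, 3]),
    (3, 19, [1, (-2), 3, (-1), 3, 0, 0, 0, 1, 0, 0, 0, (-2)]),
    (4, 3, [2, 0, 0, 0, 0, (-1), 0, (-1), 0, 2]),
    (4, 12, [0, 0, 1, 1, (-1), 0, 0, (-1)]),
    (4, 35, [(-3), 4, (-5), (-6), 0, 0, (-1), 2]),
    (5, 4, [1, (-3), 1, 0, (-3), 0, 1, (-4), (-3), 0, 0, 1, 2]),
    (5, 23, [0, 0, 2, (-5), (-6), 0, 0, (-2), (-2), (-1), 1, 1, 2])]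
  pts := [1]

end CfsgLib.Known.U43Mult
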