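import Mathlib
import Cfsg.Agent.Lib.Sporadic.ChainCertificate

/-!
# Coset table 2 of a chain for PSU(4,3)
-/

set_option autoImplicit false
set_option maxRecDepth 100000
set_option maxHeartbeats 0
set_option Elab.async false

namespace CfsgLib.Known.U43Mult

open CfsgLib.Schur.Cert CfsgLib.Sporadic

/-- data -/
def next2 : Trie (ℕ) := .node (.node (.node (.node (.node (.node (.node (.node (.node (.node (.node (.leaf 1) (.leaf 542)) (.leaf 323)) (.node (.leaf 176) (.leaf 445))) (.node (.node (.leaf 98) (.leaf 254)) (.node (.leaf 147) (.leaf 510)))) (.node (.node (.node (.node (.leaf 52) (.leaf 526)) (.leaf 358)) (.node (.leaf 113) (.leaf 481))) (.node (.node (.leaf 79) (.leaf 422)) (.node (.leaf 287) (.leaf 522))))) (.node (.node (.node (.node (.node (.leaf 27) (.leaf 558)) (.leaf 210)) (.node (.leaf 197) (.leaf 333))) (.node (.node (.leaf 117) (.leaf 271)) (.node (.leaf 155) (.leaf 496)))) (.node (.node (.node (.node (.leaf 29) (.leaf 572)) (.leaf 240)) (.node (.leaf 128) (.leaf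 493))) (.node (.node (.leaf 158) (.leaf 435)) (.node (.leaf 304) (.leaf 464)))))) (.node (.node (.node (.node (.node (.node (.leaf 14) (.leaf 458)) (.leaf 310)) (.node (.leaf 181) (.leaf 322))) (.node (.node (.leaf 110) (.leaf 363)) (.node (.leaf 146) (.leaf 415)))) (.node (.node (.node (.node (.leaf 24) (.leaf 509)) (.leaf 278)) (.node (.leaf 225) (.leaf 402))) (.node (.node (.leaf 148) (.leaf 308)) (.node (.leaf 204) (.leaf 450))))) (.node (.node (.node (.node (.node (.leaf 40) (.leaf 538)) (.leaf 332)) (.node (.leaf 118) (.leaf 340))) (.node (.node (.leaf 57) (.leaf 412)) (.node (.leaf 246) (.leaf 418)))) (.node (.node (.node (.node (.leaf 86) (.leaf 564)) (.leaf 367)) (.node (.leaf 243) (.leaf 372))) (.node (.node (.leaf 166) (.leaf 441)) (.node (.leaf 311) (.leaf 453))))))) (.node (.node (.node (.node (.node (.node (.node (.leaf 2) (.leaf 470)) (.leaf 198)) (.node (.leaf 111) (.leaf 460))) (.node (.node (.leaf 105) (.leaf 267)) (.node (.leaf 258) (.leaf 515)))) (.node (.node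 (.node (.node (.leaf 58) (.leaf 566)) (.leaf 228)) (.node (.leaf 219) (.leaf 487))) (.node (.node (.leaf 73) (.leaf 426)) (.node (.leaf 292) (.leaf 502))))) (.node (.node (.node (.node (.node (.leaf 33) (.leaf 477)) (.leaf 325)) (.node (.leaf 104) (.leaf 471))) (.node (.node (.leaf 124) (.leaf 408)) (.node (.leaf 275) (.leaf 523)))) (.node (.node (.node (.node (.leaf 32) (.leaf 568)) (.leaf 360)) (.node (.leaf 238) (.leaf 495))) (.node (.node (.leaf 163) (.leaf 440)) (.node (.leaf 295) (.leaf 543)))))) (.node (.node (.node (.node (.node (.node (.leaf 7) (.leaf 546)) (.leaf 205)) (.node (.leaf 190) (.leaf 431))) (.node (.node (.leaf 114) (.leaf 280)) (.node (.leaf 232) (.leaf 388)))) (.node (.node (.node (.node (.leaf 69) (.leaf 518)) (.leaf 235)) (.node (.leaf 222) (.leaf 364))) (.node (.node (.leaf 70) (.leaf 428)) (.node (.leaf 294) (.leaf 423))))) (.node (.node (.node (.node (.node (.leaf 46) (.leaf 490)) (.leaf 351)) (.node (.leaf 115) (.leaf 344))) (.node (.node (.leaf 75)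 (.leaf 409)) (.node (.leaf 165) (.leaf 531)))) (.node (.node (.node (.node (.leaf 37) (.leaf 560)) (.leaf 252)) (.node (.leaf 137) (.leaf 383))) (.node (.node (.leaf 84) (.leaf 449)) (.node (.leaf 316) (.leaf 551)))))))) (.node (.node (.node (.node (.node (.node (.node (.node (.leaf 4) (.leaf 482)) (.leaf 196)) (.node (.leaf 179) (.leaf 457))) (.node (.node (.leaf 101) (.leaf 392)) (.node (.leaf 255) (.leaf 488)))) (.node (.node (.node (.node (.leaf 55) (.leaf 524)) (.leaf 226)) (.node (.leaf 201) (.leaf 472))) (.node (.node (.leaf 64) (.leaf 343)) (.node (.leaf 290) (.leaf 514))))) (.node (.node (.node (.node (.node (.leaf 30) (.leaf 563)) (.leaf 327)) (.node (.leaf 200) (.leaf 424))) (.node (.node (.leaf 53) (.leaf 370)) (.node (.leaf 272) (.leaf 498)))) (.node (.node (.node (.node (.leaf 78) (.leaf 537)) (.leaf 362)) (.node (.leaf 153) (.leaf 497))) (.node (.node (.leaf 76) (.leaf 338)) (.node (.leaf 307) (.leaf 466)))))) (.node (.node (.node (.node (.node (.node (.leaf 17)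 (.leaf 480)) (.leaf 331)) (.node (.leaf 97) (.leaf 346))) (.node (.node (.leaf 47) (.leaf 265)) (.node (.leaf 234) (.leaf 520)))) (.node (.node (.node (.node (.leaf 54) (.leaf 534)) (.leaf 366)) (.node (.leaf 123) (.leaf 356))) (.node (.node (.leaf 150) (.leaf 306)) (.node (.leaf 202) (.leaf 540))))) (.node (.node (.node (.node (.node (.leaf 43) (.leaf 536)) (.leaf 250)) (.node (.leaf 109) (.leaf 419))) (.node (.node (.leaf 121) (.leaf 394)) (.node (.leaf 279) (.leaf 529)))) (.node (.node (.node (.node (.leaf 36) (.leaf 557)) (.leaf 369)) (.node (.leaf 245) (.leaf 374))) (.node (.node (.leaf 83) (.leaf 319)) (.node (.leaf 282) (.leaf 549))))))) (.node (.node (.node (.node (.node (.node (.node (.leaf 3) (.leaf 556)) (.leaf 206)) (.node (.leaf 185) (.leaf 425))) (.node (.node (.leaf 108) (.leaf 259)) (.node (.leaf 260) (.leaf 511)))) (.node (.node (.node (.node (.leaf 23) (.leaf 571)) (.leaf 236)) (.node (.leaf 120) (.leaf 352))) (.node (.node (.leaf 145) (.leaf 288)) (.node (.leaf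 171) (.leaf 479))))) (.node (.node (.node (.node (.node (.leaf 13) (.leaf 554)) (.leaf 296)) (.node (.leaf 106) (.leaf 341))) (.node (.node (.leaf 56) (.leaf 277)) (.node (.leaf 263) (.leaf 516)))) (.node (.node (.node (.node (.leaf 42) (.leaf 548)) (.leaf 264)) (.node (.leaf 241) (.leaf 501))) (.node (.node (.leaf 152) (.leaf 442)) (.node (.leaf 216) (.leaf 484)))))) (.node (.node (.node (.node (.node (.node (.leaf 8) (.leaf 544)) (.leaf 302)) (.node (.leaf 193) (.leaf 446))) (.node (.node (.leaf 50) (.leaf 349)) (.node (.leaf 262) (.leaf 395)))) (.node (.node (.node (.node (.leaf 28) (.leaf 528)) (.leaf 270)) (.node (.leaf 233) (.leaf 494))) (.node (.node (.leaf 72) (.leaf 298)) (.node (.leaf 180) (.leaf 430))))) (.node (.node (.node (.node (.node (.leaf 18) (.leaf 512)) (.leaf 355)) (.node (.leaf 112) (.leaf 345))) (.node (.node (.leaf 61) (.leaf 289)) (.node (.leaf 172) (.leaf 413)))) (.node (.node (.node (.node (.leaf 95) (.leaf 575)) (.leaf 253)) (.node (.leaf 140) (.leaf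 398))) (.node (.node (.leaf 85) (.leaf 313)) (.node (.leaf 320) (.leaf 448))))))))) (.node (.node (.node (.node (.node (.node (.node (.node (.node (.leaf 0) (.leaf 451)) (.leaf 315)) (.node (.leaf 87) (.leaf 455))) (.node (.node (.leaf 41) (.leaf 391)) (.node (.leaf 142) (.leaf 380)))) (.node (.node (.node (.node (.leaf 20) (.leaf 569)) (.leaf 350)) (.node (.leaf 215) (.leaf 483))) (.node (.node (.leaf 138) (.leaf 285)) (.node (.leaf 168) (.leaf 416))))) (.node (.node (.node (.node (.node (.leaf 10) (.leaf 474)) (.leaf 305)) (.node (.leaf 102) (.leaf 463))) (.node (.node (.leaf 119) (.leaf 405)) (.node (.leaf 239) (.leaf 399)))) (.node (.node (.node (.node (.leaf 77) (.leaf 525)) (.leaf 273)) (.node (.leaf 139) (.leaf 411))) (.node (.node (.leaf 160) (.leaf 314)) (.node (.leaf 182) (.leaf 434)))))) (.node (.node (.node (.node (.node (.node (.leaf 5) (.leaf 467)) (.leaf 330)) (.node (.leaf 188) (.leaf 329))) (.node (.node (.leaf 100) (.leaf 393)) (.node (.leaf 162) (.leaf 386))))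 (.node (.node (.node (.node (.leaf 65) (.leaf 527)) (.leaf 365)) (.node (.leaf 227) (.leaf 390))) (.node (.node (.leaf 68) (.leaf 291)) (.node (.leaf 174) (.leaf 421))))) (.node (.node (.node (.node (.node (.leaf 15) (.leaf 562)) (.leaf 347)) (.node (.leaf 178) (.leaf 348))) (.node (.node (.leaf 131) (.leaf 414)) (.node (.leaf 247) (.leaf 505)))) (.node (.node (.node (.node (.leaf 88) (.leaf 545)) (.leaf 382)) (.node (.leaf 134) (.leaf 376))) (.node (.node (.leaf 90) (.leaf 309)) (.node (.leaf 189) (.leaf 473))))))) (.node (.node (.node (.node (.node (.node (.node (.leaf 9) (.leaf 485)) (.leaf 199)) (.node (.leaf 183) (.leaf 437))) (.node (.node (.leaf 44) (.leaf 276)) (.node (.leaf 144) (.leaf 504)))) (.node (.node (.node (.node (.leaf 60) (.leaf 506)) (.leaf 229)) (.node (.leaf 220) (.leaf 489))) (.node (.node (.leaf 66) (.leaf 427)) (.node (.leaf 293) (.leaf 517))))) (.node (.node (.node (.node (.node (.leaf 35) (.leaf 547)) (.leaf 342)) (.node (.leaf 203) (.leaf 337))) (.node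 (.node (.leaf 126) (.leaf 406)) (.node (.leaf 159) (.leaf 403)))) (.node (.node (.node (.node (.leaf 82) (.leaf 535)) (.leaf 377)) (.node (.leaf 136) (.leaf 389))) (.node (.node (.leaf 80) (.leaf 335)) (.node (.leaf 186) (.leaf 438)))))) (.node (.node (.node (.node (.node (.node (.leaf 22) (.leaf 561)) (.leaf 207)) (.node (.leaf 99) (.leaf 461))) (.node (.node (.leaf 49) (.leaf 400)) (.node (.leaf 268) (.leaf 397)))) (.node (.node (.node (.node (.leaf 71) (.leaf 570)) (.leaf 237)) (.node (.leaf 125) (.leaf 381))) (.node (.node (.leaf 154) (.leaf 297)) (.node (.leaf 301) (.leaf 432))))) (.node (.node (.node (.node (.node (.leaf 48) (.leaf 499)) (.leaf 353)) (.node (.leaf 211) (.leaf 478))) (.node (.node (.leaf 135) (.leaf 334)) (.node (.leaf 283) (.leaf 532)))) (.node (.node (.node (.node (.leaf 94) (.leaf 555)) (.leaf 387)) (.node (.leaf 249) (.leaf 384))) (.node (.node (.leaf 173) (.leaf 429)) (.node (.leaf 318) (.leaf 552)))))))) (.node (.node (.node (.node (.node (.node (.node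 (.node (.leaf 6) (.leaf 452)) (.leaf 326)) (.node (.leaf 89) (.leaf 317))) (.node (.node (.leaf 103) (.leaf 256)) (.node (.leaf 143) (.leaf 513)))) (.node (.node (.node (.node (.leaf 21) (.leaf 533)) (.leaf 361)) (.node (.leaf 116) (.leaf 410))) (.node (.node (.leaf 141) (.leaf 286)) (.node (.leaf 169) (.leaf 417))))) (.node (.node (.node (.node (.node (.leaf 11) (.leaf 476)) (.leaf 212)) (.node (.leaf 192) (.leaf 469))) (.node (.node (.leaf 122) (.leaf 407)) (.node (.leaf 157) (.leaf 521)))) (.node (.node (.node (.node (.leaf 31) (.leaf 530)) (.leaf 242)) (.node (.leaf 130) (.leaf 368))) (.node (.node (.leaf 156) (.leaf 303)) (.node (.leaf 184) (.leaf 541)))))) (.node (.node (.node (.node (.node (.node (.leaf 19) (.leaf 468)) (.leaf 324)) (.node (.leaf 177) (.leaf 462))) (.node (.node (.leaf 92) (.leaf 266)) (.node (.leaf 149) (.leaf 491)))) (.node (.node (.node (.node (.leaf 26) (.leaf 573)) (.leaf 359)) (.node (.leaf 230) (.leaf 357))) (.node (.node (.leaf 151) (.leaf 328))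 (.node (.leaf 300) (.leaf 459))))) (.node (.node (.node (.node (.node (.leaf 16) (.leaf 507)) (.leaf 221)) (.node (.leaf 208) (.leaf 433))) (.node (.node (.leaf 59) (.leaf 281)) (.node (.leaf 164) (.leaf 519)))) (.node (.node (.node (.node (.leaf 91) (.leaf 550)) (.leaf 257)) (.node (.leaf 231) (.leaf 375))) (.node (.node (.leaf 170) (.leaf 447)) (.node (.leaf 191) (.leaf 539))))))) (.node (.node (.node (.node (.node (.node (.node (.leaf 12) (.leaf 475)) (.leaf 214)) (.node (.leaf 93) (.leaf 321))) (.node (.node (.leaf 45) (.leaf 274)) (.node (.leaf 261) (.leaf 385)))) (.node (.node (.node (.node (.leaf 63) (.leaf 508)) (.leaf 244)) (.node (.leaf 223) (.leaf 492))) (.node (.node (.leaf 67) (.leaf 299)) (.node (.leaf 187) (.leaf 420))))) (.node (.node (.node (.node (.node (.leaf 38) (.leaf 565)) (.leaf 218)) (.node (.leaf 107) (.leaf 339))) (.node (.node (.leaf 129) (.leaf 354)) (.node (.leaf 161) (.leaf 404)))) (.node (.node (.node (.node (.leaf 34) (.leaf 559)) (.leaf 248)) (.node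 (.leaf 133) (.leaf 503))) (.node (.node (.leaf 81) (.leaf 443)) (.node (.leaf 217) (.leaf 439)))))) (.node (.node (.node (.node (.node (.node (.leaf 25) (.leaf 553)) (.leaf 336)) (.node (.leaf 195) (.leaf 465))) (.node (.node (.leaf 96) (.leaf 373)) (.node (.leaf 269) (.leaf 401)))) (.node (.node (.node (.node (.leaf 74) (.leaf 567)) (.leaf 371)) (.node (.leaf 127) (.leaf 396))) (.node (.node (.leaf 132) (.leaf 312)) (.node (.leaf 209) (.leaf 436))))) (.node (.node (.node (.node (.node (.leaf 51) (.leaf 500)) (.leaf 224)) (.node (.leaf 213) (.leaf 456))) (.node (.node (.leaf 62) (.leaf 284)) (.node (.leaf 167) (.leaf 486)))) (.node (.node (.node (.node (.leaf 39) (.leaf 574)) (.leaf 378)) (.node (.leaf 251) (.leaf 379))) (.node (.node (.leaf 175) (.leaf 444)) (.node (.leaf 194) (.leaf 454)))))))))) (.node (.node (.node (.node (.node (.node (.node (.node (.node (.node (.leaf 2) (.leaf 554)) (.leaf 40)) (.node (.leaf 177) (.leaf 454))) (.node (.node (.leaf 99) (.leaf 390)) (.node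 (.leaf 253) (.leaf 135)))) (.node (.node (.node (.node (.leaf 53) (.leaf 568)) (.leaf 52)) (.node (.leaf 214) (.leaf 482))) (.node (.node (.leaf 55) (.leaf 423)) (.node (.leaf 288) (.leaf 534))))) (.node (.node (.node (.node (.node (.leaf 28) (.leaf 440)) (.leaf 338)) (.node (.leaf 198) (.leaf 466))) (.node (.node (.leaf 118) (.leaf 404)) (.node (.leaf 241) (.leaf 391)))) (.node (.node (.node (.node (.leaf 76) (.leaf 515)) (.leaf 373)) (.node (.leaf 235) (.leaf 243))) (.node (.node (.leaf 159) (.leaf 436)) (.node (.leaf 305) (.leaf 426)))))) (.node (.node (.node (.node (.node (.node (.leaf 15) (.leaf 481)) (.leaf 197)) (.node (.leaf 187) (.leaf 301))) (.node (.node (.leaf 35) (.leaf 251)) (.node (.leaf 263) (.leaf 261)))) (.node (.node (.node (.node (.leaf 64) (.leaf 487)) (.leaf 227)) (.node (.leaf 226) (.leaf 493))) (.node (.node (.leaf 60) (.leaf 430)) (.node (.leaf 297) (.leaf 293))))) (.node (.node (.node (.node (.node (.leaf 41) (.leaf 435)) (.leaf 346)) (.node (.leaf 101)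 (.leaf 474))) (.node (.node (.leaf 130) (.leaf 413)) (.node (.leaf 278) (.leaf 371)))) (.node (.node (.node (.node (.leaf 87) (.leaf 483)) (.leaf 381)) (.node (.leaf 63) (.leaf 366))) (.node (.node (.leaf 167) (.leaf 292)) (.node (.leaf 312) (.leaf 336))))))) (.node (.node (.node (.node (.node (.node (.node (.leaf 8) (.leaf 347)) (.leaf 327)) (.node (.leaf 182) (.leaf 98))) (.node (.node (.leaf 106) (.leaf 394)) (.node (.leaf 78) (.leaf 516)))) (.node (.node (.node (.node (.leaf 59) (.leaf 405)) (.leaf 362)) (.node (.leaf 110) (.leaf 488))) (.node (.node (.leaf 143) (.leaf 170)) (.node (.leaf 86) (.leaf 382))))) (.node (.node (.node (.node (.node (.leaf 34) (.leaf 455)) (.leaf 341)) (.node (.leaf 202) (.leaf 304))) (.node (.node (.leaf 125) (.leaf 409)) (.node (.leaf 77) (.leaf 526)))) (.node (.node (.node (.node (.leaf 81) (.leaf 529)) (.leaf 376)) (.node (.leaf 239) (.leaf 499))) (.node (.node (.leaf 65) (.leaf 88)) (.node (.leaf 208) (.leaf 546)))))) (.node (.node (.node (.node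 (.node (.node (.leaf 21) (.leaf 560)) (.leaf 333)) (.node (.leaf 191) (.leaf 463))) (.node (.node (.leaf 33) (.leaf 233)) (.node (.leaf 267) (.leaf 279)))) (.node (.node (.node (.node (.leaf 70) (.leaf 400)) (.leaf 368)) (.node (.leaf 231) (.leaf 351))) (.node (.node (.leaf 153) (.leaf 290)) (.node (.leaf 173) (.leaf 311))))) (.node (.node (.node (.node (.node (.leaf 47) (.leaf 513)) (.leaf 352)) (.node (.leaf 210) (.leaf 477))) (.node (.node (.leaf 134) (.leaf 418)) (.node (.leaf 282) (.leaf 358)))) (.node (.node (.node (.node (.leaf 93) (.leaf 549)) (.leaf 386)) (.node (.leaf 248) (.leaf 361))) (.node (.node (.leaf 172) (.leaf 450)) (.node (.leaf 317) (.leaf 323)))))))) (.node (.node (.node (.node (.node (.node (.node (.node (.leaf 5) (.leaf 188)) (.leaf 325)) (.node (.leaf 180) (.leaf 458))) (.node (.node (.leaf 102) (.leaf 393)) (.node (.leaf 256) (.leaf 512)))) (.node (.node (.node (.node (.leaf 56) (.leaf 392)) (.leaf 360)) (.node (.leaf 217) (.leaf 485))) (.node (.node (.leaf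 140) (.leaf 176)) (.node (.leaf 95) (.leaf 163))))) (.node (.node (.node (.node (.node (.leaf 31) (.leaf 422)) (.leaf 339)) (.node (.leaf 14) (.leaf 468))) (.node (.node (.leaf 121) (.leaf 406)) (.node (.leaf 273) (.leaf 524)))) (.node (.node (.node (.node (.leaf 79) (.leaf 268)) (.leaf 374)) (.node (.leaf 236) (.leaf 407))) (.node (.node (.leaf 161) (.leaf 438)) (.node (.leaf 94) (.leaf 544)))))) (.node (.node (.node (.node (.node (.node (.leaf 18) (.leaf 558)) (.leaf 332)) (.node (.leaf 189) (.leaf 320))) (.node (.node (.leaf 112) (.leaf 398)) (.node (.leaf 265) (.leaf 255)))) (.node (.node (.node (.node (.leaf 67) (.leaf 492)) (.leaf 367)) (.node (.leaf 229) (.leaf 412))) (.node (.node (.leaf 30) (.leaf 432)) (.node (.leaf 299) (.leaf 287))))) (.node (.node (.node (.node (.node (.leaf 44) (.leaf 220)) (.leaf 349)) (.node (.leaf 207) (.leaf 475))) (.node (.node (.leaf 132) (.leaf 416)) (.node (.leaf 280) (.leaf 510)))) (.node (.node (.node (.node (.leaf 90) (.leaf 300)) (.leaf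 384)) (.node (.leaf 246) (.leaf 505))) (.node (.node (.leaf 169) (.leaf 446)) (.node (.leaf 314) (.leaf 478))))))) (.node (.node (.node (.node (.node (.node (.node (.leaf 11) (.leaf 190)) (.leaf 193)) (.node (.leaf 12) (.leaf 195))) (.node (.node (.leaf 4) (.leaf 396)) (.node (.leaf 69) (.leaf 518)))) (.node (.node (.node (.node (.leaf 62) (.leaf 387)) (.leaf 223)) (.node (.leaf 222) (.leaf 491))) (.node (.node (.leaf 146) (.leaf 215)) (.node (.leaf 295) (.leaf 538))))) (.node (.node (.node (.node (.node (.leaf 37) (.leaf 460)) (.leaf 344)) (.node (.leaf 204) (.leaf 472))) (.node (.node (.leaf 128) (.leaf 410)) (.node (.leaf 238) (.leaf 154)))) (.node (.node (.node (.node (.leaf 84) (.leaf 540)) (.leaf 379)) (.node (.leaf 126) (.leaf 502))) (.node (.node (.leaf 74) (.leaf 185)) (.node (.leaf 310) (.leaf 179)))))) (.node (.node (.node (.node (.node (.node (.leaf 24) (.leaf 427)) (.leaf 335)) (.node (.leaf 194) (.leaf 464))) (.node (.node (.leaf 116) (.leaf 402)) (.node (.leaf 148)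 (.leaf 522)))) (.node (.node (.node (.node (.leaf 73) (.leaf 520)) (.leaf 370)) (.node (.leaf 58) (.leaf 230))) (.node (.node (.leaf 156) (.leaf 434)) (.node (.leaf 211) (.leaf 542))))) (.node (.node (.node (.node (.node (.leaf 50) (.leaf 566)) (.leaf 356)) (.node (.leaf 212) (.leaf 479))) (.node (.node (.leaf 136) (.leaf 420)) (.node (.leaf 285) (.leaf 408)))) (.node (.node (.node (.node (.leaf 96) (.leaf 551)) (.leaf 389)) (.node (.leaf 250) (.leaf 508))) (.node (.node (.leaf 174) (.leaf 452)) (.node (.leaf 321) (.leaf 443))))))))) (.node (.node (.node (.node (.node (.node (.node (.node (.node (.leaf 3) (.leaf 555)) (.leaf 324)) (.node (.leaf 178) (.leaf 456))) (.node (.node (.leaf 100) (.leaf 145)) (.node (.leaf 254) (.leaf 511)))) (.node (.node (.node (.node (.leaf 54) (.leaf 570)) (.leaf 359)) (.node (.leaf 216) (.leaf 484))) (.node (.node (.leaf 139) (.leaf 424)) (.node (.leaf 289) (.leaf 535))))) (.node (.node (.node (.node (.node (.leaf 29) (.leaf 563)) (.leaf 117)) (.node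 (.leaf 199) (.leaf 467))) (.node (.node (.leaf 120) (.leaf 71)) (.node (.leaf 271) (.leaf 523)))) (.node (.node (.node (.node (.leaf 22) (.leaf 574)) (.leaf 138)) (.node (.leaf 122) (.leaf 496))) (.node (.node (.leaf 9) (.leaf 437)) (.node (.leaf 306) (.leaf 543)))))) (.node (.node (.node (.node (.node (.node (.leaf 16) (.leaf 457)) (.leaf 108)) (.node (.leaf 82) (.leaf 316))) (.node (.node (.leaf 111) (.leaf 258)) (.node (.leaf 264) (.leaf 503)))) (.node (.node (.node (.node (.leaf 66) (.leaf 414)) (.leaf 129)) (.node (.leaf 228) (.leaf 225))) (.node (.node (.leaf 149) (.leaf 431)) (.node (.leaf 298) (.leaf 471))))) (.node (.node (.node (.node (.node (.leaf 42) (.leaf 219)) (.leaf 348)) (.node (.leaf 206) (.leaf 326))) (.node (.node (.leaf 27) (.leaf 415)) (.node (.leaf 158) (.leaf 528)))) (.node (.node (.node (.node (.leaf 89) (.leaf 575)) (.leaf 383)) (.node (.leaf 244) (.leaf 504))) (.node (.node (.leaf 168) (.leaf 445)) (.node (.leaf 313) (.leaf 548))))))) (.node (.node (.node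 (.node (.node (.node (.node (.leaf 10) (.leaf 557)) (.leaf 328)) (.node (.leaf 184) (.leaf 461))) (.node (.node (.leaf 107) (.leaf 395)) (.node (.leaf 259) (.leaf 517)))) (.node (.node (.node (.node (.leaf 61) (.leaf 571)) (.leaf 363)) (.node (.leaf 221) (.leaf 490))) (.node (.node (.leaf 144) (.leaf 428)) (.node (.leaf 294) (.leaf 537))))) (.node (.node (.node (.node (.node (.leaf 36) (.leaf 449)) (.leaf 343)) (.node (.leaf 46) (.leaf 331))) (.node (.node (.leaf 127) (.leaf 260)) (.node (.leaf 276) (.leaf 527)))) (.node (.node (.node (.node (.leaf 83) (.leaf 501)) (.leaf 378)) (.node (.leaf 240) (.leaf 500))) (.node (.node (.leaf 164) (.leaf 441)) (.node (.leaf 309) (.leaf 547)))))) (.node (.node (.node (.node (.node (.node (.leaf 23) (.leaf 562)) (.leaf 334)) (.node (.leaf 192) (.leaf 213))) (.node (.node (.leaf 115) (.leaf 401)) (.node (.leaf 141) (.leaf 521)))) (.node (.node (.node (.node (.leaf 72) (.leaf 249)) (.leaf 369)) (.node (.leaf 232) (.leaf 355))) (.node (.node (.leaf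 155) (.leaf 433)) (.node (.leaf 302) (.leaf 541))))) (.node (.node (.node (.node (.node (.leaf 49) (.leaf 489)) (.leaf 354)) (.node (.leaf 105) (.leaf 114))) (.node (.node (.leaf 25) (.leaf 419)) (.node (.leaf 284) (.leaf 365)))) (.node (.node (.node (.node (.leaf 17) (.leaf 469)) (.leaf 388)) (.node (.leaf 131) (.leaf 507))) (.node (.node (.leaf 48) (.leaf 451)) (.node (.leaf 319) (.leaf 330)))))))) (.node (.node (.node (.node (.node (.node (.node (.node (.leaf 7) (.leaf 556)) (.leaf 103)) (.node (.leaf 181) (.leaf 459))) (.node (.node (.leaf 104) (.leaf 245)) (.node (.leaf 257) (.leaf 514)))) (.node (.node (.node (.node (.leaf 57) (.leaf 497)) (.leaf 124)) (.node (.leaf 218) (.leaf 486))) (.node (.node (.leaf 142) (.leaf 425)) (.node (.leaf 291) (.leaf 536))))) (.node (.node (.node (.node (.node (.leaf 32) (.leaf 564)) (.leaf 340)) (.node (.leaf 201) (.leaf 470))) (.node (.node (.leaf 123) (.leaf 160)) (.node (.leaf 274) (.leaf 525)))) (.node (.node (.node (.node (.leaf 80) (.leaf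 569)) (.leaf 375)) (.node (.leaf 237) (.leaf 498))) (.node (.node (.leaf 162) (.leaf 439)) (.node (.leaf 308) (.leaf 545)))))) (.node (.node (.node (.node (.node (.node (.leaf 20) (.leaf 559)) (.leaf 175)) (.node (.leaf 91) (.leaf 200))) (.node (.node (.leaf 113) (.leaf 399)) (.node (.leaf 266) (.leaf 377)))) (.node (.node (.node (.node (.leaf 68) (.leaf 494)) (.leaf 150)) (.node (.leaf 19) (.leaf 269))) (.node (.node (.leaf 152) (.leaf 283)) (.node (.leaf 166) (.leaf 342))))) (.node (.node (.node (.node (.node (.leaf 45) (.leaf 532)) (.leaf 350)) (.node (.leaf 209) (.leaf 476))) (.node (.node (.leaf 133) (.leaf 417)) (.node (.leaf 281) (.leaf 530)))) (.node (.node (.node (.node (.leaf 92) (.leaf 561)) (.leaf 385)) (.node (.leaf 247) (.leaf 506))) (.node (.node (.leaf 171) (.leaf 448)) (.node (.leaf 315) (.leaf 550))))))) (.node (.node (.node (.node (.node (.node (.node (.leaf 13) (.leaf 552)) (.leaf 329)) (.node (.leaf 186) (.leaf 447))) (.node (.node (.leaf 109) (.leaf 397))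 (.node (.leaf 262) (.leaf 519)))) (.node (.node (.node (.node (.leaf 1) (.leaf 572)) (.leaf 364)) (.node (.leaf 224) (.leaf 119))) (.node (.node (.leaf 147) (.leaf 429)) (.node (.leaf 296) (.leaf 539))))) (.node (.node (.node (.node (.node (.leaf 39) (.leaf 462)) (.leaf 345)) (.node (.leaf 205) (.leaf 473))) (.node (.node (.leaf 6) (.leaf 411)) (.node (.leaf 277) (.leaf 353)))) (.node (.node (.node (.node (.leaf 85) (.leaf 565)) (.leaf 380)) (.node (.leaf 242) (.leaf 272))) (.node (.node (.leaf 165) (.leaf 444)) (.node (.leaf 183) (.leaf 318)))))) (.node (.node (.node (.node (.node (.node (.leaf 26) (.leaf 465)) (.leaf 337)) (.node (.leaf 196) (.leaf 442))) (.node (.node (.leaf 43) (.leaf 403)) (.node (.leaf 270) (.leaf 275)))) (.node (.node (.node (.node (.leaf 75) (.leaf 573)) (.leaf 372)) (.node (.leaf 234) (.leaf 495))) (.node (.node (.leaf 157) (.leaf 203)) (.node (.leaf 303) (.leaf 307))))) (.node (.node (.node (.node (.node (.leaf 0) (.leaf 567)) (.leaf 357)) (.node (.leaf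 51) (.leaf 480))) (.node (.node (.leaf 137) (.leaf 421)) (.node (.leaf 286) (.leaf 533)))) (.node (.node (.node (.node (.leaf 97) (.leaf 531)) (.leaf 151)) (.node (.leaf 252) (.leaf 509))) (.node (.node (.leaf 38) (.leaf 453)) (.node (.leaf 322) (.leaf 553))))))))))

/-- data -/
def prev2 : Trie (ℕ) := .node (.node (.node (.node (.node (.node (.node (.node (.node (.node (.node (.leaf 1) (.leaf 542)) (.leaf 323)) (.node (.leaf 176) (.leaf 445))) (.node (.node (.leaf 98) (.leaf 254)) (.node (.leaf 147) (.leaf 510)))) (.node (.node (.node (.node (.leaf 52) (.leaf 526)) (.leaf 358)) (.node (.leaf 113) (.leaf 481))) (.node (.node (.leaf 79) (.leaf 422)) (.node (.leaf 287) (.leaf 522))))) (.node (.node (.node (.node (.node (.leaf 27) (.leaf 558)) (.leaf 210)) (.node (.leaf 197) (.leaf 333))) (.node (.node (.leaf 117) (.leaf 271)) (.node (.leaf 155) (.leaf 496)))) (.node (.node (.node (.node (.leaf 29) (.leaf 572)) (.leaf 240)) (.node (.leaf 128) (.leaf 493))) (.node (.node (.leaf 158)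 (.leaf 435)) (.node (.leaf 304) (.leaf 464)))))) (.node (.node (.node (.node (.node (.node (.leaf 14) (.leaf 458)) (.leaf 310)) (.node (.leaf 181) (.leaf 322))) (.node (.node (.leaf 110) (.leaf 363)) (.node (.leaf 146) (.leaf 415)))) (.node (.node (.node (.node (.leaf 24) (.leaf 509)) (.leaf 278)) (.node (.leaf 225) (.leaf 402))) (.node (.node (.leaf 148) (.leaf 308)) (.node (.leaf 204) (.leaf 450))))) (.node (.node (.node (.node (.node (.leaf 40) (.leaf 538)) (.leaf 332)) (.node (.leaf 118) (.leaf 340))) (.node (.node (.leaf 57) (.leaf 412)) (.node (.leaf 246) (.leaf 418)))) (.node (.node (.node (.node (.leaf 86) (.leaf 564)) (.leaf 367)) (.node (.leaf 243) (.leaf 372))) (.node (.node (.leaf 166) (.leaf 441)) (.node (.leaf 311) (.leaf 453))))))) (.node (.node (.node (.node (.node (.node (.node (.leaf 2) (.leaf 470)) (.leaf 198)) (.node (.leaf 111) (.leaf 460))) (.node (.node (.leaf 105) (.leaf 267)) (.node (.leaf 258) (.leaf 515)))) (.node (.node (.node (.node (.leaf 58) (.leaf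 566)) (.leaf 228)) (.node (.leaf 219) (.leaf 487))) (.node (.node (.leaf 73) (.leaf 426)) (.node (.leaf 292) (.leaf 502))))) (.node (.node (.node (.node (.node (.leaf 33) (.leaf 477)) (.leaf 325)) (.node (.leaf 104) (.leaf 471))) (.node (.node (.leaf 124) (.leaf 408)) (.node (.leaf 275) (.leaf 523)))) (.node (.node (.node (.node (.leaf 32) (.leaf 568)) (.leaf 360)) (.node (.leaf 238) (.leaf 495))) (.node (.node (.leaf 163) (.leaf 440)) (.node (.leaf 295) (.leaf 543)))))) (.node (.node (.node (.node (.node (.node (.leaf 7) (.leaf 546)) (.leaf 205)) (.node (.leaf 190) (.leaf 431))) (.node (.node (.leaf 114) (.leaf 280)) (.node (.leaf 232) (.leaf 388)))) (.node (.node (.node (.node (.leaf 69) (.leaf 518)) (.leaf 235)) (.node (.leaf 222) (.leaf 364))) (.node (.node (.leaf 70) (.leaf 428)) (.node (.leaf 294) (.leaf 423))))) (.node (.node (.node (.node (.node (.leaf 46) (.leaf 490)) (.leaf 351)) (.node (.leaf 115) (.leaf 344))) (.node (.node (.leaf 75) (.leaf 409)) (.node (.leaf 165)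 (.leaf 531)))) (.node (.node (.node (.node (.leaf 37) (.leaf 560)) (.leaf 252)) (.node (.leaf 137) (.leaf 383))) (.node (.node (.leaf 84) (.leaf 449)) (.node (.leaf 316) (.leaf 551)))))))) (.node (.node (.node (.node (.node (.node (.node (.node (.leaf 4) (.leaf 482)) (.leaf 196)) (.node (.leaf 179) (.leaf 457))) (.node (.node (.leaf 101) (.leaf 392)) (.node (.leaf 255) (.leaf 488)))) (.node (.node (.node (.node (.leaf 55) (.leaf 524)) (.leaf 226)) (.node (.leaf 201) (.leaf 472))) (.node (.node (.leaf 64) (.leaf 343)) (.node (.leaf 290) (.leaf 514))))) (.node (.node (.node (.node (.node (.leaf 30) (.leaf 563)) (.leaf 327)) (.node (.leaf 200) (.leaf 424))) (.node (.node (.leaf 53) (.leaf 370)) (.node (.leaf 272) (.leaf 498)))) (.node (.node (.node (.node (.leaf 78) (.leaf 537)) (.leaf 362)) (.node (.leaf 153) (.leaf 497))) (.node (.node (.leaf 76) (.leaf 338)) (.node (.leaf 307) (.leaf 466)))))) (.node (.node (.node (.node (.node (.node (.leaf 17) (.leaf 480)) (.leaf 331)) (.node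 (.leaf 97) (.leaf 346))) (.node (.node (.leaf 47) (.leaf 265)) (.node (.leaf 234) (.leaf 520)))) (.node (.node (.node (.node (.leaf 54) (.leaf 534)) (.leaf 366)) (.node (.leaf 123) (.leaf 356))) (.node (.node (.leaf 150) (.leaf 306)) (.node (.leaf 202) (.leaf 540))))) (.node (.node (.node (.node (.node (.leaf 43) (.leaf 536)) (.leaf 250)) (.node (.leaf 109) (.leaf 419))) (.node (.node (.leaf 121) (.leaf 394)) (.node (.leaf 279) (.leaf 529)))) (.node (.node (.node (.node (.leaf 36) (.leaf 557)) (.leaf 369)) (.node (.leaf 245) (.leaf 374))) (.node (.node (.leaf 83) (.leaf 319)) (.node (.leaf 282) (.leaf 549))))))) (.node (.node (.node (.node (.node (.node (.node (.leaf 3) (.leaf 556)) (.leaf 206)) (.node (.leaf 185) (.leaf 425))) (.node (.node (.leaf 108) (.leaf 259)) (.node (.leaf 260) (.leaf 511)))) (.node (.node (.node (.node (.leaf 23) (.leaf 571)) (.leaf 236)) (.node (.leaf 120) (.leaf 352))) (.node (.node (.leaf 145) (.leaf 288)) (.node (.leaf 171) (.leaf 479))))) (.node (.node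 (.node (.node (.node (.leaf 13) (.leaf 554)) (.leaf 296)) (.node (.leaf 106) (.leaf 341))) (.node (.node (.leaf 56) (.leaf 277)) (.node (.leaf 263) (.leaf 516)))) (.node (.node (.node (.node (.leaf 42) (.leaf 548)) (.leaf 264)) (.node (.leaf 241) (.leaf 501))) (.node (.node (.leaf 152) (.leaf 442)) (.node (.leaf 216) (.leaf 484)))))) (.node (.node (.node (.node (.node (.node (.leaf 8) (.leaf 544)) (.leaf 302)) (.node (.leaf 193) (.leaf 446))) (.node (.node (.leaf 50) (.leaf 349)) (.node (.leaf 262) (.leaf 395)))) (.node (.node (.node (.node (.leaf 28) (.leaf 528)) (.leaf 270)) (.node (.leaf 233) (.leaf 494))) (.node (.node (.leaf 72) (.leaf 298)) (.node (.leaf 180) (.leaf 430))))) (.node (.node (.node (.node (.node (.leaf 18) (.leaf 512)) (.leaf 355)) (.node (.leaf 112) (.leaf 345))) (.node (.node (.leaf 61) (.leaf 289)) (.node (.leaf 172) (.leaf 413)))) (.node (.node (.node (.node (.leaf 95) (.leaf 575)) (.leaf 253)) (.node (.leaf 140) (.leaf 398))) (.node (.node (.leaf 85) (.leaf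 313)) (.node (.leaf 320) (.leaf 448))))))))) (.node (.node (.node (.node (.node (.node (.node (.node (.node (.leaf 0) (.leaf 451)) (.leaf 315)) (.node (.leaf 87) (.leaf 455))) (.node (.node (.leaf 41) (.leaf 391)) (.node (.leaf 142) (.leaf 380)))) (.node (.node (.node (.node (.leaf 20) (.leaf 569)) (.leaf 350)) (.node (.leaf 215) (.leaf 483))) (.node (.node (.leaf 138) (.leaf 285)) (.node (.leaf 168) (.leaf 416))))) (.node (.node (.node (.node (.node (.leaf 10) (.leaf 474)) (.leaf 305)) (.node (.leaf 102) (.leaf 463))) (.node (.node (.leaf 119) (.leaf 405)) (.node (.leaf 239) (.leaf 399)))) (.node (.node (.node (.node (.leaf 77) (.leaf 525)) (.leaf 273)) (.node (.leaf 139) (.leaf 411))) (.node (.node (.leaf 160) (.leaf 314)) (.node (.leaf 182) (.leaf 434)))))) (.node (.node (.node (.node (.node (.node (.leaf 5) (.leaf 467)) (.leaf 330)) (.node (.leaf 188) (.leaf 329))) (.node (.node (.leaf 100) (.leaf 393)) (.node (.leaf 162) (.leaf 386)))) (.node (.node (.node (.node (.leaf 65)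 (.leaf 527)) (.leaf 365)) (.node (.leaf 227) (.leaf 390))) (.node (.node (.leaf 68) (.leaf 291)) (.node (.leaf 174) (.leaf 421))))) (.node (.node (.node (.node (.node (.leaf 15) (.leaf 562)) (.leaf 347)) (.node (.leaf 178) (.leaf 348))) (.node (.node (.leaf 131) (.leaf 414)) (.node (.leaf 247) (.leaf 505)))) (.node (.node (.node (.node (.leaf 88) (.leaf 545)) (.leaf 382)) (.node (.leaf 134) (.leaf 376))) (.node (.node (.leaf 90) (.leaf 309)) (.node (.leaf 189) (.leaf 473))))))) (.node (.node (.node (.node (.node (.node (.node (.leaf 9) (.leaf 485)) (.leaf 199)) (.node (.leaf 183) (.leaf 437))) (.node (.node (.leaf 44) (.leaf 276)) (.node (.leaf 144) (.leaf 504)))) (.node (.node (.node (.node (.leaf 60) (.leaf 506)) (.leaf 229)) (.node (.leaf 220) (.leaf 489))) (.node (.node (.leaf 66) (.leaf 427)) (.node (.leaf 293) (.leaf 517))))) (.node (.node (.node (.node (.node (.leaf 35) (.leaf 547)) (.leaf 342)) (.node (.leaf 203) (.leaf 337))) (.node (.node (.leaf 126) (.leaf 406)) (.node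 (.leaf 159) (.leaf 403)))) (.node (.node (.node (.node (.leaf 82) (.leaf 535)) (.leaf 377)) (.node (.leaf 136) (.leaf 389))) (.node (.node (.leaf 80) (.leaf 335)) (.node (.leaf 186) (.leaf 438)))))) (.node (.node (.node (.node (.node (.node (.leaf 22) (.leaf 561)) (.leaf 207)) (.node (.leaf 99) (.leaf 461))) (.node (.node (.leaf 49) (.leaf 400)) (.node (.leaf 268) (.leaf 397)))) (.node (.node (.node (.node (.leaf 71) (.leaf 570)) (.leaf 237)) (.node (.leaf 125) (.leaf 381))) (.node (.node (.leaf 154) (.leaf 297)) (.node (.leaf 301) (.leaf 432))))) (.node (.node (.node (.node (.node (.leaf 48) (.leaf 499)) (.leaf 353)) (.node (.leaf 211) (.leaf 478))) (.node (.node (.leaf 135) (.leaf 334)) (.node (.leaf 283) (.leaf 532)))) (.node (.node (.node (.node (.leaf 94) (.leaf 555)) (.leaf 387)) (.node (.leaf 249) (.leaf 384))) (.node (.node (.leaf 173) (.leaf 429)) (.node (.leaf 318) (.leaf 552)))))))) (.node (.node (.node (.node (.node (.node (.node (.node (.leaf 6) (.leaf 452)) (.leaf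 326)) (.node (.leaf 89) (.leaf 317))) (.node (.node (.leaf 103) (.leaf 256)) (.node (.leaf 143) (.leaf 513)))) (.node (.node (.node (.node (.leaf 21) (.leaf 533)) (.leaf 361)) (.node (.leaf 116) (.leaf 410))) (.node (.node (.leaf 141) (.leaf 286)) (.node (.leaf 169) (.leaf 417))))) (.node (.node (.node (.node (.node (.leaf 11) (.leaf 476)) (.leaf 212)) (.node (.leaf 192) (.leaf 469))) (.node (.node (.leaf 122) (.leaf 407)) (.node (.leaf 157) (.leaf 521)))) (.node (.node (.node (.node (.leaf 31) (.leaf 530)) (.leaf 242)) (.node (.leaf 130) (.leaf 368))) (.node (.node (.leaf 156) (.leaf 303)) (.node (.leaf 184) (.leaf 541)))))) (.node (.node (.node (.node (.node (.node (.leaf 19) (.leaf 468)) (.leaf 324)) (.node (.leaf 177) (.leaf 462))) (.node (.node (.leaf 92) (.leaf 266)) (.node (.leaf 149) (.leaf 491)))) (.node (.node (.node (.node (.leaf 26) (.leaf 573)) (.leaf 359)) (.node (.leaf 230) (.leaf 357))) (.node (.node (.leaf 151) (.leaf 328)) (.node (.leaf 300) (.leaf 459))))) (.node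 (.node (.node (.node (.node (.leaf 16) (.leaf 507)) (.leaf 221)) (.node (.leaf 208) (.leaf 433))) (.node (.node (.leaf 59) (.leaf 281)) (.node (.leaf 164) (.leaf 519)))) (.node (.node (.node (.node (.leaf 91) (.leaf 550)) (.leaf 257)) (.node (.leaf 231) (.leaf 375))) (.node (.node (.leaf 170) (.leaf 447)) (.node (.leaf 191) (.leaf 539))))))) (.node (.node (.node (.node (.node (.node (.node (.leaf 12) (.leaf 475)) (.leaf 214)) (.node (.leaf 93) (.leaf 321))) (.node (.node (.leaf 45) (.leaf 274)) (.node (.leaf 261) (.leaf 385)))) (.node (.node (.node (.node (.leaf 63) (.leaf 508)) (.leaf 244)) (.node (.leaf 223) (.leaf 492))) (.node (.node (.leaf 67) (.leaf 299)) (.node (.leaf 187) (.leaf 420))))) (.node (.node (.node (.node (.node (.leaf 38) (.leaf 565)) (.leaf 218)) (.node (.leaf 107) (.leaf 339))) (.node (.node (.leaf 129) (.leaf 354)) (.node (.leaf 161) (.leaf 404)))) (.node (.node (.node (.node (.leaf 34) (.leaf 559)) (.leaf 248)) (.node (.leaf 133) (.leaf 503))) (.node (.node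 (.leaf 81) (.leaf 443)) (.node (.leaf 217) (.leaf 439)))))) (.node (.node (.node (.node (.node (.node (.leaf 25) (.leaf 553)) (.leaf 336)) (.node (.leaf 195) (.leaf 465))) (.node (.node (.leaf 96) (.leaf 373)) (.node (.leaf 269) (.leaf 401)))) (.node (.node (.node (.node (.leaf 74) (.leaf 567)) (.leaf 371)) (.node (.leaf 127) (.leaf 396))) (.node (.node (.leaf 132) (.leaf 312)) (.node (.leaf 209) (.leaf 436))))) (.node (.node (.node (.node (.node (.leaf 51) (.leaf 500)) (.leaf 224)) (.node (.leaf 213) (.leaf 456))) (.node (.node (.leaf 62) (.leaf 284)) (.node (.leaf 167) (.leaf 486)))) (.node (.node (.node (.node (.leaf 39) (.leaf 574)) (.leaf 378)) (.node (.leaf 251) (.leaf 379))) (.node (.node (.leaf 175) (.leaf 444)) (.node (.leaf 194) (.leaf 454)))))))))) (.node (.node (.node (.node (.node (.node (.node (.node (.node (.node (.leaf 31) (.leaf 450)) (.leaf 194)) (.node (.leaf 86) (.leaf 314))) (.node (.node (.leaf 40) (.leaf 394)) (.node (.leaf 141) (.leaf 379)))) (.node (.node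 (.node (.node (.leaf 19) (.leaf 498)) (.leaf 224)) (.node (.leaf 339) (.leaf 346))) (.node (.node (.leaf 62) (.leaf 284)) (.node (.leaf 167) (.leaf 415))))) (.node (.node (.node (.node (.node (.leaf 9) (.leaf 473)) (.leaf 439)) (.node (.leaf 101) (.leaf 556))) (.node (.node (.leaf 51) (.leaf 504)) (.node (.leaf 244) (.leaf 398)))) (.node (.node (.node (.node (.leaf 125) (.leaf 524)) (.leaf 404)) (.node (.leaf 354) (.leaf 362))) (.node (.node (.leaf 74) (.leaf 300)) (.node (.leaf 181) (.leaf 433)))))) (.node (.node (.node (.node (.node (.node (.leaf 4) (.leaf 558)) (.leaf 201)) (.node (.leaf 94) (.leaf 546))) (.node (.node (.leaf 45) (.leaf 261)) (.node (.leaf 395) (.leaf 385)))) (.node (.node (.node (.node (.leaf 256) (.leaf 519)) (.leaf 231)) (.node (.leaf 121) (.leaf 353))) (.node (.node (.leaf 67) (.leaf 290)) (.node (.leaf 173) (.leaf 420))))) (.node (.node (.node (.node (.node (.leaf 14) (.leaf 483)) (.leaf 218)) (.node (.leaf 107) (.leaf 478))) (.node (.node (.leaf 372) (.leaf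 278)) (.node (.leaf 161) (.leaf 406)))) (.node (.node (.node (.node (.leaf 34) (.leaf 544)) (.leaf 248)) (.node (.leaf 133) (.leaf 528))) (.node (.node (.leaf 81) (.leaf 308)) (.node (.leaf 188) (.leaf 441))))))) (.node (.node (.node (.node (.node (.node (.node (.leaf 70) (.leaf 452)) (.leaf 341)) (.node (.leaf 90) (.leaf 317))) (.node (.node (.leaf 43) (.leaf 257)) (.node (.leaf 143) (.leaf 382)))) (.node (.node (.node (.node (.leaf 21) (.leaf 505)) (.leaf 376)) (.node (.leaf 117) (.leaf 350))) (.node (.node (.leaf 65) (.leaf 286)) (.node (.leaf 169) (.leaf 417))))) (.node (.node (.node (.node (.node (.leaf 11) (.leaf 539)) (.leaf 213)) (.node (.leaf 206) (.leaf 336))) (.node (.node (.leaf 54) (.leaf 275)) (.node (.leaf 158) (.leaf 402)))) (.node (.node (.node (.node (.leaf 288) (.leaf 531)) (.leaf 243)) (.node (.leaf 130) (.leaf 368))) (.node (.node (.leaf 78) (.leaf 303)) (.node (.leaf 185) (.leaf 437)))))) (.node (.node (.node (.node (.node (.node (.leaf 134) (.leaf 466)) (.leaf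 562)) (.node (.leaf 98) (.leaf 326))) (.node (.node (.leaf 48) (.leaf 266)) (.node (.leaf 150) (.leaf 534)))) (.node (.node (.node (.node (.leaf 26) (.leaf 515)) (.leaf 570)) (.node (.leaf 124) (.leaf 357))) (.node (.node (.leaf 265) (.leaf 295)) (.node (.leaf 178) (.leaf 554))))) (.node (.node (.node (.node (.node (.leaf 16) (.leaf 566)) (.leaf 221)) (.node (.leaf 110) (.leaf 426))) (.node (.node (.leaf 59) (.leaf 281)) (.node (.leaf 538) (.leaf 411)))) (.node (.node (.node (.node (.leaf 104) (.leaf 551)) (.leaf 393)) (.node (.leaf 514) (.leaf 375))) (.node (.node (.leaf 291) (.leaf 311)) (.node (.leaf 191) (.leaf 446)))))))) (.node (.node (.node (.node (.node (.node (.node (.node (.leaf 0) (.leaf 451)) (.leaf 329)) (.node (.leaf 88) (.leaf 316))) (.node (.node (.leaf 41) (.leaf 255)) (.node (.leaf 142) (.leaf 380)))) (.node (.node (.node (.node (.leaf 20) (.leaf 500)) (.leaf 364)) (.node (.leaf 115) (.leaf 348))) (.node (.node (.leaf 388) (.leaf 285)) (.node (.leaf 168) (.leaf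 416))))) (.node (.node (.node (.node (.node (.leaf 10) (.leaf 475)) (.leaf 211)) (.node (.leaf 102) (.leaf 334))) (.node (.node (.leaf 137) (.leaf 272)) (.node (.leaf 156) (.leaf 400)))) (.node (.node (.node (.node (.leaf 30) (.leaf 525)) (.leaf 241)) (.node (.leaf 129) (.leaf 366))) (.node (.node (.leaf 413) (.leaf 302)) (.node (.leaf 183) (.leaf 435)))))) (.node (.node (.node (.node (.node (.node (.leaf 5) (.leaf 462)) (.leaf 203)) (.node (.leaf 305) (.leaf 324))) (.node (.node (.leaf 118) (.leaf 509)) (.node (.leaf 148) (.leaf 386)))) (.node (.node (.node (.node (.leaf 25) (.leaf 512)) (.leaf 233)) (.node (.leaf 356) (.leaf 496))) (.node (.node (.leaf 68) (.leaf 292)) (.node (.leaf 175) (.leaf 421))))) (.node (.node (.node (.node (.node (.leaf 15) (.leaf 486)) (.leaf 220)) (.node (.leaf 470) (.leaf 342))) (.node (.node (.leaf 58) (.leaf 280)) (.node (.leaf 163) (.leaf 408)))) (.node (.node (.node (.node (.leaf 174) (.leaf 545)) (.leaf 250)) (.node (.leaf 135) (.leaf 399))) (.node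 (.node (.leaf 177) (.leaf 309)) (.node (.leaf 190) (.leaf 443))))))) (.node (.node (.node (.node (.node (.node (.node (.leaf 87) (.leaf 454)) (.leaf 199)) (.node (.leaf 92) (.leaf 320))) (.node (.node (.leaf 44) (.leaf 409)) (.node (.leaf 144) (.leaf 384)))) (.node (.node (.node (.node (.leaf 127) (.leaf 507)) (.leaf 229)) (.node (.leaf 235) (.leaf 530))) (.node (.node (.leaf 66) (.leaf 476)) (.node (.leaf 430) (.leaf 419))))) (.node (.node (.node (.node (.node (.leaf 49) (.leaf 480)) (.leaf 216)) (.node (.leaf 299) (.leaf 338))) (.node (.node (.leaf 228) (.leaf 491)) (.node (.leaf 160) (.leaf 403)))) (.node (.node (.node (.node (.leaf 33) (.leaf 542)) (.leaf 246)) (.node (.leaf 132) (.leaf 370))) (.node (.node (.leaf 80) (.leaf 306)) (.node (.leaf 186) (.leaf 438)))))) (.node (.node (.node (.node (.node (.node (.leaf 146) (.leaf 468)) (.leaf 207)) (.node (.leaf 99) (.leaf 330))) (.node (.node (.leaf 196) (.leaf 269)) (.node (.leaf 153) (.leaf 535)))) (.node (.node (.node (.node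 (.leaf 149) (.leaf 522)) (.leaf 237)) (.node (.leaf 126) (.leaf 360))) (.node (.node (.leaf 164) (.leaf 440)) (.node (.leaf 214) (.leaf 555))))) (.node (.node (.node (.node (.node (.leaf 106) (.leaf 494)) (.leaf 223)) (.node (.leaf 217) (.leaf 553))) (.node (.node (.leaf 242) (.leaf 283)) (.node (.leaf 166) (.leaf 506)))) (.node (.node (.node (.node (.leaf 38) (.leaf 561)) (.leaf 503)) (.node (.leaf 518) (.leaf 378))) (.node (.node (.leaf 182) (.leaf 484)) (.node (.leaf 193) (.leaf 474))))))))) (.node (.node (.node (.node (.node (.node (.node (.node (.node (.leaf 39) (.leaf 540)) (.leaf 195)) (.node (.leaf 297) (.leaf 315))) (.node (.node (.leaf 116) (.leaf 254)) (.node (.leaf 262) (.leaf 533)))) (.node (.node (.node (.node (.leaf 76) (.leaf 499)) (.leaf 225)) (.node (.leaf 114) (.leaf 347))) (.node (.node (.leaf 63) (.leaf 471)) (.node (.leaf 425) (.leaf 520))))) (.node (.node (.node (.node (.node (.leaf 61) (.leaf 564)) (.leaf 210)) (.node (.leaf 321) (.leaf 333))) (.node (.node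 (.leaf 52) (.leaf 271)) (.node (.leaf 155) (.leaf 527)))) (.node (.node (.node (.node (.leaf 29) (.leaf 571)) (.leaf 240)) (.node (.leaf 128) (.leaf 365))) (.node (.node (.leaf 75) (.leaf 301)) (.node (.leaf 208) (.leaf 547)))))) (.node (.node (.node (.node (.node (.node (.leaf 113) (.leaf 461)) (.leaf 202)) (.node (.leaf 95) (.leaf 322))) (.node (.node (.leaf 46) (.leaf 263)) (.node (.leaf 147) (.leaf 521)))) (.node (.node (.node (.node (.leaf 24) (.leaf 511)) (.leaf 232)) (.node (.leaf 122) (.leaf 355))) (.node (.node (.leaf 157) (.leaf 444)) (.node (.leaf 332) (.leaf 541))))) (.node (.node (.node (.node (.node (.leaf 93) (.leaf 485)) (.leaf 219)) (.node (.leaf 108) (.leaf 340))) (.node (.node (.leaf 57) (.leaf 279)) (.node (.leaf 162) (.leaf 407)))) (.node (.node (.node (.node (.leaf 35) (.leaf 563)) (.leaf 249)) (.node (.leaf 374) (.leaf 373))) (.node (.node (.leaf 82) (.leaf 459)) (.node (.leaf 557) (.leaf 442))))))) (.node (.node (.node (.node (.node (.node (.node (.leaf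 2) (.leaf 453)) (.leaf 456)) (.node (.leaf 91) (.leaf 318))) (.node (.node (.leaf 198) (.leaf 258)) (.node (.leaf 264) (.leaf 383)))) (.node (.node (.node (.node (.leaf 22) (.leaf 572)) (.leaf 488)) (.node (.leaf 119) (.leaf 351))) (.node (.node (.leaf 152) (.leaf 287)) (.node (.leaf 170) (.leaf 418))))) (.node (.node (.node (.node (.node (.leaf 12) (.leaf 479)) (.leaf 215)) (.node (.leaf 105) (.leaf 548))) (.node (.node (.leaf 55) (.leaf 276)) (.node (.leaf 397) (.leaf 573)))) (.node (.node (.node (.node (.leaf 32) (.leaf 567)) (.leaf 245)) (.node (.leaf 131) (.leaf 369))) (.node (.node (.leaf 273) (.leaf 304)) (.node (.leaf 323) (.leaf 565)))))) (.node (.node (.node (.node (.node (.node (.leaf 7) (.leaf 467)) (.leaf 427)) (.node (.leaf 205) (.leaf 327))) (.node (.node (.leaf 212) (.leaf 268)) (.node (.leaf 151) (.leaf 389)))) (.node (.node (.node (.node (.leaf 27) (.leaf 517)) (.leaf 392)) (.node (.leaf 236) (.leaf 359))) (.node (.node (.leaf 71) (.leaf 477)) (.node (.leaf 179)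 (.leaf 424))))) (.node (.node (.node (.node (.node (.leaf 17) (.leaf 493)) (.leaf 222)) (.node (.leaf 111) (.leaf 344))) (.node (.node (.leaf 60) (.leaf 282)) (.node (.leaf 165) (.leaf 412)))) (.node (.node (.node (.node (.leaf 37) (.leaf 559)) (.leaf 252)) (.node (.leaf 138) (.leaf 377))) (.node (.node (.leaf 84) (.leaf 312)) (.node (.leaf 192) (.leaf 447)))))))) (.node (.node (.node (.node (.node (.node (.node (.node (.leaf 1) (.leaf 560)) (.leaf 197)) (.node (.leaf 189) (.leaf 550))) (.node (.node (.leaf 42) (.leaf 508)) (.node (.leaf 390) (.leaf 381)))) (.node (.node (.node (.node (.leaf 72) (.leaf 501)) (.leaf 227)) (.node (.leaf 482) (.leaf 349))) (.node (.node (.leaf 64) (.leaf 429)) (.node (.leaf 296) (.leaf 568))))) (.node (.node (.node (.node (.node (.leaf 171) (.leaf 575)) (.leaf 463)) (.node (.leaf 103) (.leaf 335))) (.node (.node (.leaf 53) (.leaf 274)) (.node (.leaf 238) (.leaf 401)))) (.node (.node (.node (.node (.leaf 159) (.leaf 529)) (.leaf 495)) (.node (.leaf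 502) (.leaf 536))) (.node (.node (.leaf 77) (.leaf 472)) (.node (.leaf 432) (.leaf 436)))))) (.node (.node (.node (.node (.node (.node (.leaf 6) (.leaf 465)) (.leaf 204)) (.node (.leaf 97) (.leaf 325))) (.node (.node (.leaf 47) (.leaf 405)) (.node (.leaf 367) (.leaf 387)))) (.node (.node (.node (.node (.leaf 79) (.leaf 513)) (.leaf 234)) (.node (.leaf 123) (.leaf 526))) (.node (.node (.leaf 69) (.leaf 293)) (.node (.leaf 176) (.leaf 422))))) (.node (.node (.node (.node (.node (.leaf 89) (.leaf 487)) (.leaf 363)) (.node (.leaf 109) (.leaf 343))) (.node (.node (.leaf 139) (.leaf 516)) (.node (.leaf 537) (.leaf 410)))) (.node (.node (.node (.node (.leaf 36) (.leaf 549)) (.leaf 251)) (.node (.leaf 136) (.leaf 510))) (.node (.node (.leaf 83) (.leaf 310)) (.node (.leaf 328) (.leaf 445))))))) (.node (.node (.node (.node (.node (.node (.node (.leaf 3) (.leaf 455)) (.leaf 200)) (.node (.leaf 448) (.leaf 464))) (.node (.node (.leaf 337) (.leaf 260)) (.node (.leaf 145) (.leaf 532)))) (.node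 (.node (.node (.node (.leaf 23) (.leaf 574)) (.leaf 230)) (.node (.leaf 120) (.leaf 352))) (.node (.node (.leaf 259) (.leaf 289)) (.node (.leaf 172) (.leaf 552))))) (.node (.node (.node (.node (.node (.leaf 13) (.leaf 481)) (.leaf 460)) (.node (.leaf 319) (.leaf 434))) (.node (.node (.leaf 56) (.leaf 277)) (.node (.leaf 358) (.leaf 489)))) (.node (.node (.node (.node (.leaf 96) (.leaf 543)) (.leaf 492)) (.node (.leaf 247) (.leaf 371))) (.node (.node (.leaf 423) (.leaf 307)) (.node (.leaf 187) (.leaf 457)))))) (.node (.node (.node (.node (.node (.node (.leaf 8) (.leaf 469)) (.leaf 209)) (.node (.leaf 100) (.leaf 331))) (.node (.node (.leaf 50) (.leaf 270)) (.node (.leaf 154) (.leaf 396)))) (.node (.node (.node (.node (.leaf 28) (.leaf 523)) (.leaf 239)) (.node (.leaf 267) (.leaf 361))) (.node (.node (.leaf 73) (.leaf 298)) (.node (.leaf 180) (.leaf 431))))) (.node (.node (.node (.node (.node (.leaf 18) (.leaf 497)) (.leaf 490)) (.node (.leaf 112) (.leaf 345))) (.node (.node (.leaf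 226) (.leaf 428)) (.node (.leaf 294) (.leaf 414)))) (.node (.node (.node (.node (.leaf 184) (.leaf 569)) (.leaf 253)) (.node (.leaf 140) (.leaf 391))) (.node (.node (.leaf 85) (.leaf 313)) (.node (.leaf 458) (.leaf 449))))))))))

/-- data -/
def lab2 : Trie (Word) := .node (.node (.node (.node (.node (.node (.node (.node (.node (.node (.node (.leaf []) (.leaf [])) (.leaf [])) (.node (.leaf []) (.leaf []))) (.node (.node (.leaf []) (.leaf [])) (.node (.leaf []) (.leaf [])))) (.node (.node (.node (.node (.leaf []) (.leaf [])) (.leaf [])) (.node (.leaf []) (.leaf []))) (.node (.node (.leaf []) (.leaf [])) (.node (.leaf []) (.leaf []))))) (.node (.node (.node (.node (.node (.leaf []) (.leaf [])) (.leaf [])) (.node (.leaf []) (.leaf []))) (.node (.node (.leaf []) (.leaf [])) (.node (.leaf []) (.leaf [])))) (.node (.node (.node (.node (.leaf []) (.leaf [])) (.leaf [])) (.node (.leaf []) (.leaf []))) (.node (.node (.leaf []) (.leaf [])) (.node (.leaf []) (.leaf [])))))) (.node (.node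 (.node (.node (.node (.node (.leaf []) (.leaf [])) (.leaf [])) (.node (.leaf []) (.leaf []))) (.node (.node (.leaf []) (.leaf [])) (.node (.leaf []) (.leaf [])))) (.node (.node (.node (.node (.leaf []) (.leaf [])) (.leaf [])) (.node (.leaf []) (.leaf []))) (.node (.node (.leaf []) (.leaf [])) (.node (.leaf []) (.leaf []))))) (.node (.node (.node (.node (.node (.leaf []) (.leaf [])) (.leaf [])) (.node (.leaf []) (.leaf []))) (.node (.node (.leaf []) (.leaf [])) (.node (.leaf []) (.leaf [])))) (.node (.node (.node (.node (.leaf []) (.leaf [])) (.leaf [])) (.node (.leaf []) (.leaf []))) (.node (.node (.leaf []) (.leaf [])) (.node (.leaf []) (.leaf []))))))) (.node (.node (.node (.node (.node (.node (.node (.leaf []) (.leaf [])) (.leaf [])) (.node (.leaf []) (.leaf []))) (.node (.node (.leaf []) (.leaf [])) (.node (.leaf []) (.leaf [])))) (.node (.node (.node (.node (.leaf []) (.leaf [])) (.leaf [])) (.node (.leaf []) (.leaf []))) (.node (.node (.leaf []) (.leaf [])) (.node (.leaf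 []) (.leaf []))))) (.node (.node (.node (.node (.node (.leaf []) (.leaf [])) (.leaf [])) (.node (.leaf []) (.leaf []))) (.node (.node (.leaf []) (.leaf [])) (.node (.leaf []) (.leaf [])))) (.node (.node (.node (.node (.leaf []) (.leaf [])) (.leaf [])) (.node (.leaf []) (.leaf []))) (.node (.node (.leaf []) (.leaf [])) (.node (.leaf []) (.leaf [])))))) (.node (.node (.node (.node (.node (.node (.leaf []) (.leaf [])) (.leaf [])) (.node (.leaf []) (.leaf []))) (.node (.node (.leaf []) (.leaf [])) (.node (.leaf []) (.leaf [])))) (.node (.node (.node (.node (.leaf []) (.leaf [])) (.leaf [])) (.node (.leaf []) (.leaf []))) (.node (.node (.leaf []) (.leaf [])) (.node (.leaf []) (.leaf []))))) (.node (.node (.node (.node (.node (.leaf []) (.leaf [])) (.leaf [])) (.node (.leaf []) (.leaf []))) (.node (.node (.leaf []) (.leaf [])) (.node (.leaf []) (.leaf [])))) (.node (.node (.node (.node (.leaf []) (.leaf [])) (.leaf [])) (.node (.leaf []) (.leaf []))) (.node (.node (.leaf []) (.leaf []))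 (.node (.leaf []) (.leaf [])))))))) (.node (.node (.node (.node (.node (.node (.node (.node (.leaf []) (.leaf [])) (.leaf [])) (.node (.leaf []) (.leaf []))) (.node (.node (.leaf []) (.leaf [])) (.node (.leaf []) (.leaf [])))) (.node (.node (.node (.node (.leaf []) (.leaf [])) (.leaf [])) (.node (.leaf []) (.leaf []))) (.node (.node (.leaf []) (.leaf [])) (.node (.leaf []) (.leaf []))))) (.node (.node (.node (.node (.node (.leaf []) (.leaf [])) (.leaf [])) (.node (.leaf []) (.leaf []))) (.node (.node (.leaf []) (.leaf [])) (.node (.leaf []) (.leaf [])))) (.node (.node (.node (.node (.leaf []) (.leaf [])) (.leaf [])) (.node (.leaf []) (.leaf []))) (.node (.node (.leaf []) (.leaf [])) (.node (.leaf []) (.leaf [])))))) (.node (.node (.node (.node (.node (.node (.leaf []) (.leaf [])) (.leaf [])) (.node (.leaf []) (.leaf []))) (.node (.node (.leaf []) (.leaf [])) (.node (.leaf []) (.leaf [])))) (.node (.node (.node (.node (.leaf []) (.leaf [])) (.leaf [])) (.node (.leaf []) (.leaf [])))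 (.node (.node (.leaf []) (.leaf [])) (.node (.leaf []) (.leaf []))))) (.node (.node (.node (.node (.node (.leaf []) (.leaf [])) (.leaf [])) (.node (.leaf []) (.leaf []))) (.node (.node (.leaf []) (.leaf [])) (.node (.leaf []) (.leaf [])))) (.node (.node (.node (.node (.leaf []) (.leaf [])) (.leaf [])) (.node (.leaf []) (.leaf []))) (.node (.node (.leaf []) (.leaf [])) (.node (.leaf []) (.leaf []))))))) (.node (.node (.node (.node (.node (.node (.node (.leaf []) (.leaf [])) (.leaf [])) (.node (.leaf []) (.leaf []))) (.node (.node (.leaf []) (.leaf [])) (.node (.leaf []) (.leaf [])))) (.node (.node (.node (.node (.leaf []) (.leaf [])) (.leaf [])) (.node (.leaf []) (.leaf []))) (.node (.node (.leaf []) (.leaf [])) (.node (.leaf []) (.leaf []))))) (.node (.node (.node (.node (.node (.leaf []) (.leaf [])) (.leaf [])) (.node (.leaf []) (.leaf []))) (.node (.node (.leaf []) (.leaf [])) (.node (.leaf []) (.leaf [])))) (.node (.node (.node (.node (.leaf []) (.leaf [])) (.leaf [])) (.node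 (.leaf []) (.leaf []))) (.node (.node (.leaf []) (.leaf [])) (.node (.leaf []) (.leaf [])))))) (.node (.node (.node (.node (.node (.node (.leaf []) (.leaf [])) (.leaf [])) (.node (.leaf []) (.leaf []))) (.node (.node (.leaf []) (.leaf [])) (.node (.leaf []) (.leaf [])))) (.node (.node (.node (.node (.leaf []) (.leaf [])) (.leaf [])) (.node (.leaf []) (.leaf []))) (.node (.node (.leaf []) (.leaf [])) (.node (.leaf []) (.leaf []))))) (.node (.node (.node (.node (.node (.leaf []) (.leaf [])) (.leaf [])) (.node (.leaf []) (.leaf []))) (.node (.node (.leaf []) (.leaf [])) (.node (.leaf []) (.leaf [])))) (.node (.node (.node (.node (.leaf []) (.leaf [])) (.leaf [])) (.node (.leaf []) (.leaf []))) (.node (.node (.leaf []) (.leaf [])) (.node (.leaf []) (.leaf []))))))))) (.node (.node (.node (.node (.node (.node (.node (.node (.node (.leaf []) (.leaf [])) (.leaf [])) (.node (.leaf []) (.leaf []))) (.node (.node (.leaf []) (.leaf [])) (.node (.leaf []) (.leaf [])))) (.node (.node (.node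 (.node (.leaf []) (.leaf [])) (.leaf [])) (.node (.leaf []) (.leaf []))) (.node (.node (.leaf []) (.leaf [])) (.node (.leaf []) (.leaf []))))) (.node (.node (.node (.node (.node (.leaf []) (.leaf [])) (.leaf [])) (.node (.leaf []) (.leaf []))) (.node (.node (.leaf []) (.leaf [])) (.node (.leaf []) (.leaf [])))) (.node (.node (.node (.node (.leaf []) (.leaf [])) (.leaf [])) (.node (.leaf []) (.leaf []))) (.node (.node (.leaf []) (.leaf [])) (.node (.leaf []) (.leaf [])))))) (.node (.node (.node (.node (.node (.node (.leaf []) (.leaf [])) (.leaf [])) (.node (.leaf []) (.leaf []))) (.node (.node (.leaf []) (.leaf [])) (.node (.leaf []) (.leaf [])))) (.node (.node (.node (.node (.leaf []) (.leaf [])) (.leaf [])) (.node (.leaf []) (.leaf []))) (.node (.node (.leaf []) (.leaf [])) (.node (.leaf []) (.leaf []))))) (.node (.node (.node (.node (.node (.leaf []) (.leaf [])) (.leaf [])) (.node (.leaf []) (.leaf []))) (.node (.node (.leaf []) (.leaf [])) (.node (.leaf []) (.leaf [])))) (.node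 (.node (.node (.node (.leaf []) (.leaf [])) (.leaf [])) (.node (.leaf []) (.leaf []))) (.node (.node (.leaf []) (.leaf [])) (.node (.leaf []) (.leaf []))))))) (.node (.node (.node (.node (.node (.node (.node (.leaf []) (.leaf [])) (.leaf [])) (.node (.leaf []) (.leaf []))) (.node (.node (.leaf []) (.leaf [])) (.node (.leaf []) (.leaf [])))) (.node (.node (.node (.node (.leaf []) (.leaf [])) (.leaf [])) (.node (.leaf []) (.leaf []))) (.node (.node (.leaf []) (.leaf [])) (.node (.leaf []) (.leaf []))))) (.node (.node (.node (.node (.node (.leaf []) (.leaf [])) (.leaf [])) (.node (.leaf []) (.leaf []))) (.node (.node (.leaf []) (.leaf [])) (.node (.leaf []) (.leaf [])))) (.node (.node (.node (.node (.leaf []) (.leaf [])) (.leaf [])) (.node (.leaf []) (.leaf []))) (.node (.node (.leaf []) (.leaf [])) (.node (.leaf []) (.leaf [])))))) (.node (.node (.node (.node (.node (.node (.leaf []) (.leaf [])) (.leaf [])) (.node (.leaf []) (.leaf []))) (.node (.node (.leaf []) (.leaf [])) (.node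 (.leaf []) (.leaf [])))) (.node (.node (.node (.node (.leaf []) (.leaf [])) (.leaf [])) (.node (.leaf []) (.leaf []))) (.node (.node (.leaf []) (.leaf [])) (.node (.leaf []) (.leaf []))))) (.node (.node (.node (.node (.node (.leaf []) (.leaf [])) (.leaf [])) (.node (.leaf []) (.leaf []))) (.node (.node (.leaf []) (.leaf [])) (.node (.leaf []) (.leaf [])))) (.node (.node (.node (.node (.leaf []) (.leaf [])) (.leaf [])) (.node (.leaf []) (.leaf []))) (.node (.node (.leaf []) (.leaf [])) (.node (.leaf []) (.leaf [])))))))) (.node (.node (.node (.node (.node (.node (.node (.node (.leaf []) (.leaf [])) (.leaf [])) (.node (.leaf []) (.leaf []))) (.node (.node (.leaf []) (.leaf [])) (.node (.leaf []) (.leaf [])))) (.node (.node (.node (.node (.leaf []) (.leaf [])) (.leaf [])) (.node (.leaf []) (.leaf []))) (.node (.node (.leaf []) (.leaf [])) (.node (.leaf []) (.leaf []))))) (.node (.node (.node (.node (.node (.leaf []) (.leaf [])) (.leaf [])) (.node (.leaf []) (.leaf []))) (.node (.node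 (.leaf []) (.leaf [])) (.node (.leaf []) (.leaf [])))) (.node (.node (.node (.node (.leaf []) (.leaf [])) (.leaf [])) (.node (.leaf []) (.leaf []))) (.node (.node (.leaf []) (.leaf [])) (.node (.leaf []) (.leaf [])))))) (.node (.node (.node (.node (.node (.node (.leaf []) (.leaf [])) (.leaf [])) (.node (.leaf []) (.leaf []))) (.node (.node (.leaf []) (.leaf [])) (.node (.leaf []) (.leaf [])))) (.node (.node (.node (.node (.leaf []) (.leaf [])) (.leaf [])) (.node (.leaf []) (.leaf []))) (.node (.node (.leaf []) (.leaf [])) (.node (.leaf []) (.leaf []))))) (.node (.node (.node (.node (.node (.leaf []) (.leaf [])) (.leaf [])) (.node (.leaf []) (.leaf []))) (.node (.node (.leaf []) (.leaf [])) (.node (.leaf []) (.leaf [])))) (.node (.node (.node (.node (.leaf []) (.leaf [])) (.leaf [])) (.node (.leaf []) (.leaf []))) (.node (.node (.leaf []) (.leaf [])) (.node (.leaf []) (.leaf []))))))) (.node (.node (.node (.node (.node (.node (.node (.leaf []) (.leaf [])) (.leaf [])) (.node (.leaf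 []) (.leaf []))) (.node (.node (.leaf []) (.leaf [])) (.node (.leaf []) (.leaf [])))) (.node (.node (.node (.node (.leaf []) (.leaf [])) (.leaf [])) (.node (.leaf []) (.leaf []))) (.node (.node (.leaf []) (.leaf [])) (.node (.leaf []) (.leaf []))))) (.node (.node (.node (.node (.node (.leaf []) (.leaf [])) (.leaf [])) (.node (.leaf []) (.leaf []))) (.node (.node (.leaf []) (.leaf [])) (.node (.leaf []) (.leaf [])))) (.node (.node (.node (.node (.leaf []) (.leaf [])) (.leaf [])) (.node (.leaf []) (.leaf []))) (.node (.node (.leaf []) (.leaf [])) (.node (.leaf []) (.leaf [])))))) (.node (.node (.node (.node (.node (.node (.leaf []) (.leaf [])) (.leaf [])) (.node (.leaf []) (.leaf []))) (.node (.node (.leaf []) (.leaf [])) (.node (.leaf []) (.leaf [])))) (.node (.node (.node (.node (.leaf []) (.leaf [])) (.leaf [])) (.node (.leaf []) (.leaf []))) (.node (.node (.leaf []) (.leaf [])) (.node (.leaf []) (.leaf []))))) (.node (.node (.node (.node (.node (.leaf []) (.leaf [])) (.leaf []))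 (.node (.leaf []) (.leaf []))) (.node (.node (.leaf []) (.leaf [])) (.node (.leaf []) (.leaf [])))) (.node (.node (.node (.node (.leaf []) (.leaf [])) (.leaf [])) (.node (.leaf []) (.leaf []))) (.node (.node (.leaf []) (.leaf [])) (.node (.leaf []) (.leaf [])))))))))) (.node (.node (.node (.node (.node (.node (.node (.node (.node (.node (.leaf []) (.leaf [])) (.leaf [])) (.node (.leaf []) (.leaf []))) (.node (.node (.leaf []) (.leaf [])) (.node (.leaf []) (.leaf [])))) (.node (.node (.node (.node (.leaf []) (.leaf [])) (.leaf [])) (.node (.leaf []) (.leaf []))) (.node (.node (.leaf []) (.leaf [])) (.node (.leaf []) (.leaf []))))) (.node (.node (.node (.node (.node (.leaf []) (.leaf [])) (.leaf [])) (.node (.leaf []) (.leaf []))) (.node (.node (.leaf []) (.leaf [])) (.node (.leaf []) (.leaf [])))) (.node (.node (.node (.node (.leaf []) (.leaf [])) (.leaf [])) (.node (.leaf []) (.leaf []))) (.node (.node (.leaf []) (.leaf [])) (.node (.leaf []) (.leaf [])))))) (.node (.node (.node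 (.node (.node (.node (.leaf []) (.leaf [])) (.leaf [])) (.node (.leaf []) (.leaf []))) (.node (.node (.leaf []) (.leaf [])) (.node (.leaf []) (.leaf [])))) (.node (.node (.node (.node (.leaf []) (.leaf [])) (.leaf [])) (.node (.leaf []) (.leaf []))) (.node (.node (.leaf []) (.leaf [])) (.node (.leaf []) (.leaf []))))) (.node (.node (.node (.node (.node (.leaf []) (.leaf [])) (.leaf [])) (.node (.leaf []) (.leaf []))) (.node (.node (.leaf []) (.leaf [])) (.node (.leaf []) (.leaf [])))) (.node (.node (.node (.node (.leaf []) (.leaf [])) (.leaf [])) (.node (.leaf []) (.leaf []))) (.node (.node (.leaf []) (.leaf [])) (.node (.leaf []) (.leaf []))))))) (.node (.node (.node (.node (.node (.node (.node (.leaf []) (.leaf [])) (.leaf [])) (.node (.leaf []) (.leaf []))) (.node (.node (.leaf []) (.leaf [])) (.node (.leaf []) (.leaf [])))) (.node (.node (.node (.node (.leaf []) (.leaf [])) (.leaf [])) (.node (.leaf []) (.leaf []))) (.node (.node (.leaf []) (.leaf [])) (.node (.leaf []) (.leaf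 []))))) (.node (.node (.node (.node (.node (.leaf []) (.leaf [])) (.leaf [])) (.node (.leaf []) (.leaf []))) (.node (.node (.leaf []) (.leaf [])) (.node (.leaf []) (.leaf [])))) (.node (.node (.node (.node (.leaf []) (.leaf [])) (.leaf [])) (.node (.leaf []) (.leaf []))) (.node (.node (.leaf []) (.leaf [])) (.node (.leaf []) (.leaf [])))))) (.node (.node (.node (.node (.node (.node (.leaf []) (.leaf [])) (.leaf [])) (.node (.leaf []) (.leaf []))) (.node (.node (.leaf []) (.leaf [])) (.node (.leaf []) (.leaf [])))) (.node (.node (.node (.node (.leaf []) (.leaf [])) (.leaf [])) (.node (.leaf []) (.leaf []))) (.node (.node (.leaf []) (.leaf [])) (.node (.leaf []) (.leaf []))))) (.node (.node (.node (.node (.node (.leaf []) (.leaf [])) (.leaf [])) (.node (.leaf []) (.leaf []))) (.node (.node (.leaf []) (.leaf [])) (.node (.leaf []) (.leaf [])))) (.node (.node (.node (.node (.leaf []) (.leaf [])) (.leaf [])) (.node (.leaf []) (.leaf []))) (.node (.node (.leaf []) (.leaf [])) (.node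 (.leaf []) (.leaf [])))))))) (.node (.node (.node (.node (.node (.node (.node (.node (.leaf []) (.leaf [])) (.leaf [])) (.node (.leaf []) (.leaf []))) (.node (.node (.leaf []) (.leaf [])) (.node (.leaf []) (.leaf [])))) (.node (.node (.node (.node (.leaf []) (.leaf [])) (.leaf [])) (.node (.leaf []) (.leaf []))) (.node (.node (.leaf []) (.leaf [])) (.node (.leaf []) (.leaf []))))) (.node (.node (.node (.node (.node (.leaf []) (.leaf [])) (.leaf [])) (.node (.leaf []) (.leaf []))) (.node (.node (.leaf []) (.leaf [])) (.node (.leaf []) (.leaf [])))) (.node (.node (.node (.node (.leaf []) (.leaf [])) (.leaf [])) (.node (.leaf []) (.leaf []))) (.node (.node (.leaf []) (.leaf [])) (.node (.leaf []) (.leaf [])))))) (.node (.node (.node (.node (.node (.node (.leaf []) (.leaf [])) (.leaf [])) (.node (.leaf []) (.leaf []))) (.node (.node (.leaf []) (.leaf [])) (.node (.leaf []) (.leaf [])))) (.node (.node (.node (.node (.leaf []) (.leaf [])) (.leaf [])) (.node (.leaf []) (.leaf []))) (.node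 (.node (.leaf []) (.leaf [])) (.node (.leaf []) (.leaf []))))) (.node (.node (.node (.node (.node (.leaf []) (.leaf [])) (.leaf [])) (.node (.leaf []) (.leaf []))) (.node (.node (.leaf []) (.leaf [])) (.node (.leaf []) (.leaf [])))) (.node (.node (.node (.node (.leaf []) (.leaf [])) (.leaf [])) (.node (.leaf []) (.leaf []))) (.node (.node (.leaf []) (.leaf [])) (.node (.leaf []) (.leaf []))))))) (.node (.node (.node (.node (.node (.node (.node (.leaf []) (.leaf [])) (.leaf [])) (.node (.leaf []) (.leaf []))) (.node (.node (.leaf []) (.leaf [])) (.node (.leaf []) (.leaf [])))) (.node (.node (.node (.node (.leaf []) (.leaf [])) (.leaf [])) (.node (.leaf []) (.leaf []))) (.node (.node (.leaf []) (.leaf [])) (.node (.leaf []) (.leaf []))))) (.node (.node (.node (.node (.node (.leaf []) (.leaf [])) (.leaf [])) (.node (.leaf []) (.leaf []))) (.node (.node (.leaf []) (.leaf [])) (.node (.leaf []) (.leaf [])))) (.node (.node (.node (.node (.leaf []) (.leaf [])) (.leaf [])) (.node (.leaf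 []) (.leaf []))) (.node (.node (.leaf []) (.leaf [])) (.node (.leaf []) (.leaf [])))))) (.node (.node (.node (.node (.node (.node (.leaf []) (.leaf [])) (.leaf [])) (.node (.leaf []) (.leaf []))) (.node (.node (.leaf []) (.leaf [])) (.node (.leaf []) (.leaf [])))) (.node (.node (.node (.node (.leaf []) (.leaf [])) (.leaf [])) (.node (.leaf []) (.leaf []))) (.node (.node (.leaf []) (.leaf [])) (.node (.leaf []) (.leaf []))))) (.node (.node (.node (.node (.node (.leaf []) (.leaf [])) (.leaf [])) (.node (.leaf []) (.leaf []))) (.node (.node (.leaf []) (.leaf [])) (.node (.leaf []) (.leaf [])))) (.node (.node (.node (.node (.leaf []) (.leaf [])) (.leaf [])) (.node (.leaf []) (.leaf []))) (.node (.node (.leaf []) (.leaf [])) (.node (.leaf []) (.leaf []))))))))) (.node (.node (.node (.node (.node (.node (.node (.node (.node (.leaf []) (.leaf [])) (.leaf [])) (.node (.leaf []) (.leaf []))) (.node (.node (.leaf []) (.leaf [])) (.node (.leaf []) (.leaf [])))) (.node (.node (.node (.node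 (.leaf []) (.leaf [])) (.leaf [])) (.node (.leaf []) (.leaf []))) (.node (.node (.leaf []) (.leaf [])) (.node (.leaf []) (.leaf []))))) (.node (.node (.node (.node (.node (.leaf []) (.leaf [])) (.leaf [])) (.node (.leaf []) (.leaf []))) (.node (.node (.leaf []) (.leaf [])) (.node (.leaf []) (.leaf [])))) (.node (.node (.node (.node (.leaf []) (.leaf [])) (.leaf [])) (.node (.leaf []) (.leaf []))) (.node (.node (.leaf []) (.leaf [])) (.node (.leaf []) (.leaf [])))))) (.node (.node (.node (.node (.node (.node (.leaf []) (.leaf [])) (.leaf [])) (.node (.leaf []) (.leaf []))) (.node (.node (.leaf []) (.leaf [])) (.node (.leaf []) (.leaf [])))) (.node (.node (.node (.node (.leaf []) (.leaf [])) (.leaf [])) (.node (.leaf []) (.leaf []))) (.node (.node (.leaf []) (.leaf [])) (.node (.leaf []) (.leaf []))))) (.node (.node (.node (.node (.node (.leaf []) (.leaf [])) (.leaf [])) (.node (.leaf []) (.leaf []))) (.node (.node (.leaf []) (.leaf [])) (.node (.leaf []) (.leaf [])))) (.node (.node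 (.node (.node (.leaf []) (.leaf [])) (.leaf [])) (.node (.leaf []) (.leaf []))) (.node (.node (.leaf []) (.leaf [])) (.node (.leaf []) (.leaf []))))))) (.node (.node (.node (.node (.node (.node (.node (.leaf []) (.leaf [])) (.leaf [])) (.node (.leaf []) (.leaf []))) (.node (.node (.leaf []) (.leaf [])) (.node (.leaf []) (.leaf [])))) (.node (.node (.node (.node (.leaf []) (.leaf [])) (.leaf [])) (.node (.leaf []) (.leaf []))) (.node (.node (.leaf []) (.leaf [])) (.node (.leaf []) (.leaf []))))) (.node (.node (.node (.node (.node (.leaf []) (.leaf [])) (.leaf [])) (.node (.leaf []) (.leaf []))) (.node (.node (.leaf []) (.leaf [])) (.node (.leaf []) (.leaf [])))) (.node (.node (.node (.node (.leaf []) (.leaf [])) (.leaf [])) (.node (.leaf []) (.leaf []))) (.node (.node (.leaf []) (.leaf [])) (.node (.leaf []) (.leaf [])))))) (.node (.node (.node (.node (.node (.node (.leaf []) (.leaf [])) (.leaf [])) (.node (.leaf []) (.leaf []))) (.node (.node (.leaf []) (.leaf [])) (.node (.leaf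 []) (.leaf [])))) (.node (.node (.node (.node (.leaf []) (.leaf [])) (.leaf [])) (.node (.leaf []) (.leaf []))) (.node (.node (.leaf []) (.leaf [])) (.node (.leaf []) (.leaf []))))) (.node (.node (.node (.node (.node (.leaf []) (.leaf [])) (.leaf [])) (.node (.leaf []) (.leaf []))) (.node (.node (.leaf []) (.leaf [])) (.node (.leaf []) (.leaf [])))) (.node (.node (.node (.node (.leaf []) (.leaf [])) (.leaf [])) (.node (.leaf []) (.leaf []))) (.node (.node (.leaf []) (.leaf [])) (.node (.leaf []) (.leaf [])))))))) (.node (.node (.node (.node (.node (.node (.node (.node (.leaf []) (.leaf [])) (.leaf [])) (.node (.leaf []) (.leaf []))) (.node (.node (.leaf []) (.leaf [])) (.node (.leaf []) (.leaf [])))) (.node (.node (.node (.node (.leaf []) (.leaf [])) (.leaf [])) (.node (.leaf []) (.leaf []))) (.node (.node (.leaf []) (.leaf [])) (.node (.leaf []) (.leaf []))))) (.node (.node (.node (.node (.node (.leaf []) (.leaf [])) (.leaf [])) (.node (.leaf []) (.leaf []))) (.node (.node (.leaf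 []) (.leaf [])) (.node (.leaf []) (.leaf [])))) (.node (.node (.node (.node (.leaf []) (.leaf [])) (.leaf [])) (.node (.leaf []) (.leaf []))) (.node (.node (.leaf []) (.leaf [])) (.node (.leaf []) (.leaf [])))))) (.node (.node (.node (.node (.node (.node (.leaf []) (.leaf [])) (.leaf [])) (.node (.leaf []) (.leaf []))) (.node (.node (.leaf []) (.leaf [])) (.node (.leaf []) (.leaf [])))) (.node (.node (.node (.node (.leaf []) (.leaf [])) (.leaf [])) (.node (.leaf []) (.leaf []))) (.node (.node (.leaf []) (.leaf [])) (.node (.leaf []) (.leaf []))))) (.node (.node (.node (.node (.node (.leaf []) (.leaf [])) (.leaf [])) (.node (.leaf []) (.leaf []))) (.node (.node (.leaf []) (.leaf [])) (.node (.leaf []) (.leaf [])))) (.node (.node (.node (.node (.leaf []) (.leaf [])) (.leaf [])) (.node (.leaf []) (.leaf []))) (.node (.node (.leaf []) (.leaf [])) (.node (.leaf []) (.leaf []))))))) (.node (.node (.node (.node (.node (.node (.node (.leaf []) (.leaf [])) (.leaf [])) (.node (.leaf [])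 (.leaf []))) (.node (.node (.leaf []) (.leaf [])) (.node (.leaf []) (.leaf [])))) (.node (.node (.node (.node (.leaf []) (.leaf [])) (.leaf [])) (.node (.leaf []) (.leaf []))) (.node (.node (.leaf []) (.leaf [])) (.node (.leaf []) (.leaf []))))) (.node (.node (.node (.node (.node (.leaf []) (.leaf [])) (.leaf [])) (.node (.leaf []) (.leaf []))) (.node (.node (.leaf []) (.leaf [])) (.node (.leaf []) (.leaf [])))) (.node (.node (.node (.node (.leaf []) (.leaf [])) (.leaf [])) (.node (.leaf []) (.leaf []))) (.node (.node (.leaf []) (.leaf [])) (.node (.leaf []) (.leaf [])))))) (.node (.node (.node (.node (.node (.node (.leaf []) (.leaf [])) (.leaf [])) (.node (.leaf []) (.leaf []))) (.node (.node (.leaf []) (.leaf [])) (.node (.leaf []) (.leaf [])))) (.node (.node (.node (.node (.leaf []) (.leaf [])) (.leaf [])) (.node (.leaf []) (.leaf []))) (.node (.node (.leaf []) (.leaf [])) (.node (.leaf []) (.leaf []))))) (.node (.node (.node (.node (.node (.leaf []) (.leaf [])) (.leaf []))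 (.node (.leaf []) (.leaf []))) (.node (.node (.leaf []) (.leaf [])) (.node (.leaf []) (.leaf [])))) (.node (.node (.node (.node (.leaf []) (.leaf [])) (.leaf [])) (.node (.leaf []) (.leaf []))) (.node (.node (.leaf []) (.leaf [])) (.node (.leaf []) (.leaf []))))))))))

/-- data -/
def val2 : Trie (Vec) := .node (.node (.node (.node (.node (.node (.node (.node (.node (.node (.node (.leaf []) (.leaf [0, 0, 0, 1])) (.leaf [])) (.node (.leaf []) (.leaf [1, (-1), 3, 1, (-1)]))) (.node (.node (.leaf []) (.leaf [1])) (.node (.leaf [1, 0, 0, 1]) (.leaf [])))) (.node (.node (.node (.node (.leaf []) (.leaf [2, (-1), 2, 2])) (.leaf [])) (.node (.leaf [1]) (.leaf []))) (.node (.node (.leaf [0, 1, (-1), 0, (-1)]) (.leaf [])) (.node (.leaf []) (.leaf [0, 0, 0, 1]))))) (.node (.node (.node (.node (.node (.leaf []) (.leaf [0, 0, 0, (-2)])) (.leaf [1])) (.node (.leaf []) (.leaf [1]))) (.node (.node (.leaf []) (.leaf [1])) (.node (.leaf [1]) (.leaf [(-1), 1, (-2), 1])))) (.node (.node (.node (.node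 (.leaf [1]) (.leaf [1, (-1), 0, 2, 2])) (.leaf [1])) (.node (.leaf [1]) (.leaf [1, (-1), 0, 2, 2]))) (.node (.node (.leaf []) (.leaf [])) (.node (.leaf []) (.leaf [2, (-1), 2, (-1)])))))) (.node (.node (.node (.node (.node (.node (.leaf []) (.leaf [1])) (.leaf [0, 0, (-1), (-1), 1])) (.node (.leaf [0, 0, 0, 1]) (.leaf [1]))) (.node (.node (.leaf []) (.leaf [0, 0, 0, 1])) (.node (.leaf [1]) (.leaf [1, 0, 0, (-3)])))) (.node (.node (.node (.node (.leaf [1]) (.leaf [1])) (.leaf [1, 0, (-1), (-1), 1])) (.node (.leaf []) (.leaf [2, (-1), 2, (-3)]))) (.node (.node (.leaf []) (.leaf [1])) (.node (.leaf [1]) (.leaf [1, 0, 0, (-3)]))))) (.node (.node (.node (.node (.node (.leaf []) (.leaf [1, (-1), 3, 9, (-1)])) (.leaf [1, (-1), 1, 2, 1])) (.node (.leaf [0, 1, (-1), 0, (-1)]) (.leaf [1]))) (.node (.node (.leaf [1]) (.leaf [])) (.node (.leaf [(-1), 1, (-1), 0, (-1)]) (.leaf [1, 0, (-1), (-1), 1])))) (.node (.node (.node (.node (.leaf []) (.leaf [3, (-2), 0, (-1), 4])) (.leaf [1, (-1), 1,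 2, 1])) (.node (.leaf []) (.leaf [1]))) (.node (.node (.leaf []) (.leaf [1, (-1), 0, 2, 2])) (.node (.leaf []) (.leaf [1, 0, (-1), (-1), 1]))))))) (.node (.node (.node (.node (.node (.node (.node (.leaf [1]) (.leaf [2, (-1), 0, 0, 2])) (.leaf [1])) (.node (.leaf [1, 0, 0, 1]) (.leaf []))) (.node (.node (.leaf []) (.leaf [0, 1, 0, (-2), (-2)])) (.node (.leaf []) (.leaf [])))) (.node (.node (.node (.node (.leaf []) (.leaf [0, 0, 0, (-2)])) (.leaf [1])) (.node (.leaf []) (.leaf []))) (.node (.node (.leaf [1, 0, 0, 1]) (.leaf [])) (.node (.leaf []) (.leaf [1, (-1), 0, 0, 2]))))) (.node (.node (.node (.node (.node (.leaf []) (.leaf [1])) (.leaf [0, 0, 0, 2])) (.node (.leaf [1]) (.leaf []))) (.node (.node (.leaf []) (.leaf [])) (.node (.leaf []) (.leaf [0, 0, 1, (-1), (-1)])))) (.node (.node (.node (.node (.leaf [1]) (.leaf [(-1), 1, (-2), (-7)])) (.leaf [0, 0, 0, 2])) (.node (.leaf []) (.leaf [1, (-1), 1, 0, 1]))) (.node (.node (.leaf []) (.leaf [])) (.node (.leaf [0, 0, (-1), 2, 1])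 (.leaf [0, 0, 1, (-1), (-1)])))))) (.node (.node (.node (.node (.node (.node (.leaf [1]) (.leaf [1, (-1), 2, 2])) (.leaf [1])) (.node (.leaf []) (.leaf [0, 0, 1, 0, (-1)]))) (.node (.node (.leaf []) (.leaf [0, 1, (-1), (-2), (-1)])) (.node (.leaf [0, 0, 0, 2]) (.leaf [1])))) (.node (.node (.node (.node (.leaf []) (.leaf [2, (-1), 3, 9, (-1)])) (.leaf [1])) (.node (.leaf [0, 0, 0, 1]) (.leaf [0, 1, (-1), 0, (-1)]))) (.node (.node (.leaf [1]) (.leaf [(-1), 1, (-1), 0, (-1)])) (.node (.leaf [(-1), 1, (-1), 0, (-1)]) (.leaf [1]))))) (.node (.node (.node (.node (.node (.leaf []) (.leaf [1])) (.leaf [])) (.node (.leaf [1, 0, 0, 1]) (.leaf [1]))) (.node (.node (.leaf [1, 0, 1, 0, (-1)]) (.leaf [1, (-1), 1, 2, 1])) (.node (.leaf [1]) (.leaf [])))) (.node (.node (.node (.node (.leaf [1]) (.leaf [0, 1, (-2), (-7)])) (.leaf [1])) (.node (.leaf [1]) (.leaf [0, 1, (-1), (-2), (-1)]))) (.node (.node (.leaf [1]) (.leaf [])) (.node (.leaf []) (.leaf [])))))))) (.node (.node (.node (.node (.node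 (.node (.node (.node (.leaf []) (.leaf [1])) (.leaf [1])) (.node (.leaf []) (.leaf []))) (.node (.node (.leaf []) (.leaf [])) (.node (.leaf []) (.leaf [0, 0, 0, 1])))) (.node (.node (.node (.node (.leaf []) (.leaf [0, 1, 0, 4, (-2)])) (.leaf [1])) (.node (.leaf [0, 0, 0, 1]) (.leaf [0, 0, (-1), 1, 1]))) (.node (.node (.leaf [1]) (.leaf [1, 0, 0, (-3)])) (.node (.leaf []) (.leaf []))))) (.node (.node (.node (.node (.node (.leaf []) (.leaf [(-1), 1, (-3), (-4), 1])) (.leaf [])) (.node (.leaf []) (.leaf [1, (-1), 0, 1, 2]))) (.node (.node (.leaf [1]) (.leaf [])) (.node (.leaf []) (.leaf [0, 0, 0, (-1)])))) (.node (.node (.node (.node (.leaf []) (.leaf [1, 0, 0, (-2)])) (.leaf [])) (.node (.leaf [1, 0, (-1), 2, 1]) (.leaf []))) (.node (.node (.leaf [1]) (.leaf [1])) (.node (.leaf []) (.leaf [1, 0, 0, (-1)])))))) (.node (.node (.node (.node (.node (.node (.leaf []) (.leaf [1, 0, 0, (-1)])) (.leaf [])) (.node (.leaf [1]) (.leaf [1, 0, (-1), (-1), 1]))) (.node (.node (.leaf [1]) (.leaf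 [1])) (.node (.leaf []) (.leaf [])))) (.node (.node (.node (.node (.leaf [0, 0, 0, 1]) (.leaf [1, 0, 1, (-1), (-1)])) (.leaf [])) (.node (.leaf [1]) (.leaf [1]))) (.node (.node (.leaf []) (.leaf [1, 0, 0, 2])) (.node (.leaf [1, 0, 0, 2]) (.leaf []))))) (.node (.node (.node (.node (.node (.leaf []) (.leaf [1, 0, (-1), (-5), 1])) (.leaf [1, 0, 1, 0, (-1)])) (.node (.leaf [1]) (.leaf [(-2), 2, (-1), 2, (-3)]))) (.node (.node (.leaf [0, 0, 0, 1]) (.leaf [0, 0, (-1), 1, 1])) (.node (.leaf []) (.leaf [])))) (.node (.node (.node (.node (.leaf [1]) (.leaf [1, 0, 0, (-2)])) (.leaf [])) (.node (.leaf []) (.leaf [1]))) (.node (.node (.leaf [1]) (.leaf [1, 0, 0, 1])) (.node (.leaf [0, 0, 1, 0, (-1)]) (.leaf []))))))) (.node (.node (.node (.node (.node (.node (.node (.leaf [1]) (.leaf [0, 0, (-1), (-5), 1])) (.leaf [0, 1, (-1), 0, (-1)])) (.node (.leaf []) (.leaf [0, 0, (-1), 1, 1]))) (.node (.node (.leaf []) (.leaf [1])) (.node (.leaf []) (.leaf [(-1), 1, 2, (-4), (-4)])))) (.node (.node (.node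 (.node (.leaf [1]) (.leaf [(-1), 1, (-3), (-4), 1])) (.leaf [0, 1, (-1), 0, (-1)])) (.node (.leaf [1]) (.leaf [1]))) (.node (.node (.leaf []) (.leaf [1])) (.node (.leaf [1]) (.leaf [1, 0, 2, (-4), (-2)]))))) (.node (.node (.node (.node (.node (.leaf [1]) (.leaf [0, 0, 1, (-1), (-1)])) (.leaf [0, 0, (-1), 1, 1])) (.node (.leaf [1]) (.leaf [0, 1, 0, (-2), (-2)]))) (.node (.node (.leaf [1]) (.leaf [1])) (.node (.leaf [0, 0, (-1), 2, 1]) (.leaf [0, 0, 0, (-2)])))) (.node (.node (.node (.node (.leaf [1, 0, 0, 1]) (.leaf [2, (-1), 0, (-2), 2])) (.leaf [1, 0, (-1), 1, 1])) (.node (.leaf []) (.leaf []))) (.node (.node (.leaf [(-1), 1, (-1), 0, (-1)]) (.leaf [])) (.node (.leaf [0, 1, (-1), 0, (-1)]) (.leaf [1, 0, 0, (-2)])))))) (.node (.node (.node (.node (.node (.node (.leaf [1]) (.leaf [(-1), 1, (-4), 2, 2])) (.leaf [0, 0, 0, (-1)])) (.node (.leaf []) (.leaf [0, 0, 0, (-1)]))) (.node (.node (.leaf [1]) (.leaf [1, (-1), 2, 1])) (.node (.leaf [(-1), 1, (-1), 0, (-1)]) (.leaf [1])))) (.node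 (.node (.node (.node (.leaf [1]) (.leaf [2, (-1), 0, (-2), 2])) (.leaf [1, 0, 0, (-1)])) (.node (.leaf []) (.leaf []))) (.node (.node (.leaf [1]) (.leaf [1])) (.node (.leaf [1]) (.leaf [1]))))) (.node (.node (.node (.node (.node (.leaf [1]) (.leaf [1, 0, 0, (-1)])) (.leaf [])) (.node (.leaf [1]) (.leaf [1]))) (.node (.node (.leaf [1]) (.leaf [1, 0, 0, 1])) (.node (.leaf [1, 0, 0, 1]) (.leaf [1])))) (.node (.node (.node (.node (.leaf []) (.leaf [0, 0, 1, 1, (-1)])) (.leaf [1])) (.node (.leaf [1]) (.leaf [1, 0, 0, 1]))) (.node (.node (.leaf [1]) (.leaf [1])) (.node (.leaf []) (.leaf [1]))))))))) (.node (.node (.node (.node (.node (.node (.node (.node (.node (.leaf [1]) (.leaf [1])) (.leaf [0, 0, 0, 1])) (.node (.leaf [1]) (.leaf []))) (.node (.node (.leaf [1]) (.leaf [])) (.node (.leaf [1]) (.leaf [1])))) (.node (.node (.node (.node (.leaf [1]) (.leaf [])) (.leaf [0, 0, 0, 1])) (.node (.leaf []) (.leaf []))) (.node (.node (.leaf []) (.leaf [1])) (.node (.leaf [1]) (.leaf [1])))))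 (.node (.node (.node (.node (.node (.leaf [1]) (.leaf [1])) (.leaf [0, 0, 1, (-1), (-1)])) (.node (.leaf [1]) (.leaf [1, (-1), 1, 0, 1]))) (.node (.node (.leaf []) (.leaf [])) (.node (.leaf [0, 0, (-1), 0, 1]) (.leaf [1])))) (.node (.node (.node (.node (.leaf []) (.leaf [1])) (.leaf [1, 0, 1, (-1), (-1)])) (.node (.leaf [0, 1, (-1), 0, (-1)]) (.leaf [1, 0, 0, (-1)]))) (.node (.node (.leaf []) (.leaf [2, (-1), 0, 4, 2])) (.node (.leaf [1]) (.leaf [1])))))) (.node (.node (.node (.node (.node (.node (.leaf [1]) (.leaf [1, 0, (-1), (-1), 1])) (.leaf [])) (.node (.leaf []) (.leaf [0, 1, (-1), 0, (-1)]))) (.node (.node (.leaf [0, 0, 0, 1]) (.leaf [(-1), 1, (-1), 0, (-1)])) (.node (.leaf [1, 0, 0, (-1)]) (.leaf [1])))) (.node (.node (.node (.node (.leaf []) (.leaf [1, 0, (-2), 2, 2])) (.leaf [])) (.node (.leaf []) (.leaf [1, 0, (-1), 1, 1]))) (.node (.node (.leaf [1]) (.leaf [1])) (.node (.leaf [1]) (.leaf [1]))))) (.node (.node (.node (.node (.node (.leaf [1]) (.leaf [0, 0, 0, 2])) (.leaf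 [])) (.node (.leaf [0, 0, (-1), 2, 1]) (.leaf [0, 1, (-1), (-2), (-1)]))) (.node (.node (.leaf []) (.leaf [])) (.node (.leaf []) (.leaf [(-1), 1, (-2)])))) (.node (.node (.node (.node (.leaf []) (.leaf [1])) (.leaf [])) (.node (.leaf [1]) (.leaf [0, 1, 0, (-2), (-2)]))) (.node (.node (.leaf [1, 0, 0, 1]) (.leaf [1])) (.node (.leaf [1]) (.leaf [0, 1, (-2)]))))))) (.node (.node (.node (.node (.node (.node (.node (.leaf []) (.leaf [1])) (.leaf [1])) (.node (.leaf []) (.leaf [0, 0, 0, (-3)]))) (.node (.node (.leaf [1]) (.leaf [1])) (.node (.leaf [1]) (.leaf [0, 0, (-1), 1, 1])))) (.node (.node (.node (.node (.leaf []) (.leaf [1])) (.leaf [1])) (.node (.leaf []) (.leaf []))) (.node (.node (.leaf [1]) (.leaf [])) (.node (.leaf []) (.leaf []))))) (.node (.node (.node (.node (.node (.leaf []) (.leaf [0, 0, (-2), 2, 2])) (.leaf [])) (.node (.leaf []) (.leaf [1]))) (.node (.node (.leaf []) (.leaf [1, (-1), 0, 2, 2])) (.node (.leaf [1]) (.leaf [1])))) (.node (.node (.node (.node (.leaf [])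 (.leaf [1])) (.leaf [])) (.node (.leaf [1, 0, 0, 1]) (.leaf [2, (-1), 0, 1, 2]))) (.node (.node (.leaf [1]) (.leaf [1])) (.node (.leaf [1]) (.leaf [1])))))) (.node (.node (.node (.node (.node (.node (.leaf []) (.leaf [])) (.leaf [1])) (.node (.leaf [1]) (.leaf [1, (-1), 0, 2, 2]))) (.node (.node (.leaf [1]) (.leaf [])) (.node (.leaf []) (.leaf [0, 1, 0, (-2), (-2)])))) (.node (.node (.node (.node (.leaf []) (.leaf [0, 0, 0, 2])) (.leaf [1])) (.node (.leaf [1]) (.leaf [1, 0, (-1), (-1), 1]))) (.node (.node (.leaf []) (.leaf [1])) (.node (.leaf []) (.leaf [0, 1, 0, (-2), (-2)]))))) (.node (.node (.node (.node (.node (.leaf []) (.leaf [1, 0, (-1), (-1), 1])) (.leaf [])) (.node (.leaf []) (.leaf []))) (.node (.node (.leaf []) (.leaf [0, 1, 0, 0, (-2)])) (.node (.leaf []) (.leaf [])))) (.node (.node (.node (.node (.leaf []) (.leaf [1])) (.leaf [])) (.node (.leaf []) (.leaf [(-1), 2, (-1), 2, (-3)]))) (.node (.node (.leaf []) (.leaf [0, 0, (-1), 1, 1])) (.node (.leaf []) (.leaf []))))))))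 (.node (.node (.node (.node (.node (.node (.node (.node (.leaf []) (.leaf [1])) (.leaf [])) (.node (.leaf [1]) (.leaf [1]))) (.node (.node (.leaf []) (.leaf [1])) (.node (.leaf [1]) (.leaf [])))) (.node (.node (.node (.node (.leaf [1]) (.leaf [4, (-3), 8, (-9), (-2)])) (.leaf [])) (.node (.leaf [1]) (.leaf [2, (-1), 3, 1, (-1)]))) (.node (.node (.leaf []) (.leaf [1])) (.node (.leaf [1]) (.leaf [1]))))) (.node (.node (.node (.node (.node (.leaf [1]) (.leaf [1])) (.leaf [1])) (.node (.leaf [0, 0, 0, 1]) (.leaf []))) (.node (.node (.leaf []) (.leaf [])) (.node (.leaf [1]) (.leaf [0, 0, (-1), 1, 1])))) (.node (.node (.node (.node (.leaf [1]) (.leaf [2, (-1), 3, 2, (-1)])) (.leaf [1])) (.node (.leaf [1]) (.leaf [1]))) (.node (.node (.leaf [0, 0, 0, 1]) (.leaf [1])) (.node (.leaf [1]) (.leaf [0, 0, (-1), 1, 1])))))) (.node (.node (.node (.node (.node (.node (.leaf []) (.leaf [0, 1, (-3), 1, 1])) (.leaf [1, (-1), 0, 2, 2])) (.node (.leaf [(-1), 1, (-1), 0, (-1)]) (.leaf []))) (.node (.node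 (.leaf [0, 0, 1, 0, (-1)]) (.leaf [1])) (.node (.leaf [1]) (.leaf [0, 0, 0, 2])))) (.node (.node (.node (.node (.leaf [1]) (.leaf [])) (.leaf [1, (-1), 0, 2, 2])) (.node (.leaf []) (.leaf [1]))) (.node (.node (.leaf []) (.leaf [1, 0, 0, 1])) (.node (.leaf []) (.leaf [1, 0, 0, 2]))))) (.node (.node (.node (.node (.node (.leaf [1]) (.leaf [2, (-1), 2, (-3)])) (.leaf [1])) (.node (.leaf []) (.leaf [0, 0, 0, 1]))) (.node (.node (.leaf [1]) (.leaf [1])) (.node (.leaf [1]) (.leaf [(-1), 1, (-2), 1])))) (.node (.node (.node (.node (.leaf []) (.leaf [2, (-1), 3, 2, (-1)])) (.leaf [1, 0, 0, 1])) (.node (.leaf [0, 0, 0, 1]) (.leaf [1]))) (.node (.node (.leaf []) (.leaf [])) (.node (.leaf [1]) (.leaf [(-1), 1, (-2), 1]))))))) (.node (.node (.node (.node (.node (.node (.node (.leaf []) (.leaf [2, (-1), 2, (-3)])) (.leaf [1, 0, 1, 2, (-1)])) (.node (.leaf [1]) (.leaf [1]))) (.node (.node (.leaf [1]) (.leaf [1, 0, 0, 2])) (.node (.leaf []) (.leaf [1])))) (.node (.node (.node (.node (.leaf [])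 (.leaf [1])) (.leaf [1, 0, 1, 2, (-1)])) (.node (.leaf []) (.leaf []))) (.node (.node (.leaf [1]) (.leaf [0, 1, 0, (-2), (-2)])) (.node (.leaf [1, 0, 0, (-1)]) (.leaf [1]))))) (.node (.node (.node (.node (.node (.leaf []) (.leaf [])) (.leaf [1])) (.node (.leaf [1]) (.leaf [1]))) (.node (.node (.leaf []) (.leaf [0, 0, 0, 1])) (.node (.leaf [1]) (.leaf [1])))) (.node (.node (.node (.node (.leaf [1]) (.leaf [0, 1, 1, (-2), (-3)])) (.leaf [1])) (.node (.leaf [1]) (.leaf []))) (.node (.node (.leaf [1]) (.leaf [])) (.node (.leaf [1]) (.leaf [1])))))) (.node (.node (.node (.node (.node (.node (.leaf []) (.leaf [0, 0, 0, 1])) (.leaf [])) (.node (.leaf []) (.leaf []))) (.node (.node (.leaf [(-1), 1, (-1), 0, (-1)]) (.leaf [])) (.node (.leaf []) (.leaf [0, 1, (-1), 0, (-1)])))) (.node (.node (.node (.node (.leaf []) (.leaf [1, (-1), 1, (-2), 1])) (.leaf [])) (.node (.leaf [1]) (.leaf [1, 0, 1, 0, (-1)]))) (.node (.node (.leaf [0, 0, 0, 1]) (.leaf [0, 1, (-1), (-2), (-1)])) (.node (.leaf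 [1, 0, (-1), 0, 1]) (.leaf [0, 1, (-1), 0, (-1)]))))) (.node (.node (.node (.node (.node (.leaf []) (.leaf [0, 1, (-3), 1, 1])) (.leaf [1])) (.node (.leaf []) (.leaf [0, 0, 0, 1]))) (.node (.node (.leaf [1]) (.leaf [1])) (.node (.leaf [1]) (.leaf [1, (-1), 0, 1, 2])))) (.node (.node (.node (.node (.leaf [1]) (.leaf [1, 0, 1, 1, (-1)])) (.leaf [0, 0, 0, (-3)])) (.node (.leaf []) (.leaf [1]))) (.node (.node (.leaf []) (.leaf [1, (-1), 1, 2, 1])) (.node (.leaf [1]) (.leaf [2, (-1), 0, 1, 2])))))))))) (.node (.node (.node (.node (.node (.node (.node (.node (.node (.node (.leaf []) (.leaf [])) (.leaf [0, 1])) (.node (.leaf []) (.leaf []))) (.node (.node (.leaf []) (.leaf [])) (.node (.leaf []) (.leaf [0, 1])))) (.node (.node (.node (.node (.leaf []) (.leaf [])) (.leaf [0, 1])) (.node (.leaf []) (.leaf []))) (.node (.node (.leaf [0, 0, 1]) (.leaf [])) (.node (.leaf []) (.leaf []))))) (.node (.node (.node (.node (.node (.leaf []) (.leaf [0, 0, 1])) (.leaf [])) (.node (.leaf []) (.leaf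 []))) (.node (.node (.leaf []) (.leaf [])) (.node (.leaf []) (.leaf [(-1), 1, 0, 0, (-1)])))) (.node (.node (.node (.node (.leaf []) (.leaf [0, 0, 0, (-1), 1])) (.leaf [])) (.node (.leaf []) (.leaf [1, 0, 0, 1, 1]))) (.node (.node (.leaf []) (.leaf [])) (.node (.leaf []) (.leaf [0, 0, 0, (-2), 1])))))) (.node (.node (.node (.node (.node (.node (.leaf []) (.leaf [1, 0, 1, (-1), (-1)])) (.leaf [0, 0, 0, (-1), 1])) (.node (.leaf []) (.leaf [0, 0, 0, 1, 1]))) (.node (.node (.leaf [0, 0, 0, 0, 1]) (.leaf [0, 0, 0, 1, 1])) (.node (.leaf []) (.leaf [1, 0, 0, (-1), 1])))) (.node (.node (.node (.node (.leaf []) (.leaf [(-1), 1, (-2), 3, 1])) (.leaf [0, 0, 0, (-1), 1])) (.node (.leaf []) (.leaf []))) (.node (.node (.leaf [0, 0, 0, (-1), 1]) (.leaf [])) (.node (.leaf []) (.leaf [1, 0, 0, (-1), 1]))))) (.node (.node (.node (.node (.node (.leaf []) (.leaf [(-1), 1, 0, 1, (-1)])) (.leaf [])) (.node (.leaf [0, 0, 1]) (.leaf []))) (.node (.node (.leaf []) (.leaf [])) (.node (.leaf []) (.leaf [0,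 0, 1, (-1)])))) (.node (.node (.node (.node (.leaf []) (.leaf [1, 0, 0, (-1), 1])) (.leaf [])) (.node (.leaf [1, 0, 1]) (.leaf [1, (-1), 3, (-1)]))) (.node (.node (.leaf []) (.leaf [0, 0, 0, 1, 1])) (.node (.leaf []) (.leaf [1, 0, 1, (-1)]))))))) (.node (.node (.node (.node (.node (.node (.node (.leaf []) (.leaf [1, 0, 1, (-1)])) (.leaf [])) (.node (.leaf []) (.leaf [0, 1]))) (.node (.node (.leaf []) (.leaf [])) (.node (.leaf [1, 0, 0, (-1), 1]) (.leaf [])))) (.node (.node (.node (.node (.leaf []) (.leaf [1, 0, 1])) (.leaf [])) (.node (.leaf [0, 0, 0, 1, 1]) (.leaf []))) (.node (.node (.leaf []) (.leaf [1, 0, 1])) (.node (.leaf [1, 0, 1]) (.leaf [0, 0, 1, (-1)]))))) (.node (.node (.node (.node (.node (.leaf []) (.leaf [0, 0, 0, 1, 1])) (.leaf [])) (.node (.leaf []) (.leaf [(-1), 1, (-1), 1]))) (.node (.node (.leaf []) (.leaf [])) (.node (.leaf [1, 0, 0, 1, 1]) (.leaf [])))) (.node (.node (.node (.node (.leaf []) (.leaf [1, (-1), 4, 0, (-1)])) (.leaf [])) (.node (.leaf []) (.leaf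 []))) (.node (.node (.leaf [0, 0, 0, 1, 1]) (.leaf [0, 1])) (.node (.leaf [0, 0, (-1), 2, 2]) (.leaf [])))))) (.node (.node (.node (.node (.node (.node (.leaf []) (.leaf [])) (.leaf [])) (.node (.leaf []) (.leaf []))) (.node (.node (.leaf [0, 0, 0, 1, 1]) (.leaf [(-1), 1, (-1)])) (.node (.leaf []) (.leaf [2, (-1), 1, (-2), 2])))) (.node (.node (.node (.node (.leaf []) (.leaf [0, 1, 0, 1, (-1)])) (.leaf [])) (.node (.leaf []) (.leaf [0, 0, 1]))) (.node (.node (.leaf []) (.leaf [0, 0, 1])) (.node (.leaf [0, 0, 1]) (.leaf [2, (-1), 1, (-2), 2]))))) (.node (.node (.node (.node (.node (.leaf []) (.leaf [1, 0, 1, (-1), (-1)])) (.leaf [])) (.node (.leaf []) (.leaf []))) (.node (.node (.leaf []) (.leaf [])) (.node (.leaf []) (.leaf [0, 0, 1])))) (.node (.node (.node (.node (.leaf []) (.leaf [(-1), 1, 0, 0, (-1)])) (.leaf [])) (.node (.leaf []) (.leaf [(-1), 1, (-1)]))) (.node (.node (.leaf []) (.leaf [])) (.node (.leaf []) (.leaf [1, 0, 1])))))))) (.node (.node (.node (.node (.node (.node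 (.node (.node (.leaf []) (.leaf [0, 1])) (.leaf [])) (.node (.leaf []) (.leaf []))) (.node (.node (.leaf []) (.leaf [])) (.node (.leaf []) (.leaf [])))) (.node (.node (.node (.node (.leaf []) (.leaf [0, 1, 0, 1, (-1)])) (.leaf [])) (.node (.leaf []) (.leaf []))) (.node (.node (.leaf []) (.leaf [1, 0, 0, (-1), 1])) (.node (.leaf [1, 0, 0, (-1), 1]) (.leaf [0, 1]))))) (.node (.node (.node (.node (.node (.leaf []) (.leaf [(-2), 2, (-4), (-3), 1])) (.leaf [])) (.node (.leaf [0, 1]) (.leaf []))) (.node (.node (.leaf []) (.leaf [])) (.node (.leaf []) (.leaf [])))) (.node (.node (.node (.node (.leaf []) (.leaf [0, 1])) (.leaf [])) (.node (.leaf []) (.leaf [0, 1, (-2), 1]))) (.node (.node (.leaf []) (.leaf [])) (.node (.leaf [1, 0, 0, 1, 1]) (.leaf [])))))) (.node (.node (.node (.node (.node (.node (.leaf []) (.leaf [])) (.leaf [])) (.node (.leaf []) (.leaf [0, 0, 0, (-1), 1]))) (.node (.node (.leaf []) (.leaf [])) (.node (.leaf []) (.leaf [1, 0, 1])))) (.node (.node (.node (.node (.leaf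 []) (.leaf [0, 0, 1])) (.leaf [])) (.node (.leaf []) (.leaf [1, 0, 1, 1, (-1)]))) (.node (.node (.leaf [1, 0, 1]) (.leaf [])) (.node (.leaf []) (.leaf [1, 0, 1]))))) (.node (.node (.node (.node (.node (.leaf []) (.leaf [0, 1])) (.leaf [])) (.node (.leaf []) (.leaf []))) (.node (.node (.leaf []) (.leaf [])) (.node (.leaf []) (.leaf [0, 0, (-1), 0, 1])))) (.node (.node (.node (.node (.leaf []) (.leaf [0, 1])) (.leaf [])) (.node (.leaf []) (.leaf []))) (.node (.node (.leaf []) (.leaf [])) (.node (.leaf []) (.leaf [1, 0, (-1), 0, 1]))))))) (.node (.node (.node (.node (.node (.node (.node (.leaf []) (.leaf [0, 1])) (.leaf [0, 0, 1])) (.node (.leaf [0, 1]) (.leaf [1, 0, 0, 1, 1]))) (.node (.node (.leaf [0, 1]) (.leaf [])) (.node (.leaf [1, 0, 1]) (.leaf [])))) (.node (.node (.node (.node (.leaf []) (.leaf [(-1), 2, (-4), (-3), 1])) (.leaf [0, 0, 1])) (.node (.leaf []) (.leaf []))) (.node (.node (.leaf []) (.leaf [2, (-1), 1, (-2), 2])) (.node (.leaf []) (.leaf []))))) (.node (.node (.node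 (.node (.node (.leaf []) (.leaf [0, 0, 1])) (.leaf [])) (.node (.leaf []) (.leaf []))) (.node (.node (.leaf []) (.leaf [])) (.node (.leaf [(-1), 0, (-1), 2, 2]) (.leaf [0, 1])))) (.node (.node (.node (.node (.leaf []) (.leaf [(-1), 1, 0, 0, (-1)])) (.leaf [])) (.node (.leaf [0, 0, 0, (-1), 1]) (.leaf []))) (.node (.node (.leaf [0, 0, 1]) (.leaf [1, 0, 1])) (.node (.leaf []) (.leaf [0, 1])))))) (.node (.node (.node (.node (.node (.node (.leaf []) (.leaf [(-1), 1, 0, 1, (-1)])) (.leaf [])) (.node (.leaf []) (.leaf []))) (.node (.node (.leaf []) (.leaf [])) (.node (.leaf [0, 0, 1]) (.leaf [])))) (.node (.node (.node (.node (.leaf []) (.leaf [(-1), 1, 0, 0, (-1)])) (.leaf [])) (.node (.leaf [1, 0, 0, 1, 1]) (.leaf [1, 0, 1]))) (.node (.node (.leaf []) (.leaf [])) (.node (.leaf [1]) (.leaf []))))) (.node (.node (.node (.node (.node (.leaf []) (.leaf [])) (.leaf [])) (.node (.leaf []) (.leaf []))) (.node (.node (.leaf []) (.leaf [])) (.node (.leaf []) (.leaf [(-2), 2, (-1), 0, (-2)]))))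 (.node (.node (.node (.node (.leaf []) (.leaf [0, 0, 1, 4])) (.leaf [])) (.node (.leaf []) (.leaf []))) (.node (.node (.leaf []) (.leaf [])) (.node (.leaf []) (.leaf [(-2), 2, (-1), 0, (-2)]))))))))) (.node (.node (.node (.node (.node (.node (.node (.node (.node (.leaf []) (.leaf [])) (.leaf [])) (.node (.leaf []) (.leaf []))) (.node (.node (.leaf []) (.leaf [1, 0, 1])) (.node (.leaf []) (.leaf [])))) (.node (.node (.node (.node (.leaf []) (.leaf [])) (.leaf [])) (.node (.leaf []) (.leaf []))) (.node (.node (.leaf []) (.leaf [])) (.node (.leaf []) (.leaf []))))) (.node (.node (.node (.node (.node (.leaf []) (.leaf [])) (.leaf [1, 0, 0, (-1), 1])) (.node (.leaf []) (.leaf []))) (.node (.node (.leaf []) (.leaf [0, 1])) (.node (.leaf []) (.leaf [])))) (.node (.node (.node (.node (.leaf [0, 0, 1]) (.leaf [])) (.leaf [1, 0, 0, (-1), 1])) (.node (.leaf [0, 0, 1]) (.leaf []))) (.node (.node (.leaf [0, 1]) (.leaf [])) (.node (.leaf []) (.leaf [])))))) (.node (.node (.node (.node (.node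 (.node (.leaf []) (.leaf [0, 0, 2, 2, (-1)])) (.leaf [1, 0, 1])) (.node (.leaf [0, 0, 0, 1, 1]) (.leaf [0, 0, 1]))) (.node (.node (.leaf []) (.leaf [0, 0, 1])) (.node (.leaf []) (.leaf [1, (-1), 0, (-1), 2])))) (.node (.node (.node (.node (.leaf []) (.leaf [(-2), 3, (-4), 4, (-1)])) (.leaf [1, 0, 1])) (.node (.leaf []) (.leaf [1, 0, 0, 1, 1]))) (.node (.node (.leaf []) (.leaf [])) (.node (.leaf []) (.leaf [2, (-1), 0, (-1), 2]))))) (.node (.node (.node (.node (.node (.leaf []) (.leaf [0, 1])) (.leaf [])) (.node (.leaf []) (.leaf [(-1), 1, (-1)]))) (.node (.node (.leaf [1, 0, 0, 0, 1]) (.leaf [])) (.node (.leaf [0, 0, 0, (-1), 1]) (.leaf [])))) (.node (.node (.node (.node (.leaf []) (.leaf [])) (.leaf [])) (.node (.leaf []) (.leaf []))) (.node (.node (.leaf []) (.leaf [])) (.node (.leaf []) (.leaf []))))))) (.node (.node (.node (.node (.node (.node (.node (.leaf []) (.leaf [])) (.leaf [])) (.node (.leaf []) (.leaf []))) (.node (.node (.leaf []) (.leaf [])) (.node (.leaf []) (.leaf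 [])))) (.node (.node (.node (.node (.leaf []) (.leaf [])) (.leaf [])) (.node (.leaf []) (.leaf []))) (.node (.node (.leaf []) (.leaf [])) (.node (.leaf []) (.leaf []))))) (.node (.node (.node (.node (.node (.leaf []) (.leaf [(-3), 3, (-4), 4, (-1)])) (.leaf [])) (.node (.leaf [1, 0, 0, 1, 1]) (.leaf [1, (-1), 3, (-1)]))) (.node (.node (.leaf []) (.leaf [0, 0, 0, 1, 1])) (.node (.leaf []) (.leaf [])))) (.node (.node (.node (.node (.leaf []) (.leaf [0, 0, (-2), 2, 3])) (.leaf [])) (.node (.leaf []) (.leaf []))) (.node (.node (.leaf []) (.leaf [])) (.node (.leaf []) (.leaf [])))))) (.node (.node (.node (.node (.node (.node (.leaf []) (.leaf [])) (.leaf [])) (.node (.leaf []) (.leaf [1, 0, 0, 1, 1]))) (.node (.node (.leaf []) (.leaf [])) (.node (.leaf [0, 0, 0, 1, 1]) (.leaf [])))) (.node (.node (.node (.node (.leaf []) (.leaf [0, 1])) (.leaf [])) (.node (.leaf []) (.leaf [0, 0, 0, (-1), 1]))) (.node (.node (.leaf []) (.leaf [])) (.node (.leaf []) (.leaf []))))) (.node (.node (.node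 (.node (.node (.leaf []) (.leaf [0, 0, 2, 2, (-1)])) (.leaf [])) (.node (.leaf [0, 0, 0, (-1), 1]) (.leaf [0, 1]))) (.node (.node (.leaf [1, 0, 0, 1, 1]) (.leaf [])) (.node (.leaf []) (.leaf [(-1), 1, (-1), 1])))) (.node (.node (.node (.node (.leaf [1, 0, 1]) (.leaf [1, 0, (-2), 2, 3])) (.leaf [])) (.node (.leaf [0, 0, 0, 1, 1]) (.leaf []))) (.node (.node (.leaf [1, 0, 0, (-1), 1]) (.leaf [])) (.node (.leaf []) (.leaf [0, 1, (-1), 1])))))))) (.node (.node (.node (.node (.node (.node (.node (.node (.leaf []) (.leaf [])) (.leaf [1, 0, 0, 1, 1])) (.node (.leaf []) (.leaf []))) (.node (.node (.leaf []) (.leaf [1, (-1), 1, (-2), 2])) (.node (.leaf []) (.leaf [])))) (.node (.node (.node (.node (.leaf []) (.leaf [0, 0, 2, (-1), (-1)])) (.leaf [1, 0, 0, 1, 1])) (.node (.leaf []) (.leaf []))) (.node (.node (.leaf []) (.leaf [])) (.node (.leaf []) (.leaf []))))) (.node (.node (.node (.node (.node (.leaf []) (.leaf [])) (.leaf [])) (.node (.leaf []) (.leaf []))) (.node (.node (.leaf []) (.leaf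 [1, 0, 1])) (.node (.leaf []) (.leaf [])))) (.node (.node (.node (.node (.leaf []) (.leaf [(-1), 1, (-1), (-1), (-1)])) (.leaf [])) (.node (.leaf []) (.leaf []))) (.node (.node (.leaf []) (.leaf [])) (.node (.leaf []) (.leaf [])))))) (.node (.node (.node (.node (.node (.node (.leaf []) (.leaf [])) (.leaf [0, 0, 0, 1, 1])) (.node (.leaf [0, 0, 1]) (.leaf [1, 0, 1]))) (.node (.node (.leaf []) (.leaf [])) (.node (.leaf []) (.leaf [1, (-1), 0, 1, 3])))) (.node (.node (.node (.node (.leaf []) (.leaf [(-1), 1, (-1), 1])) (.leaf [1, 0, 0, 1, 1])) (.node (.leaf [0, 1]) (.leaf [1, 0, 0, 1, 1]))) (.node (.node (.leaf []) (.leaf [0, 0, 0, 1, 1])) (.node (.leaf [0, 0, 0, 1, 1]) (.leaf [1, 0, (-2), 1, 3]))))) (.node (.node (.node (.node (.node (.leaf []) (.leaf [1, 0, 1, (-2), (-1)])) (.leaf [])) (.node (.leaf []) (.leaf []))) (.node (.node (.leaf []) (.leaf [])) (.node (.leaf []) (.leaf [])))) (.node (.node (.node (.node (.leaf []) (.leaf [0, 1, (-1), (-1), (-1)])) (.leaf [])) (.node (.leaf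 []) (.leaf []))) (.node (.node (.leaf []) (.leaf [])) (.node (.leaf []) (.leaf []))))))) (.node (.node (.node (.node (.node (.node (.node (.leaf []) (.leaf [0, 0, 1, (-2), (-1)])) (.leaf [])) (.node (.leaf []) (.leaf [1, (-1), 1, (-1), 1]))) (.node (.node (.leaf []) (.leaf [])) (.node (.leaf []) (.leaf [])))) (.node (.node (.node (.node (.leaf [0, 1]) (.leaf [])) (.leaf [])) (.node (.leaf []) (.leaf [0, 1]))) (.node (.node (.leaf []) (.leaf [])) (.node (.leaf []) (.leaf []))))) (.node (.node (.node (.node (.node (.leaf []) (.leaf [(-1), 1, (-1), 1])) (.leaf [])) (.node (.leaf []) (.leaf []))) (.node (.node (.leaf [0, 1]) (.leaf [])) (.node (.leaf []) (.leaf [(-1), 1, (-2), 2, 1])))) (.node (.node (.node (.node (.leaf []) (.leaf [1, 0, 0, 3])) (.leaf [])) (.node (.leaf []) (.leaf [0, 1, (-1), 1]))) (.node (.node (.leaf []) (.leaf [])) (.node (.leaf [0, 0, 0, (-1), 1]) (.leaf [1, 0, 0, 2, 1])))))) (.node (.node (.node (.node (.node (.node (.leaf []) (.leaf [0, 0, 2, (-1), (-1)]))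 (.leaf [])) (.node (.leaf []) (.leaf [(-1), 1, (-2), 1]))) (.node (.node (.leaf [0, 0, 1]) (.leaf [])) (.node (.leaf []) (.leaf [0, 1, (-1)])))) (.node (.node (.node (.node (.leaf []) (.leaf [1, (-1), 0, 3, 2])) (.leaf [])) (.node (.leaf []) (.leaf []))) (.node (.node (.leaf []) (.leaf [0, 1, (-1)])) (.node (.leaf []) (.leaf [0, 1, (-1)]))))) (.node (.node (.node (.node (.node (.leaf [0, 1]) (.leaf [])) (.leaf [])) (.node (.leaf [1, 0, 1]) (.leaf []))) (.node (.node (.leaf []) (.leaf [])) (.node (.leaf []) (.leaf [])))) (.node (.node (.node (.node (.leaf []) (.leaf [1, 0, 1, 4])) (.leaf [1, 0, 0, (-1), 1])) (.node (.leaf []) (.leaf []))) (.node (.node (.leaf [1, 0, 1]) (.leaf [])) (.node (.leaf []) (.leaf []))))))))))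

/-- data -/
def rank2 : Trie (ℕ) := .node (.node (.node (.node (.node (.node (.node (.node (.node (.node (.node (.leaf 0) (.leaf 419)) (.leaf 0)) (.node (.leaf 0) (.leaf 571))) (.node (.node (.leaf 0) (.leaf 116)) (.node (.leaf 256) (.leaf 0)))) (.node (.node (.node (.node (.leaf 0) (.leaf 569)) (.leaf 0)) (.node (.leaf 61) (.leaf 0))) (.node (.node (.leaf 297) (.leaf 0)) (.node (.leaf 0) (.leaf 418))))) (.node (.node (.node (.node (.node (.leaf 0) (.leaf 545)) (.leaf 101)) (.node (.leaf 0) (.leaf 137))) (.node (.node (.leaf 0) (.leaf 121)) (.node (.leaf 78) (.leaf 476)))) (.node (.node (.node (.node (.leaf 19) (.leaf 534)) (.leaf 111)) (.node (.leaf 67) (.leaf 416))) (.node (.node (.leaf 0) (.leaf 0)) (.node (.leaf 0) (.leaf 477)))))) (.node (.node (.node (.node (.node (.node (.leaf 0) (.leaf 172)) (.leaf 428)) (.node (.leaf 251) (.leaf 136))) (.node (.node (.leaf 0) (.leaf 382)) (.node (.leaf 76) (.leaf 489)))) (.node (.node (.node (.node (.leaf 16) (.leaf 179)) (.leaf 430))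 (.node (.leaf 0) (.leaf 505))) (.node (.node (.leaf 0) (.leaf 271)) (.node (.leaf 261) (.leaf 492))))) (.node (.node (.node (.node (.node (.leaf 0) (.leaf 547)) (.leaf 343)) (.node (.leaf 311) (.leaf 140))) (.node (.node (.leaf 34) (.leaf 0)) (.node (.leaf 469) (.leaf 444)))) (.node (.node (.node (.node (.leaf 0) (.leaf 561)) (.leaf 352)) (.node (.leaf 0) (.leaf 147))) (.node (.node (.leaf 0) (.leaf 410)) (.node (.leaf 0) (.leaf 448))))))) (.node (.node (.node (.node (.node (.node (.node (.leaf 2) (.leaf 494)) (.leaf 97)) (.node (.leaf 350) (.leaf 0))) (.node (.node (.leaf 0) (.leaf 354)) (.node (.leaf 0) (.leaf 0)))) (.node (.node (.node (.node (.leaf 0) (.leaf 553)) (.leaf 107)) (.node (.leaf 0) (.leaf 0))) (.node (.node (.leaf 248) (.leaf 0)) (.node (.leaf 0) (.leaf 491))))) (.node (.node (.node (.node (.node (.leaf 0) (.leaf 175)) (.leaf 262)) (.node (.leaf 56) (.leaf 0))) (.node (.node (.leaf 0) (.leaf 0)) (.node (.leaf 0) (.leaf 442)))) (.node (.node (.node (.node (.leaf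 21) (.leaf 544)) (.leaf 265)) (.node (.leaf 0) (.leaf 371))) (.node (.node (.leaf 0) (.leaf 0)) (.node (.leaf 319) (.leaf 446)))))) (.node (.node (.node (.node (.node (.node (.leaf 5) (.leaf 567)) (.leaf 99)) (.node (.leaf 0) (.leaf 390))) (.node (.node (.leaf 0) (.leaf 403)) (.node (.leaf 257) (.leaf 154)))) (.node (.node (.node (.node (.leaf 0) (.leaf 555)) (.leaf 109)) (.node (.leaf 254) (.leaf 369))) (.node (.node (.leaf 42) (.leaf 360)) (.node (.leaf 331) (.leaf 164))))) (.node (.node (.node (.node (.node (.leaf 0) (.leaf 176)) (.leaf 0)) (.node (.leaf 253) (.leaf 141))) (.node (.node (.leaf 334) (.leaf 358)) (.node (.leaf 83) (.leaf 0)))) (.node (.node (.node (.node (.leaf 24) (.leaf 552)) (.leaf 114)) (.node (.leaf 71) (.leaf 411))) (.node (.node (.leaf 48) (.leaf 0)) (.node (.leaf 0) (.leaf 0)))))))) (.node (.node (.node (.node (.node (.node (.node (.node (.leaf 0) (.leaf 457)) (.leaf 96)) (.node (.leaf 0) (.leaf 0))) (.node (.node (.leaf 0) (.leaf 0)) (.node (.leaf 0)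 (.leaf 488)))) (.node (.node (.node (.node (.leaf 0) (.leaf 572)) (.leaf 106)) (.node (.leaf 357) (.leaf 436))) (.node (.node (.leaf 38) (.leaf 482)) (.node (.leaf 0) (.leaf 453))))) (.node (.node (.node (.node (.node (.leaf 0) (.leaf 537)) (.leaf 272)) (.node (.leaf 0) (.leaf 484))) (.node (.node (.leaf 32) (.leaf 324)) (.node (.leaf 0) (.leaf 475)))) (.node (.node (.node (.node (.leaf 0) (.leaf 465)) (.leaf 273)) (.node (.leaf 305) (.leaf 0))) (.node (.node (.leaf 44) (.leaf 407)) (.node (.leaf 0) (.leaf 470)))))) (.node (.node (.node (.node (.node (.node (.leaf 0) (.leaf 365)) (.leaf 0)) (.node (.leaf 53) (.leaf 434))) (.node (.node (.leaf 29) (.leaf 119)) (.node (.leaf 264) (.leaf 0)))) (.node (.node (.node (.node (.leaf 244) (.leaf 541)) (.leaf 0)) (.node (.leaf 64) (.leaf 144))) (.node (.node (.leaf 0) (.leaf 270)) (.node (.leaf 259) (.leaf 0))))) (.node (.node (.node (.node (.node (.leaf 0) (.leaf 550)) (.leaf 557)) (.node (.leaf 59) (.leaf 565))) (.node (.node (.leaf 247)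 (.leaf 432)) (.node (.leaf 0) (.leaf 0)))) (.node (.node (.node (.node (.leaf 23) (.leaf 472)) (.leaf 563)) (.node (.leaf 0) (.leaf 148))) (.node (.node (.leaf 47) (.leaf 483)) (.node (.leaf 549) (.leaf 0))))))) (.node (.node (.node (.node (.node (.node (.node (.leaf 3) (.leaf 542)) (.leaf 339)) (.node (.leaf 0) (.leaf 452))) (.node (.node (.leaf 0) (.leaf 118)) (.node (.leaf 0) (.leaf 566)))) (.node (.node (.node (.node (.leaf 15) (.leaf 540)) (.leaf 348)) (.node (.leaf 63) (.leaf 143))) (.node (.node (.leaf 0) (.leaf 127)) (.node (.leaf 87) (.leaf 568))))) (.node (.node (.node (.node (.node (.leaf 9) (.leaf 538)) (.leaf 429)) (.node (.leaf 57) (.leaf 367))) (.node (.node (.leaf 33) (.leaf 122)) (.node (.leaf 313) (.leaf 500)))) (.node (.node (.node (.node (.leaf 245) (.leaf 510)) (.leaf 431)) (.node (.leaf 0) (.leaf 0))) (.node (.node (.leaf 302) (.leaf 0)) (.node (.leaf 474) (.leaf 496)))))) (.node (.node (.node (.node (.node (.node (.leaf 6) (.leaf 573)) (.leaf 478)) (.node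 (.leaf 0) (.leaf 340))) (.node (.node (.leaf 31) (.leaf 575)) (.node (.leaf 323) (.leaf 155)))) (.node (.node (.node (.node (.leaf 18) (.leaf 506)) (.leaf 479)) (.node (.leaf 0) (.leaf 0))) (.node (.node (.leaf 43) (.leaf 130)) (.node (.leaf 89) (.leaf 165))))) (.node (.node (.node (.node (.node (.leaf 12) (.leaf 370)) (.leaf 0)) (.node (.leaf 60) (.leaf 142))) (.node (.node (.leaf 36) (.leaf 269)) (.node (.leaf 258) (.leaf 159)))) (.node (.node (.node (.node (.leaf 0) (.leaf 524)) (.leaf 115)) (.node (.leaf 72) (.leaf 413))) (.node (.node (.leaf 49) (.leaf 133)) (.node (.leaf 0) (.leaf 169))))))))) (.node (.node (.node (.node (.node (.node (.node (.node (.node (.leaf 1) (.leaf 170)) (.leaf 260)) (.node (.leaf 50) (.leaf 0))) (.node (.node (.leaf 26) (.leaf 0)) (.node (.leaf 73) (.leaf 151)))) (.node (.node (.node (.node (.leaf 13) (.leaf 0)) (.leaf 263)) (.node (.leaf 0) (.leaf 0))) (.node (.node (.leaf 0) (.leaf 125)) (.node (.leaf 85) (.leaf 160))))) (.node (.node (.node (.node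 (.node (.leaf 7) (.leaf 173)) (.leaf 342)) (.node (.leaf 55) (.leaf 366))) (.node (.node (.leaf 0) (.leaf 0)) (.node (.leaf 426) (.leaf 156)))) (.node (.node (.node (.node (.leaf 0) (.leaf 180)) (.leaf 351)) (.node (.leaf 317) (.leaf 349))) (.node (.node (.leaf 0) (.leaf 570)) (.node (.leaf 90) (.leaf 166)))))) (.node (.node (.node (.node (.node (.node (.leaf 4) (.leaf 450)) (.leaf 0)) (.node (.leaf 0) (.leaf 364))) (.node (.node (.leaf 246) (.leaf 355)) (.node (.leaf 322) (.leaf 153)))) (.node (.node (.node (.node (.leaf 0) (.leaf 502)) (.leaf 0)) (.node (.leaf 0) (.leaf 456))) (.node (.node (.leaf 41) (.leaf 128)) (.node (.leaf 88) (.leaf 163))))) (.node (.node (.node (.node (.node (.leaf 10) (.leaf 460)) (.leaf 0)) (.node (.leaf 300) (.leaf 409))) (.node (.node (.leaf 0) (.leaf 0)) (.node (.leaf 233) (.leaf 455)))) (.node (.node (.node (.node (.leaf 0) (.leaf 182)) (.leaf 0)) (.node (.leaf 70) (.leaf 372))) (.node (.node (.leaf 250) (.leaf 132)) (.node (.leaf 93) (.leaf 451)))))))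 (.node (.node (.node (.node (.node (.node (.node (.leaf 0) (.leaf 401)) (.leaf 98)) (.node (.leaf 0) (.leaf 509))) (.node (.node (.leaf 27) (.leaf 268)) (.node (.leaf 75) (.leaf 439)))) (.node (.node (.node (.node (.leaf 0) (.leaf 177)) (.leaf 108)) (.node (.leaf 0) (.leaf 0))) (.node (.node (.leaf 39) (.leaf 0)) (.node (.leaf 0) (.leaf 400))))) (.node (.node (.node (.node (.node (.leaf 0) (.leaf 498)) (.leaf 0)) (.node (.leaf 0) (.leaf 138))) (.node (.node (.leaf 0) (.leaf 408)) (.node (.leaf 80) (.leaf 157)))) (.node (.node (.node (.node (.leaf 0) (.leaf 181)) (.leaf 0)) (.node (.leaf 255) (.leaf 487))) (.node (.node (.leaf 45) (.leaf 332)) (.node (.leaf 92) (.leaf 167)))))) (.node (.node (.node (.node (.node (.node (.leaf 0) (.leaf 0)) (.leaf 100)) (.node (.leaf 54) (.leaf 412))) (.node (.node (.leaf 30) (.leaf 0)) (.node (.leaf 0) (.leaf 374)))) (.node (.node (.node (.node (.leaf 0) (.leaf 463)) (.leaf 110)) (.node (.leaf 65) (.leaf 437))) (.node (.node (.leaf 0) (.leaf 129))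 (.node (.leaf 0) (.leaf 378))))) (.node (.node (.node (.node (.node (.leaf 0) (.leaf 454)) (.leaf 0)) (.node (.leaf 0) (.leaf 0))) (.node (.node (.leaf 0) (.leaf 486)) (.node (.leaf 0) (.leaf 0)))) (.node (.node (.node (.node (.leaf 0) (.leaf 183)) (.leaf 0)) (.node (.leaf 0) (.leaf 564))) (.node (.node (.leaf 0) (.leaf 433)) (.node (.leaf 0) (.leaf 0)))))))) (.node (.node (.node (.node (.node (.node (.node (.node (.leaf 0) (.leaf 171)) (.leaf 0)) (.node (.leaf 51) (.leaf 134))) (.node (.node (.leaf 0) (.leaf 117)) (.node (.leaf 74) (.leaf 0)))) (.node (.node (.node (.node (.leaf 14) (.leaf 577)) (.leaf 0)) (.node (.leaf 62) (.leaf 574))) (.node (.node (.leaf 0) (.leaf 126)) (.node (.leaf 86) (.leaf 161))))) (.node (.node (.node (.node (.node (.leaf 8) (.leaf 174)) (.leaf 102)) (.node (.leaf 252) (.leaf 0))) (.node (.node (.leaf 0) (.leaf 0)) (.node (.leaf 79) (.leaf 440)))) (.node (.node (.node (.node (.leaf 20) (.leaf 559)) (.leaf 112)) (.node (.leaf 68) (.leaf 146))) (.node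 (.node (.leaf 249) (.leaf 131)) (.node (.leaf 91) (.leaf 445)))))) (.node (.node (.node (.node (.node (.node (.leaf 0) (.leaf 466)) (.leaf 402)) (.node (.leaf 307) (.leaf 0))) (.node (.node (.leaf 326) (.leaf 120)) (.node (.leaf 77) (.leaf 512)))) (.node (.node (.node (.node (.leaf 17) (.leaf 0)) (.leaf 404)) (.node (.leaf 0) (.leaf 145))) (.node (.node (.leaf 0) (.leaf 386)) (.node (.leaf 0) (.leaf 517))))) (.node (.node (.node (.node (.node (.leaf 11) (.leaf 551)) (.leaf 104)) (.node (.leaf 0) (.leaf 415))) (.node (.node (.leaf 35) (.leaf 123)) (.node (.leaf 82) (.leaf 490)))) (.node (.node (.node (.node (.leaf 0) (.leaf 562)) (.leaf 266)) (.node (.leaf 362) (.leaf 149))) (.node (.node (.leaf 0) (.leaf 0)) (.node (.leaf 94) (.leaf 493))))))) (.node (.node (.node (.node (.node (.node (.node (.leaf 0) (.leaf 543)) (.leaf 338)) (.node (.leaf 52) (.leaf 135))) (.node (.node (.leaf 28) (.leaf 267)) (.node (.leaf 0) (.leaf 152)))) (.node (.node (.node (.node (.leaf 0) (.leaf 178))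 (.leaf 347)) (.node (.leaf 0) (.leaf 0))) (.node (.node (.leaf 40) (.leaf 359)) (.node (.leaf 330) (.leaf 162))))) (.node (.node (.node (.node (.node (.leaf 0) (.leaf 0)) (.leaf 103)) (.node (.leaf 58) (.leaf 139))) (.node (.node (.leaf 0) (.leaf 481)) (.node (.leaf 81) (.leaf 158)))) (.node (.node (.node (.node (.leaf 22) (.leaf 560)) (.leaf 113)) (.node (.leaf 69) (.leaf 0))) (.node (.node (.leaf 46) (.leaf 0)) (.node (.leaf 237) (.leaf 168)))))) (.node (.node (.node (.node (.node (.node (.leaf 0) (.leaf 576)) (.leaf 0)) (.node (.leaf 0) (.leaf 0))) (.node (.node (.leaf 292) (.leaf 406)) (.node (.leaf 0) (.leaf 414)))) (.node (.node (.node (.node (.leaf 0) (.leaf 558)) (.leaf 0)) (.node (.leaf 66) (.leaf 396))) (.node (.node (.leaf 341) (.leaf 405)) (.node (.leaf 427) (.leaf 417))))) (.node (.node (.node (.node (.node (.leaf 0) (.leaf 473)) (.leaf 105)) (.node (.leaf 0) (.leaf 485))) (.node (.node (.leaf 37) (.leaf 124)) (.node (.leaf 84) (.leaf 515)))) (.node (.node (.node (.node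 (.leaf 25) (.leaf 532)) (.leaf 480)) (.node (.leaf 0) (.leaf 150))) (.node (.node (.leaf 0) (.leaf 363)) (.node (.leaf 95) (.leaf 520)))))))))) (.node (.node (.node (.node (.node (.node (.node (.node (.node (.node (.leaf 0) (.leaf 0)) (.leaf 192)) (.node (.leaf 0) (.leaf 0))) (.node (.node (.leaf 0) (.leaf 0)) (.node (.leaf 0) (.leaf 199)))) (.node (.node (.node (.node (.leaf 0) (.leaf 0)) (.leaf 193)) (.node (.leaf 0) (.leaf 0))) (.node (.node (.leaf 213) (.leaf 0)) (.node (.leaf 0) (.leaf 0))))) (.node (.node (.node (.node (.node (.leaf 0) (.leaf 447)) (.leaf 0)) (.node (.leaf 0) (.leaf 0))) (.node (.node (.leaf 0) (.leaf 0)) (.node (.leaf 312) (.leaf 441)))) (.node (.node (.node (.node (.leaf 0) (.leaf 423)) (.leaf 0)) (.node (.leaf 0) (.leaf 333))) (.node (.node (.leaf 0) (.leaf 0)) (.node (.leaf 0) (.leaf 422)))))) (.node (.node (.node (.node (.node (.node (.leaf 0) (.leaf 464)) (.leaf 308)) (.node (.leaf 0) (.leaf 511))) (.node (.node (.leaf 274) (.leaf 309)) (.node (.leaf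 0) (.leaf 321)))) (.node (.node (.node (.node (.leaf 0) (.leaf 425)) (.leaf 314)) (.node (.leaf 0) (.leaf 0))) (.node (.node (.leaf 280) (.leaf 0)) (.node (.leaf 0) (.leaf 329))))) (.node (.node (.node (.node (.node (.leaf 0) (.leaf 393)) (.leaf 0)) (.node (.leaf 218) (.leaf 0))) (.node (.node (.leaf 0) (.leaf 0)) (.node (.leaf 0) (.leaf 420)))) (.node (.node (.node (.node (.leaf 0) (.leaf 424)) (.leaf 0)) (.node (.leaf 221) (.leaf 438))) (.node (.node (.leaf 0) (.leaf 346)) (.node (.leaf 0) (.leaf 421))))))) (.node (.node (.node (.node (.node (.node (.node (.leaf 0) (.leaf 381)) (.leaf 0)) (.node (.leaf 0) (.leaf 196))) (.node (.node (.leaf 0) (.leaf 0)) (.node (.leaf 283) (.leaf 0)))) (.node (.node (.node (.node (.leaf 0) (.leaf 443)) (.leaf 0)) (.node (.leaf 284) (.leaf 0))) (.node (.node (.leaf 0) (.leaf 234)) (.node (.leaf 224) (.leaf 377))))) (.node (.node (.node (.node (.node (.leaf 0) (.leaf 395)) (.leaf 0)) (.node (.leaf 0) (.leaf 376))) (.node (.node (.leaf 0) (.leaf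 0)) (.node (.leaf 290) (.leaf 0)))) (.node (.node (.node (.node (.leaf 0) (.leaf 529)) (.leaf 0)) (.node (.leaf 0) (.leaf 0))) (.node (.node (.leaf 279) (.leaf 195)) (.node (.leaf 373) (.leaf 0)))))) (.node (.node (.node (.node (.node (.node (.leaf 0) (.leaf 0)) (.leaf 0)) (.node (.leaf 0) (.leaf 0))) (.node (.node (.leaf 276) (.leaf 327)) (.node (.leaf 0) (.leaf 513)))) (.node (.node (.node (.node (.leaf 0) (.leaf 399)) (.leaf 0)) (.node (.leaf 0) (.leaf 240))) (.node (.node (.leaf 0) (.leaf 235)) (.node (.leaf 225) (.leaf 518))))) (.node (.node (.node (.node (.node (.leaf 0) (.leaf 471)) (.leaf 0)) (.node (.leaf 0) (.leaf 0))) (.node (.node (.leaf 0) (.leaf 0)) (.node (.leaf 0) (.leaf 508)))) (.node (.node (.node (.node (.leaf 0) (.leaf 525)) (.leaf 0)) (.node (.leaf 0) (.leaf 353))) (.node (.node (.leaf 0) (.leaf 0)) (.node (.leaf 0) (.leaf 504)))))))) (.node (.node (.node (.node (.node (.node (.node (.node (.leaf 0) (.leaf 203)) (.leaf 0)) (.node (.leaf 0) (.leaf 0))) (.node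 (.node (.leaf 0) (.leaf 0)) (.node (.leaf 0) (.leaf 0)))) (.node (.node (.node (.node (.leaf 0) (.leaf 533)) (.leaf 0)) (.node (.leaf 0) (.leaf 0))) (.node (.node (.leaf 0) (.leaf 304)) (.node (.leaf 286) (.leaf 201))))) (.node (.node (.node (.node (.node (.leaf 0) (.leaf 546)) (.leaf 0)) (.node (.leaf 190) (.leaf 0))) (.node (.node (.leaf 0) (.leaf 0)) (.node (.leaf 0) (.leaf 0)))) (.node (.node (.node (.node (.leaf 0) (.leaf 208)) (.leaf 0)) (.node (.leaf 0) (.leaf 379))) (.node (.node (.leaf 0) (.leaf 0)) (.node (.leaf 295) (.leaf 0)))))) (.node (.node (.node (.node (.node (.node (.leaf 0) (.leaf 0)) (.leaf 0)) (.node (.leaf 0) (.leaf 336))) (.node (.node (.leaf 0) (.leaf 0)) (.node (.leaf 0) (.leaf 242)))) (.node (.node (.node (.node (.leaf 0) (.leaf 531)) (.leaf 0)) (.node (.leaf 0) (.leaf 385))) (.node (.node (.leaf 214) (.leaf 0)) (.node (.leaf 0) (.leaf 243))))) (.node (.node (.node (.node (.node (.leaf 0) (.leaf 206)) (.leaf 0)) (.node (.leaf 0) (.leaf 0))) (.node (.node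 (.leaf 0) (.leaf 0)) (.node (.leaf 0) (.leaf 383)))) (.node (.node (.node (.node (.leaf 0) (.leaf 209)) (.leaf 0)) (.node (.leaf 0) (.leaf 0))) (.node (.node (.leaf 0) (.leaf 0)) (.node (.leaf 0) (.leaf 387))))))) (.node (.node (.node (.node (.node (.node (.node (.leaf 0) (.leaf 204)) (.leaf 226)) (.node (.leaf 189) (.leaf 320))) (.node (.node (.leaf 186) (.leaf 0)) (.node (.leaf 222) (.leaf 0)))) (.node (.node (.node (.node (.leaf 0) (.leaf 554)) (.leaf 228)) (.node (.leaf 0) (.leaf 0))) (.node (.node (.leaf 0) (.leaf 499)) (.node (.leaf 0) (.leaf 0))))) (.node (.node (.node (.node (.node (.leaf 0) (.leaf 523)) (.leaf 0)) (.node (.leaf 0) (.leaf 0))) (.node (.node (.leaf 0) (.leaf 0)) (.node (.leaf 368) (.leaf 200)))) (.node (.node (.node (.node (.leaf 0) (.leaf 461)) (.leaf 0)) (.node (.leaf 293) (.leaf 0))) (.node (.node (.leaf 215) (.leaf 236)) (.node (.leaf 0) (.leaf 202)))))) (.node (.node (.node (.node (.node (.node (.leaf 0) (.leaf 526)) (.leaf 0)) (.node (.leaf 0) (.leaf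 0))) (.node (.node (.leaf 0) (.leaf 0)) (.node (.leaf 223) (.leaf 0)))) (.node (.node (.node (.node (.leaf 0) (.leaf 458)) (.leaf 0)) (.node (.leaf 285) (.leaf 241))) (.node (.node (.leaf 0) (.leaf 0)) (.node (.leaf 318) (.leaf 0))))) (.node (.node (.node (.node (.node (.leaf 0) (.leaf 0)) (.leaf 0)) (.node (.leaf 0) (.leaf 0))) (.node (.node (.leaf 0) (.leaf 0)) (.node (.leaf 0) (.leaf 462)))) (.node (.node (.node (.node (.leaf 0) (.leaf 536)) (.leaf 0)) (.node (.leaf 0) (.leaf 0))) (.node (.node (.leaf 0) (.leaf 0)) (.node (.leaf 0) (.leaf 459))))))))) (.node (.node (.node (.node (.node (.node (.node (.node (.node (.leaf 0) (.leaf 0)) (.leaf 0)) (.node (.leaf 0) (.leaf 0))) (.node (.node (.leaf 0) (.leaf 230)) (.node (.leaf 0) (.leaf 0)))) (.node (.node (.node (.node (.leaf 0) (.leaf 0)) (.leaf 0)) (.node (.leaf 0) (.leaf 0))) (.node (.node (.leaf 0) (.leaf 0)) (.node (.leaf 0) (.leaf 0))))) (.node (.node (.node (.node (.node (.leaf 0) (.leaf 0)) (.leaf 291)) (.node (.leaf 0)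 (.leaf 0))) (.node (.node (.leaf 0) (.leaf 194)) (.node (.leaf 0) (.leaf 0)))) (.node (.node (.node (.node (.leaf 210) (.leaf 0)) (.leaf 296)) (.node (.leaf 220) (.leaf 0))) (.node (.node (.leaf 188) (.leaf 0)) (.node (.leaf 0) (.leaf 0)))))) (.node (.node (.node (.node (.node (.node (.leaf 0) (.leaf 527)) (.leaf 227)) (.node (.leaf 281) (.leaf 238))) (.node (.node (.leaf 0) (.leaf 231)) (.node (.leaf 0) (.leaf 497)))) (.node (.node (.node (.node (.leaf 0) (.leaf 556)) (.leaf 229)) (.node (.leaf 0) (.leaf 328))) (.node (.node (.leaf 0) (.leaf 0)) (.node (.leaf 0) (.leaf 501))))) (.node (.node (.node (.node (.node (.leaf 0) (.leaf 205)) (.leaf 0)) (.node (.leaf 0) (.leaf 344))) (.node (.node (.leaf 275) (.leaf 0)) (.node (.leaf 301) (.leaf 0)))) (.node (.node (.node (.node (.leaf 0) (.leaf 0)) (.leaf 0)) (.node (.leaf 0) (.leaf 0))) (.node (.node (.leaf 0) (.leaf 0)) (.node (.leaf 0) (.leaf 0))))))) (.node (.node (.node (.node (.node (.node (.node (.leaf 0) (.leaf 0)) (.leaf 0))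 (.node (.leaf 0) (.leaf 0))) (.node (.node (.leaf 0) (.leaf 0)) (.node (.leaf 0) (.leaf 0)))) (.node (.node (.node (.node (.leaf 0) (.leaf 0)) (.leaf 0)) (.node (.leaf 0) (.leaf 0))) (.node (.node (.leaf 0) (.leaf 0)) (.node (.leaf 0) (.leaf 0))))) (.node (.node (.node (.node (.node (.leaf 0) (.leaf 548)) (.leaf 0)) (.node (.leaf 282) (.leaf 435))) (.node (.node (.leaf 0) (.leaf 337)) (.node (.leaf 0) (.leaf 0)))) (.node (.node (.node (.node (.leaf 0) (.leaf 521)) (.leaf 0)) (.node (.leaf 0) (.leaf 0))) (.node (.node (.leaf 0) (.leaf 0)) (.node (.leaf 0) (.leaf 0)))))) (.node (.node (.node (.node (.node (.node (.leaf 0) (.leaf 0)) (.leaf 0)) (.node (.leaf 0) (.leaf 325))) (.node (.node (.leaf 0) (.leaf 0)) (.node (.leaf 289) (.leaf 0)))) (.node (.node (.node (.node (.leaf 0) (.leaf 207)) (.leaf 0)) (.node (.leaf 0) (.leaf 345))) (.node (.node (.leaf 0) (.leaf 0)) (.node (.leaf 0) (.leaf 0))))) (.node (.node (.node (.node (.node (.leaf 0) (.leaf 535)) (.leaf 0)) (.node (.leaf 288)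 (.leaf 197))) (.node (.node (.leaf 277) (.leaf 0)) (.node (.leaf 0) (.leaf 384)))) (.node (.node (.node (.node (.leaf 211) (.leaf 530)) (.leaf 0)) (.node (.leaf 287) (.leaf 0))) (.node (.node (.leaf 278) (.leaf 0)) (.node (.leaf 0) (.leaf 388)))))))) (.node (.node (.node (.node (.node (.node (.node (.node (.leaf 0) (.leaf 0)) (.leaf 298)) (.node (.leaf 0) (.leaf 0))) (.node (.node (.leaf 0) (.leaf 495)) (.node (.leaf 0) (.leaf 0)))) (.node (.node (.node (.node (.leaf 0) (.leaf 397)) (.leaf 303)) (.node (.leaf 0) (.leaf 0))) (.node (.node (.leaf 0) (.leaf 0)) (.node (.leaf 0) (.leaf 0))))) (.node (.node (.node (.node (.node (.leaf 0) (.leaf 0)) (.leaf 0)) (.node (.leaf 0) (.leaf 0))) (.node (.node (.leaf 0) (.leaf 232)) (.node (.leaf 0) (.leaf 0)))) (.node (.node (.node (.node (.leaf 0) (.leaf 514)) (.leaf 0)) (.node (.leaf 0) (.leaf 0))) (.node (.node (.leaf 0) (.leaf 0)) (.node (.leaf 0) (.leaf 0)))))) (.node (.node (.node (.node (.node (.node (.leaf 0) (.leaf 0)) (.leaf 316))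 (.node (.leaf 217) (.leaf 239))) (.node (.node (.leaf 0) (.leaf 0)) (.node (.leaf 0) (.leaf 503)))) (.node (.node (.node (.node (.leaf 0) (.leaf 398)) (.leaf 310)) (.node (.leaf 191) (.leaf 516))) (.node (.node (.leaf 0) (.leaf 315)) (.node (.leaf 294) (.leaf 507))))) (.node (.node (.node (.node (.node (.leaf 0) (.leaf 394)) (.leaf 0)) (.node (.leaf 0) (.leaf 0))) (.node (.node (.leaf 0) (.leaf 0)) (.node (.leaf 0) (.leaf 0)))) (.node (.node (.node (.node (.leaf 0) (.leaf 519)) (.leaf 0)) (.node (.leaf 0) (.leaf 0))) (.node (.node (.leaf 0) (.leaf 0)) (.node (.leaf 0) (.leaf 0))))))) (.node (.node (.node (.node (.node (.node (.node (.leaf 0) (.leaf 389)) (.leaf 0)) (.node (.leaf 0) (.leaf 449))) (.node (.node (.leaf 0) (.leaf 0)) (.node (.leaf 0) (.leaf 0)))) (.node (.node (.node (.node (.leaf 185) (.leaf 0)) (.leaf 0)) (.node (.leaf 0) (.leaf 198))) (.node (.node (.leaf 0) (.leaf 0)) (.node (.leaf 0) (.leaf 0))))) (.node (.node (.node (.node (.node (.leaf 0) (.leaf 392)) (.leaf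 0)) (.node (.leaf 0) (.leaf 0))) (.node (.node (.leaf 187) (.leaf 0)) (.node (.leaf 0) (.leaf 467)))) (.node (.node (.node (.node (.leaf 0) (.leaf 522)) (.leaf 0)) (.node (.leaf 0) (.leaf 380))) (.node (.node (.leaf 0) (.leaf 0)) (.node (.leaf 306) (.leaf 468)))))) (.node (.node (.node (.node (.node (.node (.leaf 0) (.leaf 391)) (.leaf 0)) (.node (.leaf 0) (.leaf 375))) (.node (.node (.leaf 212) (.leaf 0)) (.node (.leaf 0) (.leaf 356)))) (.node (.node (.node (.node (.leaf 0) (.leaf 528)) (.leaf 0)) (.node (.leaf 0) (.leaf 0))) (.node (.node (.leaf 0) (.leaf 335)) (.node (.leaf 0) (.leaf 361))))) (.node (.node (.node (.node (.node (.leaf 184) (.leaf 0)) (.leaf 0)) (.node (.leaf 219) (.leaf 0))) (.node (.node (.leaf 0) (.leaf 0)) (.node (.leaf 0) (.leaf 0)))) (.node (.node (.node (.node (.leaf 0) (.leaf 539)) (.leaf 299)) (.node (.leaf 0) (.leaf 0))) (.node (.node (.leaf 216) (.leaf 0)) (.node (.leaf 0) (.leaf 0))))))))))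

/-- data -/
def tree2 : Trie (ℕ × ℕ) := .node (.node (.node (.node (.node (.node (.node (.node (.node (.node (.leaf (0, 0)) (.leaf (450, 1))) (.leaf (194, 1))) (.node (.leaf (86, 1)) (.leaf (314, 1)))) (.node (.node (.leaf (40, 1)) (.leaf (254, 0))) (.node (.leaf (141, 1)) (.leaf (379, 1))))) (.node (.node (.node (.node (.leaf (19, 1)) (.leaf (498, 1))) (.leaf (224, 1))) (.node (.leaf (113, 0)) (.leaf (346, 1)))) (.node (.node (.leaf (62, 1)) (.leaf (284, 1))) (.node (.leaf (167, 1)) (.leaf (415, 1)))))) (.node (.node (.node (.node (.node (.leaf (9, 1)) (.leaf (473, 1))) (.leaf (210, 0))) (.node (.leaf (101, 1)) (.leaf (333, 0)))) (.node (.node (.leaf (51, 1)) (.leaf (271, 0))) (.node (.leaf (155, 0)) (.leaf (398, 1))))) (.node (.node (.node (.node (.leaf (29, 0)) (.leaf (524, 1))) (.leaf (240, 0))) (.node (.leaf (128, 0)) (.leaf (362, 1)))) (.node (.node (.leaf (74, 1)) (.leaf (300, 1))) (.node (.leaf (181, 1)) (.leaf (433, 1))))))) (.node (.node (.node (.node (.node (.node (.leaf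 (4, 1)) (.leaf (458, 0))) (.leaf (201, 1))) (.node (.leaf (94, 1)) (.leaf (322, 0)))) (.node (.node (.leaf (45, 1)) (.leaf (261, 1))) (.node (.leaf (146, 0)) (.leaf (385, 1))))) (.node (.node (.node (.node (.leaf (24, 0)) (.leaf (509, 0))) (.leaf (231, 1))) (.node (.leaf (121, 1)) (.leaf (353, 1)))) (.node (.node (.leaf (67, 1)) (.leaf (290, 1))) (.node (.leaf (173, 1)) (.leaf (420, 1)))))) (.node (.node (.node (.node (.node (.leaf (14, 1)) (.leaf (483, 1))) (.leaf (218, 1))) (.node (.leaf (107, 1)) (.leaf (340, 0)))) (.node (.node (.leaf (57, 0)) (.leaf (278, 1))) (.node (.leaf (161, 1)) (.leaf (406, 1))))) (.node (.node (.node (.node (.leaf (34, 1)) (.leaf (544, 1))) (.leaf (248, 1))) (.node (.leaf (133, 1)) (.leaf (372, 0)))) (.node (.node (.leaf (81, 1)) (.leaf (308, 1))) (.node (.leaf (188, 1)) (.leaf (441, 1)))))))) (.node (.node (.node (.node (.node (.node (.node (.leaf (2, 0)) (.leaf (452, 1))) (.leaf (198, 0))) (.node (.leaf (90, 1)) (.leaf (317, 1)))) (.node (.node (.leaf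 (43, 1)) (.leaf (257, 1))) (.node (.leaf (143, 1)) (.leaf (382, 1))))) (.node (.node (.node (.node (.leaf (21, 1)) (.leaf (505, 1))) (.leaf (228, 0))) (.node (.leaf (117, 1)) (.leaf (350, 1)))) (.node (.node (.leaf (65, 1)) (.leaf (286, 1))) (.node (.leaf (169, 1)) (.leaf (417, 1)))))) (.node (.node (.node (.node (.node (.leaf (11, 1)) (.leaf (477, 0))) (.leaf (213, 1))) (.node (.leaf (104, 0)) (.leaf (336, 1)))) (.node (.node (.leaf (54, 1)) (.leaf (275, 1))) (.node (.leaf (158, 1)) (.leaf (402, 1))))) (.node (.node (.node (.node (.leaf (32, 0)) (.leaf (531, 1))) (.leaf (243, 1))) (.node (.leaf (130, 1)) (.leaf (368, 1)))) (.node (.node (.leaf (78, 1)) (.leaf (303, 1))) (.node (.leaf (185, 1)) (.leaf (437, 1))))))) (.node (.node (.node (.node (.node (.node (.leaf (7, 0)) (.leaf (466, 1))) (.leaf (205, 0))) (.node (.leaf (98, 1)) (.leaf (326, 1)))) (.node (.node (.leaf (48, 1)) (.leaf (266, 1))) (.node (.leaf (150, 1)) (.leaf (388, 0))))) (.node (.node (.node (.node (.leaf (26,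 1)) (.leaf (515, 1))) (.leaf (235, 0))) (.node (.leaf (124, 1)) (.leaf (357, 1)))) (.node (.node (.leaf (70, 0)) (.leaf (295, 1))) (.node (.leaf (178, 1)) (.leaf (423, 0)))))) (.node (.node (.node (.node (.node (.leaf (16, 1)) (.leaf (490, 0))) (.leaf (221, 1))) (.node (.leaf (110, 1)) (.leaf (344, 0)))) (.node (.node (.leaf (59, 1)) (.leaf (281, 1))) (.node (.leaf (165, 0)) (.leaf (411, 1))))) (.node (.node (.node (.node (.leaf (37, 0)) (.leaf (551, 1))) (.leaf (252, 0))) (.node (.leaf (137, 0)) (.leaf (375, 1)))) (.node (.node (.leaf (84, 0)) (.leaf (311, 1))) (.node (.leaf (191, 1)) (.leaf (446, 1))))))))) (.node (.node (.node (.node (.node (.node (.node (.node (.leaf (0, 1)) (.leaf (451, 1))) (.leaf (196, 0))) (.node (.leaf (88, 1)) (.leaf (316, 1)))) (.node (.node (.leaf (41, 1)) (.leaf (255, 1))) (.node (.leaf (142, 1)) (.leaf (380, 1))))) (.node (.node (.node (.node (.leaf (20, 1)) (.leaf (500, 1))) (.leaf (226, 0))) (.node (.leaf (115, 1)) (.leaf (348, 1)))) (.node (.node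 (.leaf (64, 0)) (.leaf (285, 1))) (.node (.leaf (168, 1)) (.leaf (416, 1)))))) (.node (.node (.node (.node (.node (.leaf (10, 1)) (.leaf (475, 1))) (.leaf (211, 1))) (.node (.leaf (102, 1)) (.leaf (334, 1)))) (.node (.node (.leaf (53, 0)) (.leaf (272, 1))) (.node (.leaf (156, 1)) (.leaf (400, 1))))) (.node (.node (.node (.node (.leaf (30, 1)) (.leaf (525, 1))) (.leaf (241, 1))) (.node (.leaf (129, 1)) (.leaf (366, 1)))) (.node (.node (.leaf (76, 0)) (.leaf (302, 1))) (.node (.leaf (183, 1)) (.leaf (435, 1))))))) (.node (.node (.node (.node (.node (.node (.leaf (5, 1)) (.leaf (462, 1))) (.leaf (203, 1))) (.node (.leaf (97, 0)) (.leaf (324, 1)))) (.node (.node (.leaf (47, 0)) (.leaf (265, 0))) (.node (.leaf (148, 1)) (.leaf (386, 1))))) (.node (.node (.node (.node (.leaf (25, 1)) (.leaf (512, 1))) (.leaf (233, 1))) (.node (.leaf (123, 0)) (.leaf (356, 0)))) (.node (.node (.leaf (68, 1)) (.leaf (292, 1))) (.node (.leaf (175, 1)) (.leaf (421, 1)))))) (.node (.node (.node (.node (.node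 (.leaf (15, 1)) (.leaf (486, 1))) (.leaf (220, 1))) (.node (.leaf (109, 0)) (.leaf (342, 1)))) (.node (.node (.leaf (58, 1)) (.leaf (280, 1))) (.node (.leaf (163, 1)) (.leaf (408, 1))))) (.node (.node (.node (.node (.leaf (36, 0)) (.leaf (545, 1))) (.leaf (250, 1))) (.node (.leaf (135, 1)) (.leaf (374, 0)))) (.node (.node (.leaf (83, 0)) (.leaf (309, 1))) (.node (.leaf (190, 1)) (.leaf (443, 1)))))))) (.node (.node (.node (.node (.node (.node (.node (.leaf (3, 0)) (.leaf (454, 1))) (.leaf (199, 1))) (.node (.leaf (92, 1)) (.leaf (320, 1)))) (.node (.node (.leaf (44, 1)) (.leaf (259, 0))) (.node (.leaf (144, 1)) (.leaf (384, 1))))) (.node (.node (.node (.node (.leaf (23, 0)) (.leaf (507, 1))) (.leaf (229, 1))) (.node (.leaf (120, 0)) (.leaf (352, 0)))) (.node (.node (.leaf (66, 1)) (.leaf (288, 0))) (.node (.leaf (171, 0)) (.leaf (419, 1)))))) (.node (.node (.node (.node (.node (.leaf (13, 0)) (.leaf (480, 1))) (.leaf (216, 1))) (.node (.leaf (106, 0)) (.leaf (338, 1)))) (.node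 (.node (.leaf (56, 0)) (.leaf (277, 0))) (.node (.leaf (160, 1)) (.leaf (403, 1))))) (.node (.node (.node (.node (.leaf (33, 1)) (.leaf (542, 1))) (.leaf (246, 1))) (.node (.leaf (132, 1)) (.leaf (370, 1)))) (.node (.node (.leaf (80, 1)) (.leaf (306, 1))) (.node (.leaf (186, 1)) (.leaf (438, 1))))))) (.node (.node (.node (.node (.node (.node (.leaf (8, 0)) (.leaf (468, 1))) (.leaf (207, 1))) (.node (.leaf (99, 1)) (.leaf (330, 1)))) (.node (.node (.leaf (50, 0)) (.leaf (269, 1))) (.node (.leaf (153, 1)) (.leaf (395, 0))))) (.node (.node (.node (.node (.leaf (28, 0)) (.leaf (522, 1))) (.leaf (237, 1))) (.node (.leaf (126, 1)) (.leaf (360, 1)))) (.node (.node (.leaf (72, 0)) (.leaf (298, 0))) (.node (.leaf (180, 0)) (.leaf (430, 0)))))) (.node (.node (.node (.node (.node (.leaf (18, 0)) (.leaf (494, 1))) (.leaf (223, 1))) (.node (.leaf (112, 0)) (.leaf (345, 0)))) (.node (.node (.leaf (61, 0)) (.leaf (283, 1))) (.node (.leaf (166, 1)) (.leaf (413, 0))))) (.node (.node (.node (.node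 (.leaf (38, 1)) (.leaf (561, 1))) (.leaf (253, 0))) (.node (.leaf (140, 0)) (.leaf (378, 1)))) (.node (.node (.leaf (85, 0)) (.leaf (313, 0))) (.node (.leaf (193, 1)) (.leaf (448, 0)))))))))) (.node (.node (.node (.node (.node (.node (.node (.node (.node (.leaf (0, 0)) (.leaf (451, 0))) (.leaf (195, 1))) (.node (.leaf (87, 0)) (.leaf (315, 1)))) (.node (.node (.leaf (41, 0)) (.leaf (254, 1))) (.node (.leaf (142, 0)) (.leaf (380, 0))))) (.node (.node (.node (.node (.leaf (20, 0)) (.leaf (499, 1))) (.leaf (225, 1))) (.node (.leaf (114, 1)) (.leaf (347, 1)))) (.node (.node (.leaf (63, 1)) (.leaf (285, 0))) (.node (.leaf (168, 0)) (.leaf (416, 0)))))) (.node (.node (.node (.node (.node (.leaf (10, 0)) (.leaf (474, 0))) (.leaf (210, 1))) (.node (.leaf (102, 0)) (.leaf (333, 1)))) (.node (.node (.leaf (52, 1)) (.leaf (271, 1))) (.node (.leaf (155, 1)) (.leaf (399, 0))))) (.node (.node (.node (.node (.leaf (29, 1)) (.leaf (525, 0))) (.leaf (240, 1))) (.node (.leaf (128, 1)) (.leaf (365,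 1)))) (.node (.node (.leaf (75, 1)) (.leaf (301, 1))) (.node (.leaf (182, 0)) (.leaf (434, 0))))))) (.node (.node (.node (.node (.node (.node (.leaf (5, 0)) (.leaf (461, 1))) (.leaf (202, 1))) (.node (.leaf (95, 1)) (.leaf (322, 1)))) (.node (.node (.leaf (46, 1)) (.leaf (263, 1))) (.node (.leaf (147, 1)) (.leaf (386, 0))))) (.node (.node (.node (.node (.leaf (24, 1)) (.leaf (511, 1))) (.leaf (232, 1))) (.node (.leaf (122, 1)) (.leaf (355, 1)))) (.node (.node (.leaf (68, 0)) (.leaf (291, 0))) (.node (.leaf (174, 0)) (.leaf (421, 0)))))) (.node (.node (.node (.node (.node (.leaf (15, 0)) (.leaf (485, 1))) (.leaf (219, 1))) (.node (.leaf (108, 1)) (.leaf (340, 1)))) (.node (.node (.leaf (57, 1)) (.leaf (279, 1))) (.node (.leaf (162, 1)) (.leaf (407, 1))))) (.node (.node (.node (.node (.leaf (35, 1)) (.leaf (545, 0))) (.leaf (249, 1))) (.node (.leaf (134, 0)) (.leaf (373, 1)))) (.node (.node (.leaf (82, 1)) (.leaf (309, 0))) (.node (.leaf (189, 0)) (.leaf (442, 1)))))))) (.node (.node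 (.node (.node (.node (.node (.node (.leaf (2, 1)) (.leaf (453, 1))) (.leaf (199, 0))) (.node (.leaf (91, 1)) (.leaf (318, 1)))) (.node (.node (.leaf (44, 0)) (.leaf (258, 1))) (.node (.leaf (144, 0)) (.leaf (383, 1))))) (.node (.node (.node (.node (.leaf (22, 1)) (.leaf (506, 0))) (.leaf (229, 0))) (.node (.leaf (119, 1)) (.leaf (351, 1)))) (.node (.node (.leaf (66, 0)) (.leaf (287, 1))) (.node (.leaf (170, 1)) (.leaf (418, 1)))))) (.node (.node (.node (.node (.node (.leaf (12, 1)) (.leaf (479, 1))) (.leaf (215, 1))) (.node (.leaf (105, 1)) (.leaf (337, 0)))) (.node (.node (.leaf (55, 1)) (.leaf (276, 1))) (.node (.leaf (159, 0)) (.leaf (403, 0))))) (.node (.node (.node (.node (.leaf (32, 1)) (.leaf (535, 0))) (.leaf (245, 1))) (.node (.leaf (131, 1)) (.leaf (369, 1)))) (.node (.node (.leaf (80, 0)) (.leaf (304, 1))) (.node (.leaf (186, 0)) (.leaf (438, 0))))))) (.node (.node (.node (.node (.node (.node (.leaf (7, 1)) (.leaf (467, 1))) (.leaf (207, 0))) (.node (.leaf (99, 0)) (.leaf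 (327, 1)))) (.node (.node (.leaf (49, 0)) (.leaf (268, 1))) (.node (.leaf (151, 1)) (.leaf (389, 1))))) (.node (.node (.node (.node (.leaf (27, 1)) (.leaf (517, 1))) (.leaf (237, 0))) (.node (.leaf (125, 0)) (.leaf (359, 1)))) (.node (.node (.leaf (71, 1)) (.leaf (297, 0))) (.node (.leaf (179, 1)) (.leaf (424, 1)))))) (.node (.node (.node (.node (.node (.leaf (17, 1)) (.leaf (493, 1))) (.leaf (222, 1))) (.node (.leaf (111, 1)) (.leaf (344, 1)))) (.node (.node (.leaf (60, 1)) (.leaf (282, 1))) (.node (.leaf (165, 1)) (.leaf (412, 1))))) (.node (.node (.node (.node (.leaf (37, 1)) (.leaf (555, 0))) (.leaf (252, 1))) (.node (.leaf (138, 1)) (.leaf (377, 1)))) (.node (.node (.leaf (84, 1)) (.leaf (312, 1))) (.node (.leaf (192, 1)) (.leaf (447, 1))))))))) (.node (.node (.node (.node (.node (.node (.node (.node (.leaf (1, 1)) (.leaf (452, 0))) (.leaf (197, 1))) (.node (.leaf (89, 0)) (.leaf (317, 0)))) (.node (.node (.leaf (42, 1)) (.leaf (256, 0))) (.node (.leaf (143, 0)) (.leaf (381,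 1))))) (.node (.node (.node (.node (.leaf (21, 0)) (.leaf (501, 1))) (.leaf (227, 1))) (.node (.leaf (116, 0)) (.leaf (349, 1)))) (.node (.node (.leaf (64, 1)) (.leaf (286, 0))) (.node (.leaf (169, 0)) (.leaf (417, 0)))))) (.node (.node (.node (.node (.node (.leaf (11, 0)) (.leaf (476, 0))) (.leaf (212, 0))) (.node (.leaf (103, 1)) (.leaf (335, 1)))) (.node (.node (.leaf (53, 1)) (.leaf (274, 1))) (.node (.leaf (157, 0)) (.leaf (401, 1))))) (.node (.node (.node (.node (.leaf (31, 0)) (.leaf (529, 1))) (.leaf (242, 0))) (.node (.leaf (130, 0)) (.leaf (368, 0)))) (.node (.node (.leaf (77, 1)) (.leaf (303, 0))) (.node (.leaf (184, 0)) (.leaf (436, 1))))))) (.node (.node (.node (.node (.node (.node (.leaf (6, 1)) (.leaf (465, 1))) (.leaf (204, 1))) (.node (.leaf (97, 1)) (.leaf (325, 1)))) (.node (.node (.leaf (47, 1)) (.leaf (266, 0))) (.node (.leaf (149, 0)) (.leaf (387, 1))))) (.node (.node (.node (.node (.leaf (26, 0)) (.leaf (513, 1))) (.leaf (234, 1))) (.node (.leaf (123, 1))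 (.leaf (357, 0)))) (.node (.node (.leaf (69, 1)) (.leaf (293, 1))) (.node (.leaf (176, 1)) (.leaf (422, 1)))))) (.node (.node (.node (.node (.node (.leaf (16, 0)) (.leaf (487, 1))) (.leaf (221, 0))) (.node (.leaf (109, 1)) (.leaf (343, 1)))) (.node (.node (.leaf (59, 0)) (.leaf (281, 0))) (.node (.leaf (164, 0)) (.leaf (410, 1))))) (.node (.node (.node (.node (.leaf (36, 1)) (.leaf (549, 1))) (.leaf (251, 1))) (.node (.leaf (136, 1)) (.leaf (375, 0)))) (.node (.node (.leaf (83, 1)) (.leaf (310, 1))) (.node (.leaf (191, 0)) (.leaf (445, 1)))))))) (.node (.node (.node (.node (.node (.node (.node (.leaf (3, 1)) (.leaf (455, 1))) (.leaf (200, 1))) (.node (.leaf (93, 0)) (.leaf (321, 0)))) (.node (.node (.leaf (45, 0)) (.leaf (260, 1))) (.node (.leaf (145, 1)) (.leaf (385, 0))))) (.node (.node (.node (.node (.leaf (23, 1)) (.leaf (508, 0))) (.leaf (230, 1))) (.node (.leaf (120, 1)) (.leaf (352, 1)))) (.node (.node (.leaf (67, 0)) (.leaf (289, 1))) (.node (.leaf (172, 1)) (.leaf (420,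 0)))))) (.node (.node (.node (.node (.node (.leaf (13, 1)) (.leaf (481, 1))) (.leaf (218, 0))) (.node (.leaf (107, 0)) (.leaf (339, 0)))) (.node (.node (.leaf (56, 1)) (.leaf (277, 1))) (.node (.leaf (161, 0)) (.leaf (404, 0))))) (.node (.node (.node (.node (.leaf (34, 0)) (.leaf (543, 1))) (.leaf (248, 0))) (.node (.leaf (133, 0)) (.leaf (371, 1)))) (.node (.node (.leaf (81, 0)) (.leaf (307, 1))) (.node (.leaf (187, 1)) (.leaf (439, 0))))))) (.node (.node (.node (.node (.node (.node (.leaf (8, 1)) (.leaf (469, 1))) (.leaf (209, 1))) (.node (.leaf (100, 1)) (.leaf (331, 1)))) (.node (.node (.leaf (50, 1)) (.leaf (270, 1))) (.node (.leaf (154, 1)) (.leaf (396, 1))))) (.node (.node (.node (.node (.leaf (28, 1)) (.leaf (523, 1))) (.leaf (239, 1))) (.node (.leaf (127, 0)) (.leaf (361, 1)))) (.node (.node (.leaf (73, 1)) (.leaf (298, 1))) (.node (.leaf (180, 1)) (.leaf (431, 1)))))) (.node (.node (.node (.node (.node (.leaf (18, 1)) (.leaf (497, 1))) (.leaf (224, 0))) (.node (.leaf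 (112, 1)) (.leaf (345, 1)))) (.node (.node (.leaf (62, 0)) (.leaf (284, 0))) (.node (.leaf (167, 0)) (.leaf (414, 1))))) (.node (.node (.node (.node (.leaf (39, 0)) (.leaf (569, 1))) (.leaf (253, 1))) (.node (.leaf (140, 1)) (.leaf (379, 0)))) (.node (.node (.leaf (85, 1)) (.leaf (313, 1))) (.node (.leaf (194, 0)) (.leaf (449, 1))))))))))

/-- data -/
def cert2 : Trie (ℕ × ℕ × ℕ) := .node (.node (.node (.node (.node (.node (.node (.node (.node (.node (.leaf (0, 0, 1)) (.leaf (3, 329, 7))) (.leaf (3, 15, 6))) (.node (.leaf (0, 297, 1)) (.leaf (4, 359, 5)))) (.node (.node (.node (.leaf (0, 125, 1)) (.leaf (4, 535, 10))) (.leaf (4, 65, 7))) (.node (.leaf (1, 52, 5)) (.leaf (2, 245, 6))))) (.node (.node (.node (.node (.leaf (0, 56, 1)) (.leaf (3, 528, 13))) (.leaf (4, 15, 6))) (.node (.leaf (0, 417, 1)) (.leaf (0, 436, 1)))) (.node (.node (.leaf (0, 198, 1)) (.leaf (4, 139, 7))) (.node (.leaf (2, 20, 6)) (.leaf (3, 76, 8)))))) (.node (.node (.node (.node (.node (.leaf (0, 26, 1)) (.leaf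 (3, 411, 3))) (.leaf (3, 82, 6))) (.node (.leaf (0, 357, 1)) (.leaf (4, 517, 13)))) (.node (.node (.leaf (0, 161, 1)) (.leaf (4, 100, 6))) (.node (.leaf (1, 300, 5)) (.leaf (2, 401, 3))))) (.node (.node (.node (.node (.leaf (0, 85, 1)) (.leaf (3, 568, 13))) (.leaf (4, 34, 4))) (.node (.leaf (0, 506, 1)) (.leaf (2, 137, 7)))) (.node (.node (.leaf (0, 248, 1)) (.leaf (4, 224, 10))) (.node (.leaf (2, 82, 6)) (.leaf (3, 214, 7))))))) (.node (.node (.node (.node (.node (.node (.leaf (0, 13, 1)) (.leaf (3, 386, 5))) (.leaf (3, 36, 6))) (.node (.leaf (0, 333, 1)) (.leaf (4, 417, 11)))) (.node (.node (.leaf (0, 142, 1)) (.leaf (4, 82, 7))) (.node (.leaf (1, 163, 5)) (.leaf (2, 312, 3))))) (.node (.node (.node (.node (.leaf (0, 68, 1)) (.leaf (3, 548, 13))) (.leaf (4, 23, 10))) (.node (.leaf (0, 448, 1)) (.leaf (1, 455, 2)))) (.node (.node (.leaf (0, 224, 1)) (.leaf (4, 177, 7))) (.node (.leaf (2, 49, 7)) (.leaf (3, 143, 8)))))) (.node (.node (.node (.node (.node (.leaf (0, 39, 1)) (.leaf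 (3, 475, 1))) (.leaf (4, 7, 6))) (.node (.leaf (0, 386, 1)) (.leaf (0, 348, 1)))) (.node (.node (.leaf (0, 180, 1)) (.leaf (4, 119, 7))) (.node (.leaf (2, 7, 6)) (.leaf (2, 438, 7))))) (.node (.node (.node (.node (.leaf (0, 106, 1)) (.leaf (4, 368, 10))) (.leaf (4, 47, 4))) (.node (.leaf (1, 1, 5)) (.leaf (2, 206, 6)))) (.node (.node (.leaf (0, 271, 1)) (.leaf (4, 273, 7))) (.node (.leaf (3, 5, 6)) (.leaf (3, 271, 8)))))))) (.node (.node (.node (.node (.node (.node (.node (.leaf (0, 7, 1)) (.leaf (3, 363, 6))) (.leaf (3, 25, 6))) (.node (.leaf (0, 313, 1)) (.leaf (4, 385, 11)))) (.node (.node (.leaf (0, 133, 1)) (.leaf (4, 73, 6))) (.node (.leaf (1, 114, 5)) (.leaf (2, 280, 3))))) (.node (.node (.node (.node (.leaf (0, 62, 1)) (.leaf (3, 534, 6))) (.leaf (4, 19, 7))) (.node (.leaf (0, 430, 1)) (.leaf (1, 304, 3)))) (.node (.node (.leaf (0, 210, 1)) (.leaf (4, 162, 13))) (.node (.leaf (2, 33, 6)) (.leaf (3, 116, 8)))))) (.node (.node (.node (.node (.node (.leaf (0, 32, 1)) (.leaf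 (3, 434, 9))) (.leaf (4, 3, 6))) (.node (.leaf (0, 375, 1)) (.leaf (0, 312, 1)))) (.node (.node (.leaf (0, 168, 1)) (.leaf (4, 111, 13))) (.node (.leaf (2, 3, 6)) (.leaf (2, 413, 3))))) (.node (.node (.node (.node (.leaf (0, 97, 1)) (.leaf (4, 288, 8))) (.leaf (4, 41, 6))) (.node (.leaf (0, 535, 1)) (.leaf (2, 168, 7)))) (.node (.node (.leaf (0, 256, 1)) (.leaf (4, 244, 0))) (.node (.leaf (3, 1, 6)) (.leaf (3, 244, 7))))))) (.node (.node (.node (.node (.node (.node (.leaf (0, 20, 1)) (.leaf (3, 398, 9))) (.leaf (3, 52, 6))) (.node (.leaf (0, 344, 1)) (.leaf (4, 438, 11)))) (.node (.node (.leaf (0, 149, 1)) (.leaf (4, 90, 6))) (.node (.leaf (1, 219, 5)) (.leaf (2, 364, 6))))) (.node (.node (.node (.node (.leaf (0, 80, 1)) (.leaf (3, 554, 6))) (.leaf (4, 27, 7))) (.node (.leaf (0, 474, 1)) (.leaf (2, 76, 7)))) (.node (.node (.leaf (0, 235, 1)) (.leaf (4, 196, 8))) (.node (.leaf (2, 61, 7)) (.leaf (3, 186, 8)))))) (.node (.node (.node (.node (.node (.leaf (0, 47, 1)) (.leaf (3, 512,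 1))) (.leaf (4, 11, 6))) (.node (.leaf (0, 403, 1)) (.leaf (0, 398, 1)))) (.node (.node (.leaf (0, 189, 1)) (.leaf (4, 125, 8))) (.node (.leaf (2, 12, 6)) (.leaf (2, 477, 3))))) (.node (.node (.node (.node (.leaf (0, 113, 1)) (.leaf (4, 402, 2))) (.leaf (4, 56, 10))) (.node (.leaf (1, 12, 5)) (.leaf (2, 235, 7)))) (.node (.node (.leaf (0, 285, 1)) (.leaf (4, 305, 7))) (.node (.leaf (3, 9, 6)) (.leaf (3, 303, 8))))))))) (.node (.node (.node (.node (.node (.node (.node (.node (.leaf (0, 3, 1)) (.leaf (3, 345, 11))) (.leaf (3, 20, 6))) (.node (.leaf (0, 303, 1)) (.leaf (4, 375, 11)))) (.node (.node (.leaf (0, 128, 1)) (.leaf (4, 70, 10))) (.node (.leaf (1, 88, 5)) (.leaf (2, 266, 7))))) (.node (.node (.node (.node (.leaf (0, 59, 1)) (.leaf (3, 531, 4))) (.leaf (4, 17, 7))) (.node (.leaf (0, 421, 1)) (.leaf (0, 512, 0)))) (.node (.node (.leaf (0, 205, 1)) (.leaf (4, 146, 10))) (.node (.leaf (2, 25, 6)) (.leaf (3, 93, 8)))))) (.node (.node (.node (.node (.node (.leaf (0, 29, 1)) (.leaf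 (3, 430, 9))) (.leaf (4, 1, 7))) (.node (.leaf (0, 372, 1)) (.leaf (0, 280, 1)))) (.node (.node (.leaf (0, 165, 1)) (.leaf (4, 102, 10))) (.node (.leaf (2, 1, 6)) (.leaf (2, 404, 10))))) (.node (.node (.node (.node (.leaf (0, 89, 1)) (.leaf (4, 140, 10))) (.leaf (4, 39, 10))) (.node (.leaf (0, 509, 1)) (.leaf (2, 155, 4)))) (.node (.node (.leaf (0, 253, 1)) (.leaf (4, 235, 10))) (.node (.leaf (2, 119, 6)) (.leaf (3, 236, 7))))))) (.node (.node (.node (.node (.node (.node (.leaf (0, 16, 1)) (.leaf (3, 395, 9))) (.leaf (3, 41, 6))) (.node (.leaf (0, 339, 1)) (.leaf (4, 426, 3)))) (.node (.node (.leaf (0, 144, 1)) (.leaf (4, 87, 10))) (.node (.leaf (1, 188, 5)) (.leaf (2, 340, 8))))) (.node (.node (.node (.node (.leaf (0, 72, 1)) (.leaf (3, 551, 4))) (.leaf (4, 25, 7))) (.node (.leaf (0, 452, 1)) (.leaf (2, 57, 7)))) (.node (.node (.leaf (0, 228, 1)) (.leaf (4, 189, 10))) (.node (.leaf (2, 53, 6)) (.leaf (3, 164, 8)))))) (.node (.node (.node (.node (.node (.leaf (0, 44, 1)) (.leaf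 (3, 499, 3))) (.leaf (4, 9, 7))) (.node (.leaf (0, 395, 1)) (.leaf (0, 383, 1)))) (.node (.node (.leaf (0, 184, 1)) (.leaf (4, 122, 8))) (.node (.leaf (2, 9, 6)) (.leaf (2, 452, 7))))) (.node (.node (.node (.node (.leaf (0, 109, 1)) (.leaf (4, 384, 13))) (.leaf (4, 53, 6))) (.node (.leaf (1, 6, 5)) (.leaf (2, 208, 6)))) (.node (.node (.leaf (0, 281, 1)) (.leaf (4, 298, 11))) (.node (.leaf (3, 7, 6)) (.leaf (3, 284, 3)))))))) (.node (.node (.node (.node (.node (.node (.node (.leaf (0, 10, 1)) (.leaf (3, 375, 9))) (.leaf (3, 32, 6))) (.node (.leaf (0, 321, 1)) (.leaf (4, 403, 11)))) (.node (.node (.leaf (0, 137, 1)) (.leaf (4, 79, 7))) (.node (.leaf (1, 135, 5)) (.leaf (2, 298, 7))))) (.node (.node (.node (.node (.leaf (0, 66, 1)) (.leaf (3, 539, 13))) (.leaf (4, 21, 6))) (.node (.leaf (0, 438, 1)) (.leaf (1, 400, 3)))) (.node (.node (.leaf (0, 218, 1)) (.leaf (4, 168, 10))) (.node (.leaf (2, 41, 6)) (.leaf (3, 130, 8)))))) (.node (.node (.node (.node (.node (.leaf (0, 36, 1)) (.leaf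 (3, 436, 2))) (.leaf (4, 5, 6))) (.node (.leaf (0, 380, 1)) (.leaf (0, 338, 1)))) (.node (.node (.leaf (0, 171, 1)) (.leaf (4, 116, 10))) (.node (.leaf (2, 5, 6)) (.leaf (2, 428, 4))))) (.node (.node (.node (.node (.leaf (0, 102, 1)) (.leaf (4, 333, 10))) (.leaf (4, 44, 10))) (.node (.leaf (0, 555, 1)) (.leaf (2, 189, 7)))) (.node (.node (.leaf (0, 265, 1)) (.leaf (4, 266, 11))) (.node (.leaf (3, 3, 6)) (.leaf (3, 252, 3))))))) (.node (.node (.node (.node (.node (.node (.leaf (0, 23, 1)) (.leaf (3, 401, 2))) (.leaf (3, 58, 6))) (.node (.leaf (0, 352, 1)) (.leaf (4, 452, 11)))) (.node (.node (.leaf (0, 157, 1)) (.leaf (4, 96, 7))) (.node (.leaf (1, 249, 5)) (.leaf (2, 383, 3))))) (.node (.node (.node (.node (.leaf (0, 83, 1)) (.leaf (3, 563, 13))) (.leaf (4, 32, 6))) (.node (.leaf (0, 477, 1)) (.leaf (2, 93, 7)))) (.node (.node (.leaf (0, 240, 1)) (.leaf (4, 210, 10))) (.node (.leaf (2, 65, 6)) (.leaf (3, 206, 7)))))) (.node (.node (.node (.node (.node (.leaf (0, 50, 1)) (.leaf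 (3, 519, 13))) (.leaf (4, 13, 6))) (.node (.leaf (0, 413, 1)) (.leaf (0, 411, 0)))) (.node (.node (.leaf (0, 194, 1)) (.leaf (4, 136, 10))) (.node (.leaf (2, 15, 6)) (.leaf (3, 57, 8))))) (.node (.node (.node (.node (.leaf (0, 120, 1)) (.leaf (4, 427, 2))) (.leaf (4, 59, 4))) (.node (.leaf (1, 19, 5)) (.leaf (2, 238, 6)))) (.node (.node (.leaf (0, 288, 1)) (.leaf (4, 340, 11))) (.node (.leaf (3, 12, 6)) (.leaf (3, 322, 12)))))))))) (.node (.node (.node (.node (.node (.node (.node (.node (.node (.leaf (0, 2, 1)) (.leaf (3, 340, 9))) (.leaf (3, 19, 6))) (.node (.leaf (0, 298, 1)) (.leaf (4, 363, 13)))) (.node (.node (.leaf (0, 127, 1)) (.leaf (4, 67, 10))) (.node (.leaf (1, 71, 5)) (.leaf (2, 253, 7))))) (.node (.node (.node (.node (.leaf (0, 57, 1)) (.leaf (3, 530, 0))) (.leaf (4, 16, 6))) (.node (.leaf (0, 420, 1)) (.leaf (0, 480, 0)))) (.node (.node (.leaf (0, 199, 1)) (.leaf (4, 143, 10))) (.node (.leaf (2, 24, 6)) (.leaf (3, 84, 8)))))) (.node (.node (.node (.node (.node (.leaf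 (0, 28, 1)) (.leaf (3, 421, 5))) (.leaf (4, 0, 7))) (.node (.leaf (0, 368, 1)) (.leaf (0, 267, 0)))) (.node (.node (.leaf (0, 164, 1)) (.leaf (4, 101, 8))) (.node (.leaf (2, 0, 6)) (.leaf (2, 403, 7))))) (.node (.node (.node (.node (.leaf (0, 87, 1)) (.leaf (3, 571, 13))) (.leaf (4, 35, 7))) (.node (.leaf (0, 508, 1)) (.leaf (2, 143, 7)))) (.node (.node (.leaf (0, 252, 1)) (.leaf (4, 226, 8))) (.node (.leaf (2, 98, 6)) (.leaf (3, 218, 8))))))) (.node (.node (.node (.node (.node (.node (.leaf (0, 15, 1)) (.leaf (3, 389, 9))) (.leaf (3, 40, 6))) (.node (.leaf (0, 337, 1)) (.leaf (4, 420, 11)))) (.node (.node (.leaf (0, 143, 1)) (.leaf (4, 84, 10))) (.node (.leaf (1, 179, 5)) (.leaf (2, 329, 6))))) (.node (.node (.node (.node (.leaf (0, 70, 1)) (.leaf (3, 550, 0))) (.leaf (4, 24, 6))) (.node (.leaf (0, 451, 1)) (.leaf (2, 45, 7)))) (.node (.node (.leaf (0, 226, 1)) (.leaf (4, 187, 13))) (.node (.leaf (2, 52, 6)) (.leaf (3, 161, 8)))))) (.node (.node (.node (.node (.node (.leaf (0,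 41, 1)) (.leaf (3, 480, 1))) (.leaf (4, 8, 6))) (.node (.leaf (0, 388, 1)) (.leaf (0, 376, 0)))) (.node (.node (.leaf (0, 182, 1)) (.leaf (4, 121, 6))) (.node (.leaf (2, 8, 6)) (.leaf (2, 448, 3))))) (.node (.node (.node (.node (.leaf (0, 107, 1)) (.leaf (4, 369, 13))) (.leaf (4, 52, 7))) (.node (.leaf (1, 4, 5)) (.leaf (2, 207, 7)))) (.node (.node (.leaf (0, 277, 1)) (.leaf (4, 285, 10))) (.node (.leaf (3, 6, 6)) (.leaf (3, 276, 8)))))))) (.node (.node (.node (.node (.node (.node (.node (.leaf (0, 8, 1)) (.leaf (3, 364, 7))) (.leaf (3, 28, 6))) (.node (.leaf (0, 317, 1)) (.leaf (4, 396, 13)))) (.node (.node (.leaf (0, 134, 1)) (.leaf (4, 75, 13))) (.node (.leaf (1, 119, 5)) (.leaf (2, 285, 7))))) (.node (.node (.node (.node (.leaf (0, 64, 1)) (.leaf (3, 538, 13))) (.leaf (4, 20, 6))) (.node (.leaf (0, 434, 1)) (.leaf (1, 365, 2)))) (.node (.node (.leaf (0, 212, 1)) (.leaf (4, 164, 10))) (.node (.leaf (2, 40, 6)) (.leaf (3, 119, 4)))))) (.node (.node (.node (.node (.node (.leaf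 (0, 34, 1)) (.leaf (3, 435, 4))) (.leaf (4, 4, 7))) (.node (.leaf (0, 379, 1)) (.leaf (0, 335, 0)))) (.node (.node (.leaf (0, 169, 1)) (.leaf (4, 115, 10))) (.node (.leaf (2, 4, 6)) (.leaf (2, 417, 7))))) (.node (.node (.node (.node (.leaf (0, 99, 1)) (.leaf (4, 314, 2))) (.leaf (4, 42, 6))) (.node (.leaf (0, 545, 1)) (.leaf (2, 180, 4)))) (.node (.node (.leaf (0, 259, 1)) (.leaf (4, 253, 10))) (.node (.leaf (3, 2, 6)) (.leaf (3, 248, 8))))))) (.node (.node (.node (.node (.node (.node (.leaf (0, 21, 1)) (.leaf (3, 399, 9))) (.leaf (3, 53, 6))) (.node (.leaf (0, 345, 1)) (.leaf (4, 451, 11)))) (.node (.node (.leaf (0, 155, 1)) (.leaf (4, 92, 13))) (.node (.leaf (1, 220, 5)) (.leaf (2, 375, 8))))) (.node (.node (.node (.node (.leaf (0, 81, 1)) (.leaf (3, 559, 13))) (.leaf (4, 31, 10))) (.node (.leaf (0, 476, 1)) (.leaf (2, 84, 7)))) (.node (.node (.leaf (0, 237, 1)) (.leaf (4, 205, 10))) (.node (.leaf (2, 64, 6)) (.leaf (3, 189, 8)))))) (.node (.node (.node (.node (.node (.leaf (0,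 49, 1)) (.leaf (3, 518, 13))) (.leaf (4, 12, 7))) (.node (.leaf (0, 404, 1)) (.leaf (0, 401, 1)))) (.node (.node (.leaf (0, 191, 1)) (.leaf (4, 132, 13))) (.node (.leaf (2, 14, 6)) (.leaf (3, 45, 8))))) (.node (.node (.node (.node (.leaf (0, 116, 1)) (.leaf (4, 419, 13))) (.leaf (4, 57, 9))) (.node (.leaf (1, 14, 5)) (.leaf (2, 237, 7)))) (.node (.node (.leaf (0, 286, 1)) (.leaf (4, 328, 13))) (.node (.leaf (3, 11, 6)) (.leaf (3, 308, 8))))))))) (.node (.node (.node (.node (.node (.node (.node (.node (.leaf (0, 5, 1)) (.leaf (3, 357, 12))) (.leaf (3, 24, 6))) (.node (.leaf (0, 309, 1)) (.leaf (4, 379, 11)))) (.node (.node (.leaf (0, 130, 1)) (.leaf (4, 72, 8))) (.node (.leaf (1, 98, 5)) (.leaf (2, 267, 7))))) (.node (.node (.node (.node (.leaf (0, 61, 1)) (.leaf (3, 533, 0))) (.leaf (4, 18, 10))) (.node (.leaf (0, 423, 1)) (.leaf (1, 272, 3)))) (.node (.node (.leaf (0, 207, 1)) (.leaf (4, 152, 7))) (.node (.leaf (2, 32, 6)) (.leaf (3, 109, 8)))))) (.node (.node (.node (.node (.node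 (.leaf (0, 31, 1)) (.leaf (3, 431, 6))) (.leaf (4, 2, 6))) (.node (.leaf (0, 374, 1)) (.leaf (0, 299, 0)))) (.node (.node (.leaf (0, 167, 1)) (.leaf (4, 104, 8))) (.node (.leaf (2, 2, 6)) (.leaf (2, 406, 4))))) (.node (.node (.node (.node (.leaf (0, 93, 1)) (.leaf (4, 256, 8))) (.leaf (4, 40, 7))) (.node (.leaf (0, 525, 1)) (.leaf (2, 164, 7)))) (.node (.node (.leaf (0, 254, 1)) (.leaf (4, 240, 10))) (.node (.leaf (3, 0, 6)) (.leaf (3, 240, 8))))))) (.node (.node (.node (.node (.node (.node (.leaf (0, 18, 1)) (.leaf (3, 396, 6))) (.leaf (3, 46, 6))) (.node (.leaf (0, 340, 1)) (.leaf (4, 431, 13)))) (.node (.node (.leaf (0, 146, 1)) (.leaf (4, 89, 8))) (.node (.leaf (1, 190, 5)) (.leaf (2, 348, 3))))) (.node (.node (.node (.node (.leaf (0, 76, 1)) (.leaf (3, 553, 0))) (.leaf (4, 26, 4))) (.node (.leaf (0, 458, 1)) (.leaf (2, 67, 7)))) (.node (.node (.leaf (0, 229, 1)) (.leaf (4, 194, 10))) (.node (.leaf (2, 58, 6)) (.leaf (3, 168, 8)))))) (.node (.node (.node (.node (.node (.leaf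 (0, 45, 1)) (.leaf (3, 507, 1))) (.leaf (4, 10, 6))) (.node (.leaf (0, 399, 1)) (.leaf (0, 397, 0)))) (.node (.node (.leaf (0, 186, 1)) (.leaf (4, 123, 10))) (.node (.leaf (2, 11, 6)) (.leaf (2, 464, 11))))) (.node (.node (.node (.node (.leaf (0, 112, 1)) (.leaf (4, 389, 10))) (.leaf (4, 54, 6))) (.node (.leaf (1, 9, 5)) (.leaf (2, 210, 7)))) (.node (.node (.leaf (0, 284, 1)) (.leaf (4, 303, 11))) (.node (.leaf (3, 8, 6)) (.leaf (3, 297, 9)))))))) (.node (.node (.node (.node (.node (.node (.node (.leaf (0, 11, 1)) (.leaf (3, 380, 11))) (.leaf (3, 33, 6))) (.node (.leaf (0, 322, 1)) (.leaf (4, 416, 11)))) (.node (.node (.leaf (0, 140, 1)) (.leaf (4, 81, 6))) (.node (.leaf (1, 154, 5)) (.leaf (2, 299, 7))))) (.node (.node (.node (.node (.leaf (0, 67, 1)) (.leaf (3, 545, 8))) (.leaf (4, 22, 7))) (.node (.leaf (0, 439, 1)) (.leaf (1, 435, 3)))) (.node (.node (.leaf (0, 221, 1)) (.leaf (4, 171, 10))) (.node (.leaf (2, 46, 6)) (.leaf (3, 137, 8)))))) (.node (.node (.node (.node (.node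 (.leaf (0, 37, 1)) (.leaf (3, 467, 3))) (.leaf (4, 6, 7))) (.node (.leaf (0, 385, 1)) (.leaf (0, 341, 0)))) (.node (.node (.leaf (0, 174, 1)) (.leaf (4, 118, 7))) (.node (.leaf (2, 6, 6)) (.leaf (2, 436, 3))))) (.node (.node (.node (.node (.leaf (0, 104, 1)) (.leaf (4, 349, 2))) (.leaf (4, 45, 9))) (.node (.leaf (1, 0, 5)) (.leaf (2, 205, 7)))) (.node (.node (.leaf (0, 266, 1)) (.leaf (4, 271, 11))) (.node (.leaf (3, 4, 6)) (.leaf (3, 265, 9))))))) (.node (.node (.node (.node (.node (.node (.leaf (0, 24, 1)) (.leaf (3, 402, 3))) (.leaf (3, 65, 6))) (.node (.leaf (0, 356, 1)) (.leaf (4, 485, 13)))) (.node (.node (.leaf (0, 159, 1)) (.leaf (4, 98, 7))) (.node (.leaf (1, 268, 5)) (.leaf (2, 393, 4))))) (.node (.node (.node (.node (.leaf (0, 84, 1)) (.leaf (3, 567, 13))) (.leaf (4, 33, 7))) (.node (.leaf (0, 490, 1)) (.leaf (2, 116, 7)))) (.node (.node (.leaf (0, 242, 1)) (.leaf (4, 214, 0))) (.node (.leaf (2, 81, 6)) (.leaf (3, 210, 8)))))) (.node (.node (.node (.node (.node (.leaf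 (0, 53, 1)) (.leaf (3, 525, 8))) (.leaf (4, 14, 7))) (.node (.leaf (0, 416, 1)) (.leaf (0, 432, 0)))) (.node (.node (.leaf (0, 196, 1)) (.leaf (4, 137, 10))) (.node (.leaf (2, 19, 6)) (.leaf (3, 67, 8))))) (.node (.node (.node (.node (.leaf (0, 123, 1)) (.leaf (4, 527, 13))) (.leaf (4, 64, 6))) (.node (.leaf (1, 40, 5)) (.leaf (2, 240, 7)))) (.node (.node (.leaf (0, 291, 1)) (.leaf (4, 344, 11))) (.node (.leaf (3, 14, 6)) (.leaf (3, 328, 6))))))))))

/-- data -/
def pot2 : Trie (Vec) := .node (.node (.node (.node (.node (.node (.node (.node (.node (.node (.leaf []) (.leaf [50])) (.leaf [34])) (.node (.leaf [30]) (.leaf [46]))) (.node (.node (.leaf [26]) (.leaf [44])) (.node (.leaf [36]) (.leaf [44])))) (.node (.node (.node (.node (.leaf [24]) (.leaf [56])) (.leaf [40])) (.node (.leaf [26]) (.leaf [38]))) (.node (.node (.leaf [24]) (.leaf [46])) (.node (.leaf [38]) (.leaf [44]))))) (.node (.node (.node (.node (.node (.leaf [12]) (.leaf [46])) (.leaf [38])) (.node (.leaf [30]) (.leaf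 [46]))) (.node (.node (.leaf [18]) (.leaf [40])) (.node (.leaf [36]) (.leaf [44])))) (.node (.node (.node (.node (.leaf [20]) (.leaf [52])) (.leaf [44])) (.node (.leaf [36]) (.leaf [48]))) (.node (.node (.leaf [24]) (.leaf [46])) (.node (.leaf [38]) (.leaf [50])))))) (.node (.node (.node (.node (.node (.node (.leaf [10]) (.leaf [54])) (.leaf [34])) (.node (.leaf [30]) (.leaf [46]))) (.node (.node (.leaf [22]) (.leaf [40])) (.node (.leaf [32]) (.leaf [48])))) (.node (.node (.node (.node (.leaf [24]) (.leaf [56])) (.leaf [40])) (.node (.leaf [36]) (.leaf [52]))) (.node (.node (.leaf [24]) (.leaf [46])) (.node (.leaf [38]) (.leaf [54]))))) (.node (.node (.node (.node (.node (.leaf [18]) (.leaf [50])) (.leaf [34])) (.node (.leaf [26]) (.leaf [46]))) (.node (.node (.leaf [32]) (.leaf [36])) (.node (.leaf [32]) (.leaf [44])))) (.node (.node (.node (.node (.leaf [22]) (.leaf [58])) (.leaf [40])) (.node (.leaf [32]) (.leaf [48]))) (.node (.node (.leaf [34]) (.leaf [42])) (.node (.leaf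 [38]) (.leaf [50]))))))) (.node (.node (.node (.node (.node (.node (.node (.leaf [8]) (.leaf [50])) (.leaf [38])) (.node (.leaf [30]) (.leaf [42]))) (.node (.node (.leaf [22]) (.leaf [40])) (.node (.leaf [32]) (.leaf [48])))) (.node (.node (.node (.node (.leaf [20]) (.leaf [52])) (.leaf [44])) (.node (.leaf [26]) (.leaf [52]))) (.node (.node (.leaf [28]) (.leaf [46])) (.node (.leaf [38]) (.leaf [44]))))) (.node (.node (.node (.node (.node (.leaf [18]) (.leaf [50])) (.leaf [34])) (.node (.leaf [30]) (.leaf [42]))) (.node (.node (.leaf [28]) (.leaf [40])) (.node (.leaf [32]) (.leaf [48])))) (.node (.node (.node (.node (.leaf [30]) (.leaf [52])) (.leaf [40])) (.node (.leaf [36]) (.leaf [48]))) (.node (.node (.leaf [24]) (.leaf [42])) (.node (.leaf [34]) (.leaf [54])))))) (.node (.node (.node (.node (.node (.node (.leaf [16]) (.leaf [50])) (.leaf [38])) (.node (.leaf [34]) (.leaf [46]))) (.node (.node (.leaf [22]) (.leaf [40])) (.node (.leaf [32]) (.leaf [48])))) (.node (.node (.node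 (.node (.leaf [16]) (.leaf [56])) (.leaf [44])) (.node (.leaf [36]) (.leaf [48]))) (.node (.node (.leaf [24]) (.leaf [42])) (.node (.leaf [34]) (.leaf [54]))))) (.node (.node (.node (.node (.node (.leaf [14]) (.leaf [60])) (.leaf [44])) (.node (.leaf [30]) (.leaf [42]))) (.node (.node (.leaf [24]) (.leaf [36])) (.node (.leaf [46]) (.leaf [44])))) (.node (.node (.node (.node (.leaf [26]) (.leaf [58])) (.leaf [44])) (.node (.leaf [36]) (.leaf [48]))) (.node (.node (.leaf [34]) (.leaf [46])) (.node (.leaf [38]) (.leaf [50])))))))) (.node (.node (.node (.node (.node (.node (.node (.node (.leaf [2]) (.leaf [46])) (.leaf [38])) (.node (.leaf [34]) (.leaf [46]))) (.node (.node (.leaf [22]) (.leaf [40])) (.node (.leaf [32]) (.leaf [48])))) (.node (.node (.node (.node (.leaf [20]) (.leaf [56])) (.leaf [44])) (.node (.leaf [26]) (.leaf [38]))) (.node (.node (.leaf [32]) (.leaf [46])) (.node (.leaf [38]) (.leaf [40]))))) (.node (.node (.node (.node (.node (.leaf [8]) (.leaf [50])) (.leaf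 [34])) (.node (.leaf [26]) (.leaf [46]))) (.node (.node (.leaf [32]) (.leaf [40])) (.node (.leaf [32]) (.leaf [48])))) (.node (.node (.node (.node (.leaf [16]) (.leaf [48])) (.leaf [40])) (.node (.leaf [32]) (.leaf [52]))) (.node (.node (.leaf [28]) (.leaf [46])) (.node (.leaf [38]) (.leaf [54])))))) (.node (.node (.node (.node (.node (.node (.leaf [6]) (.leaf [50])) (.leaf [38])) (.node (.leaf [30]) (.leaf [42]))) (.node (.node (.leaf [22]) (.leaf [40])) (.node (.leaf [32]) (.leaf [48])))) (.node (.node (.node (.node (.leaf [20]) (.leaf [52])) (.leaf [44])) (.node (.leaf [36]) (.leaf [52]))) (.node (.node (.leaf [24]) (.leaf [46])) (.node (.leaf [38]) (.leaf [54]))))) (.node (.node (.node (.node (.node (.leaf [14]) (.leaf [56])) (.leaf [48])) (.node (.leaf [34]) (.leaf [46]))) (.node (.node (.leaf [28]) (.leaf [36])) (.node (.leaf [32]) (.leaf [48])))) (.node (.node (.node (.node (.leaf [26]) (.leaf [54])) (.leaf [44])) (.node (.leaf [36]) (.leaf [48]))) (.node (.node (.leaf [34])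 (.leaf [46])) (.node (.leaf [42]) (.leaf [54]))))))) (.node (.node (.node (.node (.node (.node (.node (.leaf [14]) (.leaf [50])) (.leaf [34])) (.node (.leaf [26]) (.leaf [46]))) (.node (.node (.leaf [18]) (.leaf [44])) (.node (.leaf [32]) (.leaf [48])))) (.node (.node (.node (.node (.leaf [20]) (.leaf [56])) (.leaf [40])) (.node (.leaf [40]) (.leaf [52]))) (.node (.node (.leaf [24]) (.leaf [46])) (.node (.leaf [38]) (.leaf [54]))))) (.node (.node (.node (.node (.node (.leaf [18]) (.leaf [46])) (.leaf [34])) (.node (.leaf [30]) (.leaf [42]))) (.node (.node (.leaf [28]) (.leaf [44])) (.node (.leaf [28]) (.leaf [44])))) (.node (.node (.node (.node (.leaf [26]) (.leaf [58])) (.leaf [40])) (.node (.leaf [32]) (.leaf [48]))) (.node (.node (.leaf [20]) (.leaf [42])) (.node (.leaf [38]) (.leaf [50])))))) (.node (.node (.node (.node (.node (.node (.leaf [16]) (.leaf [50])) (.leaf [38])) (.node (.leaf [30]) (.leaf [42]))) (.node (.node (.leaf [22]) (.leaf [44])) (.node (.leaf [28]) (.leaf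 [48])))) (.node (.node (.node (.node (.leaf [20]) (.leaf [52])) (.leaf [44])) (.node (.leaf [36]) (.leaf [48]))) (.node (.node (.leaf [28]) (.leaf [50])) (.node (.leaf [42]) (.leaf [54]))))) (.node (.node (.node (.node (.node (.leaf [14]) (.leaf [56])) (.leaf [44])) (.node (.leaf [30]) (.leaf [46]))) (.node (.node (.leaf [28]) (.leaf [50])) (.node (.leaf [42]) (.leaf [44])))) (.node (.node (.node (.node (.leaf [22]) (.leaf [54])) (.leaf [44])) (.node (.leaf [40]) (.leaf [48]))) (.node (.node (.leaf [34]) (.leaf [46])) (.node (.leaf [38]) (.leaf [50]))))))))) (.node (.node (.node (.node (.node (.node (.node (.node (.node (.leaf [6]) (.leaf [50])) (.leaf [38])) (.node (.leaf [30]) (.leaf [46]))) (.node (.node (.leaf [26]) (.leaf [40])) (.node (.leaf [36]) (.leaf [52])))) (.node (.node (.node (.node (.leaf [24]) (.leaf [52])) (.leaf [44])) (.node (.leaf [30]) (.leaf [42]))) (.node (.node (.leaf [24]) (.leaf [50])) (.node (.leaf [42]) (.leaf [44]))))) (.node (.node (.node (.node (.node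 (.leaf [12]) (.leaf [54])) (.leaf [34])) (.node (.leaf [30]) (.leaf [42]))) (.node (.node (.leaf [32]) (.leaf [36])) (.node (.leaf [32]) (.leaf [52])))) (.node (.node (.node (.node (.leaf [16]) (.leaf [52])) (.leaf [40])) (.node (.leaf [32]) (.leaf [48]))) (.node (.node (.leaf [20]) (.leaf [50])) (.node (.leaf [38]) (.leaf [58])))))) (.node (.node (.node (.node (.node (.node (.leaf [10]) (.leaf [50])) (.leaf [34])) (.node (.leaf [30]) (.leaf [42]))) (.node (.node (.leaf [22]) (.leaf [36])) (.node (.leaf [32]) (.leaf [52])))) (.node (.node (.node (.node (.leaf [20]) (.leaf [56])) (.leaf [40])) (.node (.leaf [36]) (.leaf [52]))) (.node (.node (.leaf [28]) (.leaf [50])) (.node (.leaf [42]) (.leaf [58]))))) (.node (.node (.node (.node (.node (.leaf [18]) (.leaf [42])) (.leaf [34])) (.node (.leaf [26]) (.leaf [42]))) (.node (.node (.leaf [28]) (.leaf [40])) (.node (.leaf [28]) (.leaf [44])))) (.node (.node (.node (.node (.leaf [26]) (.leaf [58])) (.leaf [40])) (.node (.leaf [32]) (.leaf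 [48]))) (.node (.node (.leaf [34]) (.leaf [50])) (.node (.leaf [38]) (.leaf [50]))))))) (.node (.node (.node (.node (.node (.node (.node (.leaf [4]) (.leaf [46])) (.leaf [38])) (.node (.leaf [30]) (.leaf [46]))) (.node (.node (.leaf [22]) (.leaf [40])) (.node (.leaf [36]) (.leaf [44])))) (.node (.node (.node (.node (.leaf [20]) (.leaf [60])) (.leaf [44])) (.node (.leaf [40]) (.leaf [52]))) (.node (.node (.leaf [28]) (.leaf [46])) (.node (.leaf [38]) (.leaf [40]))))) (.node (.node (.node (.node (.node (.leaf [18]) (.leaf [50])) (.leaf [38])) (.node (.leaf [30]) (.leaf [42]))) (.node (.node (.leaf [28]) (.leaf [36])) (.node (.leaf [32]) (.leaf [48])))) (.node (.node (.node (.node (.leaf [26]) (.leaf [52])) (.leaf [44])) (.node (.leaf [36]) (.leaf [52]))) (.node (.node (.leaf [24]) (.leaf [46])) (.node (.leaf [42]) (.leaf [54])))))) (.node (.node (.node (.node (.node (.node (.leaf [12]) (.leaf [46])) (.leaf [42])) (.node (.leaf [34]) (.leaf [42]))) (.node (.node (.leaf [22]) (.leaf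 [40])) (.node (.leaf [32]) (.leaf [48])))) (.node (.node (.node (.node (.leaf [20]) (.leaf [48])) (.leaf [48])) (.node (.leaf [36]) (.leaf [48]))) (.node (.node (.leaf [28]) (.leaf [46])) (.node (.leaf [42]) (.leaf [54]))))) (.node (.node (.node (.node (.node (.leaf [14]) (.leaf [56])) (.leaf [44])) (.node (.leaf [26]) (.leaf [38]))) (.node (.node (.leaf [28]) (.leaf [50])) (.node (.leaf [42]) (.leaf [44])))) (.node (.node (.node (.node (.leaf [22]) (.leaf [58])) (.leaf [40])) (.node (.leaf [32]) (.leaf [52]))) (.node (.node (.leaf [30]) (.leaf [42])) (.node (.leaf [38]) (.leaf [50])))))))) (.node (.node (.node (.node (.node (.node (.node (.node (.leaf [8]) (.leaf [54])) (.leaf [38])) (.node (.leaf [34]) (.leaf [46]))) (.node (.node (.leaf [22]) (.leaf [40])) (.node (.leaf [36]) (.leaf [44])))) (.node (.node (.node (.node (.leaf [24]) (.leaf [56])) (.leaf [44])) (.node (.leaf [30]) (.leaf [52]))) (.node (.node (.leaf [28]) (.leaf [50])) (.node (.leaf [42]) (.leaf [48]))))) (.node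 (.node (.node (.node (.node (.leaf [22]) (.leaf [50])) (.leaf [38])) (.node (.leaf [30]) (.leaf [42]))) (.node (.node (.leaf [28]) (.leaf [36])) (.node (.leaf [32]) (.leaf [44])))) (.node (.node (.node (.node (.leaf [16]) (.leaf [56])) (.leaf [44])) (.node (.leaf [40]) (.leaf [52]))) (.node (.node (.leaf [24]) (.leaf [46])) (.node (.leaf [38]) (.leaf [50])))))) (.node (.node (.node (.node (.node (.node (.leaf [16]) (.leaf [54])) (.leaf [34])) (.node (.leaf [26]) (.leaf [42]))) (.node (.node (.leaf [18]) (.leaf [44])) (.node (.leaf [36]) (.leaf [48])))) (.node (.node (.node (.node (.leaf [20]) (.leaf [52])) (.leaf [40])) (.node (.leaf [32]) (.leaf [52]))) (.node (.node (.leaf [24]) (.leaf [46])) (.node (.leaf [38]) (.leaf [54]))))) (.node (.node (.node (.node (.node (.leaf [18]) (.leaf [60])) (.leaf [48])) (.node (.leaf [30]) (.leaf [42]))) (.node (.node (.leaf [28]) (.leaf [40])) (.node (.leaf [32]) (.leaf [48])))) (.node (.node (.node (.node (.leaf [22]) (.leaf [62])) (.leaf [44]))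 (.node (.leaf [32]) (.leaf [52]))) (.node (.node (.leaf [30]) (.leaf [42])) (.node (.leaf [42]) (.leaf [54]))))))) (.node (.node (.node (.node (.node (.node (.node (.leaf [10]) (.leaf [54])) (.leaf [34])) (.node (.leaf [34]) (.leaf [46]))) (.node (.node (.leaf [26]) (.leaf [40])) (.node (.leaf [32]) (.leaf [52])))) (.node (.node (.node (.node (.leaf [16]) (.leaf [56])) (.leaf [40])) (.node (.leaf [36]) (.leaf [48]))) (.node (.node (.leaf [28]) (.leaf [46])) (.node (.leaf [38]) (.leaf [58]))))) (.node (.node (.node (.node (.node (.leaf [14]) (.leaf [46])) (.leaf [38])) (.node (.leaf [30]) (.leaf [42]))) (.node (.node (.leaf [24]) (.leaf [40])) (.node (.leaf [36]) (.leaf [48])))) (.node (.node (.node (.node (.leaf [26]) (.leaf [62])) (.leaf [44])) (.node (.leaf [36]) (.leaf [48]))) (.node (.node (.leaf [38]) (.leaf [46])) (.node (.leaf [34]) (.leaf [54])))))) (.node (.node (.node (.node (.node (.node (.leaf [12]) (.leaf [50])) (.leaf [34])) (.node (.leaf [30]) (.leaf [46]))) (.node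 (.node (.leaf [18]) (.leaf [40])) (.node (.leaf [36]) (.leaf [48])))) (.node (.node (.node (.node (.leaf [16]) (.leaf [56])) (.leaf [40])) (.node (.leaf [36]) (.leaf [52]))) (.node (.node (.leaf [24]) (.leaf [46])) (.node (.leaf [38]) (.leaf [54]))))) (.node (.node (.node (.node (.node (.leaf [10]) (.leaf [60])) (.leaf [44])) (.node (.leaf [26]) (.leaf [42]))) (.node (.node (.leaf [28]) (.leaf [50])) (.node (.leaf [42]) (.leaf [48])))) (.node (.node (.node (.node (.leaf [22]) (.leaf [60])) (.leaf [40])) (.node (.leaf [36]) (.leaf [48]))) (.node (.node (.leaf [30]) (.leaf [42])) (.node (.leaf [38]) (.leaf [54])))))))))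

/-- the table -/
def table2 : Table where
  size := 576
  ngen := 2
  next g x := next2.get (2 * g + x)
  prev g x := prev2.get (2 * g + x)
  lab g x := lab2.get (2 * g + x)
  val g x := val2.get (2 * g + x)
  rank g x := rank2.get (2 * g + x)
  tree g := tree2.get g
  cert j := cert2.get j
  nded := 577
  rels := [⟨[(0, true), (0, true)], [], [1]⟩,
    ⟨[(1, true), (1, true), (1, true), (1, true), (1, true), (1, true)], [], [0, 1]⟩,
    ⟨[(1, true), (1, true), (1, true), (0, true), (1, true), (1, true), (1, true), (0, false), (1, false), (1, false), (1, false), (0, false)], [], [0, 0, 1]⟩,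
    ⟨[(1, true), (0, true), (1, true), (1, true), (0, true), (1, true), (0, true), (1, false), (0, false), (1, false), (1, false), (0, false), (1, false), (0, false)], [], [0, 0, 0, 1]⟩,
    ⟨[(1, true), (1, true), (0, true), (1, true), (0, true), (1, true), (1, true), (1, true), (0, false), (1, false), (0, false), (1, false), (1, false), (0, false)], [], [0, 0, 0, 0, 1]⟩]
  pot g := pot2.get g
  innerSize := 1
  innerGen := 0

/-- the level -/
def level2 : ChainLevel where
  table := table2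
  gexp := [[6, 0], [2, 0]]
  perm := [1436006291595934203595069567874568824675506653668068052181669287103166028835681836731950783248149646382729433649352784975593188717345276558401146357841811166988752145360743010343840478234005397270148965522042524313455332856171842930155862817082352370843955035219577349432126170105775379561459391465214302869208894362743481207098814274110887671618284979047789724786201482381755392, 155260792120333727207479398775031115622853292823175360157232350002429838119792877306023051468245204674098732601234735404627051491379122418644195260419163643741876038638479438335875742586468446912626265602694065498272359030168559376506420950933997691473649730764364424134432827412397074517807256519480149216784218424669647151327424814412530866377203803101216917696297886563697664]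
  pinv := [1436006291595934203595069567874568824675506653668068052181669287103166028835681836731950783248149646382729433649352784975593188717345276558401146357841811166988752145360743010343840478234005397270148965522042524313455332856171842930155862817082352370843955035219577349432126170105775379561459391465214302869208894362743481207098814274110887671618284979047789724786201482381755392, 97007186785537565056635755497656237878126711791896886170554227798282317109798778593156389488155314834768303425193789784489706781413674771875315318558416337767690235963919292542209369363358783617337995743021721290449388135530187899998911269578855845501070467491349110611918973737313154158173460424573513122243071741627358149168649816507820606720580471256861615542387552894845952]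
  defs := []
  eqs := [(0, 75, [0, 0, 2, 0, (-2)]),
    (0, 468, [(-1), 1, (-2)]),
    (2, 29, [0, 0, 0, (-1)])]
  pts := [23, 2]

end CfsgLib.Known.U43Mult
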