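import Mathlib
import Cfsg.Agent.Lib.Known.U43Mult.Level0
import Cfsg.Agent.Lib.Known.U43Mult.Level1
import Cfsg.Agent.Lib.Known.U43Mult.Level2
import Cfsg.Agent.Lib.Schur.LinCertMulti

/-!
# A chain of coset tables for PSU(4,3)
-/

set_option autoImplicit false
set_option maxRecDepth 100000
set_option maxHeartbeats 0
set_option Elab.async false

namespace CfsgLib.Known.U43Mult

open CfsgLib.Schur.Cert CfsgLib.Sporadic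

/-- the chain -/
def chain : List ChainLevel := [level0, level1, level2]

/-- the top generators as words -/
def top : List Word := (List.range 2).map fun j => [(j, true)]

/-- exponents of the relations -/
def rows : List Vec := [[12, 0], [12, 0], [0, 0], [0, 0], [0, 0], [2, 0], [12, 0], [0, 0], [(-16), 0], [(-11), 0], [(-7), 0], [(-8), 0], [(-14), 0], [2], [0, 5], [(-5), 5], [(-2), 2], [0, 2], [(-4), 0], [(-7), 0], [(-4), 0], [2, 1], [(-6), (-1)], [(-4), 0], [3, 3], [(-7), 0], [(-10), 0], [7, 2], [(-10), (-1)], [(-17), 2], [(-7), 0], [(-6), 0], [(-7), (-1)], [(-4), 0], [(-8), 5], [(-9), (-1)], [(-10), 0], [(-6), 0], [(-8), 5], [(-10), 2], [(-7), 1], [(-4), 4], [(-11), 1]]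

/-- the linear algebra -/
def lin : LinCertM where
  basis := [[1, 0, 0, 0, 0, 0, 0, 0, 0, 0, 0, 0, 0, 0, 0, 0, 0, 0, 0, 0, 0, 0, 0, 0, 0, 0, 0, 0, 0, 0, 0, 0, 0, 0, 0, 0, 0, 0, 0, 0, 117, (-12), (-69)], [0, 1, 0, 0, 0, 0, 0, 0, 0, 0, 0, 0, 0, 0, 0, 0, 0, 0, 0, 0, 0, 0, 0, 0, 0, 0, 0, 0, 0, 0, 0, 0, 0, 0, 0, 0, 0, 0, 0, 0, 117, (-12), (-69)], [0, 0, 1], [0, 0, 0, 1], [0, 0, 0, 0, 1, 0, 0, 0, 0, 0, 0, 0, 0, 0, 0, 0, 0, 0, 0, 0, 0, 0, 0, 0, 0, 0, 0, 0, 0, 0, 0, 0, 0, 0, 0, 0, 0, 0, 0, 0, 60, (-6), (-36)], [0, 0, 0, 0, 0, 1, 0, 0, 0, 0, 0, 0, 0, 0, 0, 0, 0, 0, 0, 0, 0, 0, 0, 0, 0, 0, 0, 0, 0, 0, 0, 0, 0, 0, 0, 0, 2, 0, 2, 0, 61, (-8), (-39)], [0, 0, 0, 0, 0, 0, 1, 0, 0, 0, 0, 0, 0, 0, 0, 0, 0, 0, 0, 0, 0, 0, 0, 0, 0, 0, 0, 0, 0, 0, 0, 0, 0, 0, 0, 0, 0, 0, 0, 0, 117, (-12), (-69)], [0, 0, 0, 0, 0, 0,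 0, 1, 0, 0, 0, 0, 0, 0, 0, 0, 0, 0, 0, 0, 0, 0, 0, 0, 0, 0, 0, 0, 0, 0, 0, 0, 0, 0, 0, 0, 0, 0, 0, 0, 60, (-6), (-36)], [0, 0, 0, 0, 0, 0, 0, 0, 1, 0, 0, 0, 0, 0, 0, 0, 0, 0, 0, 0, 0, 0, 0, 0, 0, 0, 0, 0, 0, 0, 0, 0, 0, 0, 0, 0, 1, 0, 2, 0, 53, (-7), (-35)], [0, 0, 0, 0, 0, 0, 0, 0, 0, 1, 0, 0, 0, 0, 0, 0, 0, 0, 0, 0, 0, 0, 0, 0, 0, 0, 0, 0, 0, 0, 0, 0, 0, 0, 0, 0, 1, 0, 3, 0, 30, (-6), (-21)], [0, 0, 0, 0, 0, 0, 0, 0, 0, 0, 1, 0, 0, 0, 0, 0, 0, 0, 0, 0, 0, 0, 0, 0, 0, 0, 0, 0, 0, 0, 0, 0, 0, 0, 0, 0, 0, 0, 1, 0, 40, (-5), (-25)], [0, 0, 0, 0, 0, 0, 0, 0, 0, 0, 0, 1, 0, 0, 0, 0, 0, 0, 0, 0, 0, 0, 0, 0, 0, 0, 0, 0, 0, 0, 0, 0, 0, 0, 0, 0, 2, 0, 0, 0, 47, (-4), (-31)], [0, 0, 0, 0, 0, 0, 0, 0, 0, 0, 0, 0, 1, 0, 0, 0, 0, 0, 0, 0, 0, 0, 0, 0, 0, 0, 0, 0, 0, 0, 0, 0, 0, 0, 0, 0, 2, 0, 2, 0, 75, (-9),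 (-49)], [0, 0, 0, 0, 0, 0, 0, 0, 0, 0, 0, 0, 0, 1, 0, 0, 0, 0, 0, 0, 0, 0, 0, 0, 0, 0, 0, 0, 0, 0, 0, 0, 0, 0, 0, 0, 2, 0, 2, 0, 61, (-8), (-39)], [0, 0, 0, 0, 0, 0, 0, 0, 0, 0, 0, 0, 0, 0, 1, 0, 0, 0, 0, 0, 0, 0, 0, 0, 0, 0, 0, 0, 0, 0, 0, 0, 0, 0, 0, 0, 1, 0, 1, 0, 47, (-7), (-29)], [0, 0, 0, 0, 0, 0, 0, 0, 0, 0, 0, 0, 0, 0, 0, 1, 0, 0, 0, 0, 0, 0, 0, 0, 0, 0, 0, 0, 0, 0, 0, 0, 0, 0, 0, 0, 2, 0, 2, 0, 49, (-8), (-32)], [0, 0, 0, 0, 0, 0, 0, 0, 0, 0, 0, 0, 0, 0, 0, 0, 1, 0, 0, 0, 0, 0, 0, 0, 0, 0, 0, 0, 0, 0, 0, 0, 0, 0, 0, 0, 0, 0, 0, 0, 85, (-9), (-51)], [0, 0, 0, 0, 0, 0, 0, 0, 0, 0, 0, 0, 0, 0, 0, 0, 0, 1, 0, 0, 0, 0, 0, 0, 0, 0, 0, 0, 0, 0, 0, 0, 0, 0, 0, 0, 2, 0, 2, 0, 26, (-5), (-18)], [0, 0, 0, 0, 0, 0, 0, 0, 0, 0, 0, 0, 0, 0, 0, 0, 0, 0, 1, 0, 0, 0, 0, 0, 0, 0, 0, 0, 0, 0, 0, 0, 0, 0, 0,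 0, 2, 0, 0, 0, 6, 0, (-6)], [0, 0, 0, 0, 0, 0, 0, 0, 0, 0, 0, 0, 0, 0, 0, 0, 0, 0, 0, 1, 0, 0, 0, 0, 0, 0, 0, 0, 0, 0, 0, 0, 0, 0, 0, 0, 2, 0, 1, 0, 35, (-4), (-24)], [0, 0, 0, 0, 0, 0, 0, 0, 0, 0, 0, 0, 0, 0, 0, 0, 0, 0, 0, 0, 1, 0, 0, 0, 0, 0, 0, 0, 0, 0, 0, 0, 0, 0, 0, 0, 2, 0, 0, 0, 6, 0, (-6)], [0, 0, 0, 0, 0, 0, 0, 0, 0, 0, 0, 0, 0, 0, 0, 0, 0, 0, 0, 0, 0, 1, 0, 0, 0, 0, 0, 0, 0, 0, 0, 0, 0, 0, 0, 0, 1, 0, 3, 0, 94, (-13), (-58)], [0, 0, 0, 0, 0, 0, 0, 0, 0, 0, 0, 0, 0, 0, 0, 0, 0, 0, 0, 0, 0, 0, 1, 0, 0, 0, 0, 0, 0, 0, 0, 0, 0, 0, 0, 0, 1, 0, 1, 0, 45, (-5), (-29)], [0, 0, 0, 0, 0, 0, 0, 0, 0, 0, 0, 0, 0, 0, 0, 0, 0, 0, 0, 0, 0, 0, 0, 1, 0, 0, 0, 0, 0, 0, 0, 0, 0, 0, 0, 0, 2, 0, 0, 0, 6, 0, (-6)], [0, 0, 0, 0, 0, 0, 0, 0, 0, 0, 0, 0, 0, 0, 0, 0, 0, 0, 0, 0, 0, 0, 0, 0, 1, 0, 0, 0, 0, 0, 0,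 0, 0, 0, 0, 0, 1, 0, 2, 0, 30, (-6), (-19)], [0, 0, 0, 0, 0, 0, 0, 0, 0, 0, 0, 0, 0, 0, 0, 0, 0, 0, 0, 0, 0, 0, 0, 0, 0, 1, 0, 0, 0, 0, 0, 0, 0, 0, 0, 0, 2, 0, 1, 0, 5, (-1), (-6)], [0, 0, 0, 0, 0, 0, 0, 0, 0, 0, 0, 0, 0, 0, 0, 0, 0, 0, 0, 0, 0, 0, 0, 0, 0, 0, 1, 0, 0, 0, 0, 0, 0, 0, 0, 0, 2, 0, 2, 0, 94, (-11), (-60)], [0, 0, 0, 0, 0, 0, 0, 0, 0, 0, 0, 0, 0, 0, 0, 0, 0, 0, 0, 0, 0, 0, 0, 0, 0, 0, 0, 1, 0, 0, 0, 0, 0, 0, 0, 0, 1, 0, 3, 0, 60, (-10), (-37)], [0, 0, 0, 0, 0, 0, 0, 0, 0, 0, 0, 0, 0, 0, 0, 0, 0, 0, 0, 0, 0, 0, 0, 0, 0, 0, 0, 0, 1, 0, 0, 0, 0, 0, 0, 0, 1, 0, 1, 0, 86, (-9), (-54)], [0, 0, 0, 0, 0, 0, 0, 0, 0, 0, 0, 0, 0, 0, 0, 0, 0, 0, 0, 0, 0, 0, 0, 0, 0, 0, 0, 0, 0, 1, 0, 0, 0, 0, 0, 0, 1, 0, 3, 0, 106, (-14), (-67)], [0, 0, 0, 0, 0, 0, 0, 0, 0, 0, 0, 0, 0, 0, 0, 0, 0, 0, 0, 0, 0, 0,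 0, 0, 0, 0, 0, 0, 0, 0, 1, 0, 0, 0, 0, 0, 0, 0, 1, 0, 70, (-8), (-43)], [0, 0, 0, 0, 0, 0, 0, 0, 0, 0, 0, 0, 0, 0, 0, 0, 0, 0, 0, 0, 0, 0, 0, 0, 0, 0, 0, 0, 0, 0, 0, 1, 0, 0, 0, 0, 0, 0, 2, 0, 58, (-8), (-36)], [0, 0, 0, 0, 0, 0, 0, 0, 0, 0, 0, 0, 0, 0, 0, 0, 0, 0, 0, 0, 0, 0, 0, 0, 0, 0, 0, 0, 0, 0, 0, 0, 1, 0, 0, 0, 0, 0, 2, 0, 41, (-6), (-26)], [0, 0, 0, 0, 0, 0, 0, 0, 0, 0, 0, 0, 0, 0, 0, 0, 0, 0, 0, 0, 0, 0, 0, 0, 0, 0, 0, 0, 0, 0, 0, 0, 0, 1, 0, 0, 2, 0, 0, 0, 6, 0, (-6)], [0, 0, 0, 0, 0, 0, 0, 0, 0, 0, 0, 0, 0, 0, 0, 0, 0, 0, 0, 0, 0, 0, 0, 0, 0, 0, 0, 0, 0, 0, 0, 0, 0, 0, 1, 0, 2, 0, 3, 0, 58, (-10), (-38)], [0, 0, 0, 0, 0, 0, 0, 0, 0, 0, 0, 0, 0, 0, 0, 0, 0, 0, 0, 0, 0, 0, 0, 0, 0, 0, 0, 0, 0, 0, 0, 0, 0, 0, 0, 1, 2, 0, 0, 0, 40, (-3), (-27)], [0, 0, 0, 0, 0, 0, 0, 0, 0, 0, 0, 0, 0, 0, 0,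 0, 0, 0, 0, 0, 0, 0, 0, 0, 0, 0, 0, 0, 0, 0, 0, 0, 0, 0, 0, 0, 0, 1, 2, 0, 58, (-8), (-36)], [0, 0, 0, 0, 0, 0, 0, 0, 0, 0, 0, 0, 0, 0, 0, 0, 0, 0, 0, 0, 0, 0, 0, 0, 0, 0, 0, 0, 0, 0, 0, 0, 0, 0, 0, 0, 0, 0, 0, 1, 57, (-6), (-35)], [0, 0, 0, 0, 0, 0, 0, 0, 0, 0, 0, 0, 0, 0, 0, 0, 0, 0, 0, 0, 0, 0, 0, 0, 0, 0, 0, 0, 0, 0, 0, 0, 0, 0, 0, 0, 3, 0, 2, 0, 34, (-5), (-24)], [0, 0, 0, 0, 0, 0, 0, 0, 0, 0, 0, 0, 0, 0, 0, 0, 0, 0, 0, 0, 0, 0, 0, 0, 0, 0, 0, 0, 0, 0, 0, 0, 0, 0, 0, 0, 4, 0, 4, 0, 63, (-10), (-43)], [0, 0, 0, 0, 0, 0, 0, 0, 0, 0, 0, 0, 0, 0, 0, 0, 0, 0, 0, 0, 0, 0, 0, 0, 0, 0, 0, 0, 0, 0, 0, 0, 0, 0, 0, 0, (-28), 0, (-28), 0, (-431), 69, 295], [0, 0, 0, 0, 0, 0, 0, 0, 0, 0, 0, 0, 0, 0, 0, 0, 0, 0, 0, 0, 0, 0, 0, 0, 0, 0, 0, 0, 0, 0, 0, 0, 0, 0, 0, 0, (-15), 0, (-15), 0, (-231), 37, 158], [0,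 0, 0, 0, 0, 0, 0, 0, 0, 0, 0, 0, 0, 0, 0, 0, 0, 0, 0, 0, 0, 0, 0, 0, 0, 0, 0, 0, 0, 0, 0, 0, 0, 0, 0, 0, 0, 0, 0, 0, 0, 0, 1]]
  dual := [[1], [0, 1], [0, 0, 1], [0, 0, 0, 1], [0, 0, 0, 0, 1], [0, 0, 0, 0, 0, 1], [0, 0, 0, 0, 0, 0, 1], [0, 0, 0, 0, 0, 0, 0, 1], [0, 0, 0, 0, 0, 0, 0, 0, 1], [0, 0, 0, 0, 0, 0, 0, 0, 0, 1], [0, 0, 0, 0, 0, 0, 0, 0, 0, 0, 1], [0, 0, 0, 0, 0, 0, 0, 0, 0, 0, 0, 1], [0, 0, 0, 0, 0, 0, 0, 0, 0, 0, 0, 0, 1], [0, 0, 0, 0, 0, 0, 0, 0, 0, 0, 0, 0, 0, 1], [0, 0, 0, 0, 0, 0, 0, 0, 0, 0, 0, 0, 0, 0, 1], [0, 0, 0, 0, 0, 0, 0, 0, 0, 0, 0, 0, 0, 0, 0, 1], [0, 0, 0, 0, 0, 0, 0, 0, 0, 0, 0, 0, 0, 0, 0, 0, 1], [0, 0, 0, 0, 0, 0, 0, 0, 0, 0, 0, 0, 0, 0, 0, 0, 0, 1], [0, 0, 0, 0, 0, 0, 0, 0, 0, 0, 0, 0, 0, 0, 0, 0, 0, 0, 1], [0, 0, 0, 0, 0, 0, 0, 0, 0, 0, 0, 0, 0, 0, 0, 0, 0, 0, 0, 1],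 [0, 0, 0, 0, 0, 0, 0, 0, 0, 0, 0, 0, 0, 0, 0, 0, 0, 0, 0, 0, 1], [0, 0, 0, 0, 0, 0, 0, 0, 0, 0, 0, 0, 0, 0, 0, 0, 0, 0, 0, 0, 0, 1], [0, 0, 0, 0, 0, 0, 0, 0, 0, 0, 0, 0, 0, 0, 0, 0, 0, 0, 0, 0, 0, 0, 1], [0, 0, 0, 0, 0, 0, 0, 0, 0, 0, 0, 0, 0, 0, 0, 0, 0, 0, 0, 0, 0, 0, 0, 1], [0, 0, 0, 0, 0, 0, 0, 0, 0, 0, 0, 0, 0, 0, 0, 0, 0, 0, 0, 0, 0, 0, 0, 0, 1], [0, 0, 0, 0, 0, 0, 0, 0, 0, 0, 0, 0, 0, 0, 0, 0, 0, 0, 0, 0, 0, 0, 0, 0, 0, 1], [0, 0, 0, 0, 0, 0, 0, 0, 0, 0, 0, 0, 0, 0, 0, 0, 0, 0, 0, 0, 0, 0, 0, 0, 0, 0, 1], [0, 0, 0, 0, 0, 0, 0, 0, 0, 0, 0, 0, 0, 0, 0, 0, 0, 0, 0, 0, 0, 0, 0, 0, 0, 0, 0, 1], [0, 0, 0, 0, 0, 0, 0, 0, 0, 0, 0, 0, 0, 0, 0, 0, 0, 0, 0, 0, 0, 0, 0, 0, 0, 0, 0, 0, 1], [0, 0, 0, 0, 0, 0, 0, 0, 0, 0, 0, 0, 0, 0, 0, 0, 0, 0, 0, 0, 0, 0, 0, 0, 0, 0, 0, 0, 0, 1], [0, 0, 0, 0, 0, 0, 0,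 0, 0, 0, 0, 0, 0, 0, 0, 0, 0, 0, 0, 0, 0, 0, 0, 0, 0, 0, 0, 0, 0, 0, 1], [0, 0, 0, 0, 0, 0, 0, 0, 0, 0, 0, 0, 0, 0, 0, 0, 0, 0, 0, 0, 0, 0, 0, 0, 0, 0, 0, 0, 0, 0, 0, 1], [0, 0, 0, 0, 0, 0, 0, 0, 0, 0, 0, 0, 0, 0, 0, 0, 0, 0, 0, 0, 0, 0, 0, 0, 0, 0, 0, 0, 0, 0, 0, 0, 1], [0, 0, 0, 0, 0, 0, 0, 0, 0, 0, 0, 0, 0, 0, 0, 0, 0, 0, 0, 0, 0, 0, 0, 0, 0, 0, 0, 0, 0, 0, 0, 0, 0, 1], [0, 0, 0, 0, 0, 0, 0, 0, 0, 0, 0, 0, 0, 0, 0, 0, 0, 0, 0, 0, 0, 0, 0, 0, 0, 0, 0, 0, 0, 0, 0, 0, 0, 0, 1], [0, 0, 0, 0, 0, 0, 0, 0, 0, 0, 0, 0, 0, 0, 0, 0, 0, 0, 0, 0, 0, 0, 0, 0, 0, 0, 0, 0, 0, 0, 0, 0, 0, 0, 0, 1], [0, 0, 0, 0, 0, 0, 0, 0, 0, 0, 0, 0, 0, 0, 0, 0, 0, 0, 0, 0, 0, 0, 0, 0, 0, 0, 0, 0, 0, 0, 0, 0, 0, 0, 0, 0, 0, 1], [0, 0, 0, 0, 0, 0, 0, 0, 0, 0, 0, 0, 0, 0, 0, 0, 0, 0, 0, 0, 0, 0, 0, 0, 0, 0, 0, 0, 0, 0, 0, 0, 0,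 0, 0, 0, 0, 0, 0, 1], [0, 0, 0, 0, 0, 0, 0, 0, 1, 2, 1, (-2), 0, 0, 0, 0, 0, 0, (-2), (-1), (-2), 2, 0, (-2), 1, (-1), 0, 2, 0, 2, 1, 2, 2, (-2), 1, (-2), 1, 2, (-1)], [(-81), (-81), 0, 0, (-42), (-21), (-81), (-42), (-19), 6, (-20), (-29), (-32), (-21), (-18), (-9), (-58), 5, 0, (-12), 0, (-37), (-22), 0, 1, 9, (-45), (-12), (-51), (-46), (-41), (-24), (-13), 0, (-7), (-25), (-3), (-24), (-5), (-39), 1, 3], [(-18), (-18), 0, 0, (-6), (-4), (-18), (-6), 6, 7, 1, 0, 3, (-4), (-32), (-28), (-19), (-11), 2, 2, 2, (-12), 6, 2, (-19), 5, (-1), (-17), 4, (-9), (-2), 0, 8, 2, (-26), 7, 5, 0, (-26), (-12), (-2), (-21)], [12, 12, 0, 0, 0, 2, 12, 0, (-16), (-11), (-7), (-8), (-14), 2, 55, 50, 20, 22, (-4), (-7), (-4), 13, (-17), (-4), 36, (-7), (-10), 29, (-21), 5, (-7), (-6), (-18), (-4), 47, (-20), (-10),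 (-6), 47, 12, 4, 40], [0, 0, 0, 0, 0, 0, 0, 0, 0, 0, 0, 0, 0, 0, 5, 5, 2, 2, 0, 0, 0, 1, (-1), 0, 3, 0, 0, 2, (-1), 2, 0, 0, (-1), 0, 5, (-1), 0, 0, 5, 2, 1, 4, 1]]
  kind := [(false, 1, [(-997), 120, (-16), (-123), 50, (-86), 5, 153, (-43), (-12), 0, (-98), 31, (-203), 12, 156, (-62), 62, (-32), (-146), 298, (-15), (-3), 0, (-574), 500, (-131), 423, (-12), (-117), 31, 19889, (-124), (-8719), 68, (-21585), (-15791), (-2827), 108, 6572, 28226, 139218]), (false, 1, [1117, (-734), (-72), (-123), 50, (-86), (-51), 209, (-43), (-12), 0, (-98), 31, (-259), 12, (-12), (-62), 62, (-144), (-34), (-374), 209, 249, 0, 1470, (-536), (-355), (-529), (-12), (-117), 31, (-19901), 2648, 11301, (-2452), 17143, 22235, 8821, (-3392), (-6590), (-42451), (-222690)]), (false, 1, [0, 0, 0, 0, 0, 0, 0, 0, 0, 0, 0, 0, 0,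 0, 0, 0, 0, 0, 0, 0, 0, 0, 0, 0, 0, 0, 0, 0, 0, 0, 0, (-1), 0, 0, 0, 2, 1, 0, 0, (-1), (-3), (-4)]), (false, 1, [0, 0, 0, 0, 0, 0, 0, 0, 0, 0, 0, 0, 0, 0, 0, 0, 0, 0, 0, 0, 0, 0, 0, 0, 0, 0, 0, 0, 0, 0, 0, 0, 0, 0, 0, 0, 0, 0, 0, 0, 0, (-1)]), (false, 1, [(-1593), 500, 21, (-64), 26, (-44), 32, 48, (-22), (-6), 0, (-50), 16, (-74), 6, 166, (-32), 32, 42, (-134), 500, (-124), (-132), 0, (-1348), 788, 50, 708, (-6), (-60), 16, 30815, (-1503), (-14813), 1336, (-31152), (-27793), (-7480), 1876, 10172, 51077, 258561]), (false, 1, [(-1341), 393, 13, (-81), 24, (-52), 35, 55, (-25), (-10), 0, (-56), 21, (-87), 6, 158, (-38), 36, 26, (-142), 442, (-103), (-103), 0, (-1128), 688, 15, 621, (-8), (-69), 19, 28128, (-1192), (-13111), 997, (-29060), (-24805), (-6315), 1534, 9462, 45746, 226971]), (false, 1, [1117,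 (-734), (-72), (-123), 50, (-86), (-51), 209, (-43), (-12), 0, (-98), 31, (-259), 12, (-12), (-62), 62, (-144), (-34), (-374), 209, 249, 0, 1470, (-536), (-355), (-529), (-12), (-117), 31, (-19902), 2648, 11301, (-2452), 17143, 22235, 8821, (-3392), (-6590), (-42451), (-222690)]), (false, 1, [(-687), 134, (-3), (-64), 26, (-44), 8, 72, (-22), (-6), 0, (-50), 16, (-98), 6, 94, (-32), 32, (-6), (-86), 212, (-28), (-24), 0, (-472), 344, (-46), 300, (-6), (-60), 16, 13764, (-315), (-6233), 256, (-14559), (-11498), (-2488), 376, 4534, 20792, 103464]), (false, 1, [677, (-401), (-37), (-74), 21, (-46), (-16), 94, (-22), (-9), 0, (-49), 19, (-123), 5, (-7), (-34), 32, (-74), (-31), (-194), 102, 128, 0, 787, (-299), (-180), (-281), (-7), (-61), 17, (-9591), 1346, 5821, (-1319), 7774, 11035, 4532, (-1664),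 (-3028), (-20787), (-113751)]), (false, 1, [694, (-357), (-31), (-56), 9, (-33), (-9), 63, (-15), (-9), 0, (-33), 15, (-84), 3, (-17), (-24), 21, (-62), (-18), (-192), 86, 110, 0, 731, (-300), (-145), (-279), (-6), (-42), 12, (-9668), 1167, 5703, (-1162), 8077, 10666, 4134, (-1412), (-2927), (-19762), (-108945)]), (false, 1, [(-896), 265, 9, (-51), 16, (-33), 22, 36, (-16), (-6), 0, (-36), 13, (-56), 4, 104, (-24), 23, 18, (-91), 292, (-69), (-69), 0, (-752), 457, 12, 411, (-5), (-44), 12, 18485, (-802), (-8668), 677, (-19022), (-16358), (-4204), 1023, 6189, 30131, 150138]), (false, 1, [(-688), 171, 4, (-53), 22, (-34), 13, 45, (-17), (-4), 0, (-38), 13, (-67), 4, 84, (-26), 26, 8, (-82), 226, (-43), (-43), 0, (-544), 346, (-9), 317, (-4), (-47), 13, 14515, (-519), (-6641), 428, (-15105), (-12565),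 (-3030), 654, 4725, 22896, 113872]), (false, 1, [(-611), 68, (-10), (-98), 31, (-62), 15, 91, (-30), (-11), 0, (-67), 25, (-130), 7, 109, (-46), 44, (-20), (-119), 216, (-19), (-6), 0, (-395), 335, (-84), 299, (-9), (-83), 23, 15162, (-146), (-6352), 23, (-16756), (-12015), (-2149), 216, 5135, 21839, 103207]), (false, 1, [(-1342), 393, 13, (-81), 24, (-52), 35, 55, (-25), (-10), 0, (-56), 21, (-87), 6, 158, (-38), 36, 26, (-142), 442, (-103), (-103), 0, (-1128), 688, 15, 621, (-8), (-69), 19, 28128, (-1192), (-13111), 997, (-29060), (-24805), (-6315), 1534, 9462, 45746, 226971]), (false, 1, [(-1152), 352, 13, (-66), 18, (-42), 32, 38, (-19), (-8), 0, (-44), 18, (-64), 4, 135, (-30), 28, 26, (-122), 384, (-95), (-94), 0, (-994), 596, 23, 540, (-7), (-54), 15, 24518, (-1085), (-11419), 897, (-25333),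 (-21726), (-5591), 1417, 8332, 40273, 198884]), (false, 1, [(-583), 117, (-3), (-76), 18, (-47), 22, 54, (-21), (-10), 0, (-48), 21, (-84), 4, 96, (-34), 31, (-6), (-104), 215, (-37), (-26), 0, (-454), 329, (-43), 298, (-8), (-60), 17, 14916, (-342), (-6388), 193, (-16279), (-12305), (-2558), 505, 5250, 22875, 107498]), (false, 1, [(-924), 171, (-6), (-93), 36, (-64), 11, 103, (-31), (-9), 0, (-72), 24, (-141), 8, 132, (-46), 46, (-12), (-123), 288, (-36), (-28), 0, (-627), 470, (-73), 408, (-9), (-86), 23, 18974, (-387), (-8479), 297, (-20227), (-15700), (-3289), 466, 6319, 28496, 140388]), (false, 1, [342, (-204), (-20), (-46), 8, (-28), (-3), 48, (-12), (-7), 0, (-28), 13, (-66), 2, 4, (-20), 18, (-40), (-27), (-88), 49, 65, 0, 387, (-136), (-98), (-129), (-5), (-35), 10, (-3797), 683, 2624, (-698),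 2577, 4825, 2216, (-812), (-1001), (-8837), (-52001)]), (false, 1, [(-158), 54, 4, (-8), 4, (-4), 5, (-1), (-2), 0, 0, (-4), 2, (-3), 0, 14, (-4), 4, 8, (-18), 59, (-16), (-18), 0, (-156), 79, 14, 81, 0, (-6), 2, 3720, (-207), (-1711), 172, (-3781), (-3390), (-932), 270, 1186, 6245, 30936]), (false, 1, [921, (-454), (-36), (-46), 15, (-29), (-24), 72, (-14), (-5), 0, (-31), 12, (-91), 3, (-46), (-22), 21, (-72), 6, (-279), 118, 139, 0, 973, (-434), (-164), (-399), (-4), (-39), 11, (-15365), 1496, 8362, (-1412), 13993, 15842, 5575, (-1866), (-5031), (-29659), (-156268)]), (false, 1, [(-125), 40, 3, (-8), 4, (-4), 4, 0, (-2), 0, 0, (-4), 2, (-4), 0, 12, (-4), 4, 6, (-16), 47, (-12), (-14), 0, (-122), 63, 10, 65, 0, (-6), 2, 3039, (-159), (-1375), 131, (-3114), (-2744), (-736), 210, 959, 5046, 24821]),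 (false, 1, [(-516), (-28), (-24), (-122), 35, (-81), 9, 135, (-39), (-16), 0, (-88), 32, (-183), 10, 122, (-58), 55, (-48), (-129), 174, 12, 34, 0, (-204), 297, (-155), 242, (-13), (-107), 29, 13113, 288, (-5115), (-368), (-15283), (-9328), (-883), (-340), 4647, 16790, 75919]), (false, 1, [1811, (-838), (-60), (-70), 24, (-37), (-40), 91, (-18), (-6), 0, (-36), 16, (-123), 3, (-105), (-33), 26, (-120), 27, (-543), 209, 246, (-1), 1834, (-862), (-261), (-781), (-5), (-50), 15, (-30337), 2692, 16263, (-2566), 27969, 30536, 10359, (-3267), (-9796), (-56827), (-299130)]), (false, 1, [(-1452), 576, 38, (-8), 4, (-4), 39, (-35), (-2), 0, 0, (-4), 2, 31, 0, 117, (-4), 4, 76, (-86), 469, (-152), (-172), 0, (-1404), 712, 151, 662, 0, (-6), 2, 27953, (-1895), (-13915), 1712, (-27363), (-26554), (-8029), 2400,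 9214, 49317, 251541]), (false, 1, [(-1487), 521, 25, (-49), 8, (-32), 42, 13, (-14), (-8), 0, (-33), 14, (-31), 3, 154, (-22), 20, 50, (-123), 485, (-138), (-144), 0, (-1348), 761, 78, 685, (-6), (-40), 11, 30125, (-1619), (-14462), 1409, (-30483), (-27456), (-7595), 2078, 10252, 51109, 255437]), (false, 1, [477, (-203), (-13), (-15), 2, (-7), (-7), 15, (-3), (-2), 0, (-6), 4, (-21), 0, (-30), (-6), 5, (-27), 7, (-134), 48, 57, 0, 447, (-220), (-57), (-194), (-1), (-9), 3, (-7360), 615, 4003, (-602), 6775, 7373, 2466, (-744), (-2380), (-13633), (-72805)]), (false, 1, [545, (-446), (-48), (-117), 39, (-76), (-20), 152, (-37), (-13), 0, (-83), 30, (-199), 9, 29, (-56), 54, (-96), (-71), (-158), 120, 152, 0, 793, (-231), (-247), (-230), (-11), (-102), 28, (-6684), 1583, 4822, (-1546), 4163, 9374, 4726,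 (-1977), (-2061), (-18066), (-101794)]), (false, 1, [670, (-427), (-44), (-85), 20, (-56), (-17), 117, (-26), (-13), 0, (-60), 23, (-150), 7, 5, (-39), 37, (-88), (-37), (-202), 114, 144, 0, 841, (-291), (-216), (-290), (-10), (-73), 20, (-9909), 1531, 6078, (-1479), 7763, 11753, 5002, (-1902), (-2906), (-21980), (-121164)]), (false, 1, [(-1319), 322, (-1), (-81), 32, (-64), 11, 115, (-31), (-9), 1, (-76), 23, (-148), 10, 160, (-44), 48, (-2), (-123), 385, (-60), (-62), 0, (-951), 657, (-58), 555, (-9), (-88), 22, 23971, (-756), (-11291), 746, (-24709), (-20550), (-4871), 813, 7949, 37451, 189914]), (false, 1, [(-1388), 301, (-2), (-142), 43, (-89), 37, 117, (-43), (-17), 0, (-96), 36, (-174), 11, 200, (-66), 62, (-4), (-198), 469, (-81), (-67), 0, (-1047), 730, (-71), 654, (-14), (-119), 33, 31132,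 (-836), (-13844), 595, (-33268), (-26156), (-5779), 1124, 10625, 48051, 233074]), (false, 1, [(-335), (-34), (-17), (-82), 29, (-55), 1, 97, (-27), (-9), 0, (-61), 21, (-130), 7, 78, (-40), 39, (-34), (-84), 107, 15, 28, 0, (-107), 184, (-109), 150, (-8), (-74), 20, 8053, 250, (-3110), (-281), (-9425), (-5578), (-389), (-318), 2752, 9825, 44968]), (false, 1, [(-1133), 313, 7, (-76), 22, (-50), 28, 60, (-24), (-10), 0, (-54), 20, (-90), 6, 140, (-36), 34, 14, (-124), 368, (-80), (-77), 0, (-917), 583, (-8), 518, (-8), (-66), 18, 23559, (-900), (-10918), 747, (-24514), (-20530), (-5064), 1157, 8004, 37858, 187313]), (false, 1, [(-659), 158, (-1), (-56), 13, (-38), 17, 53, (-18), (-9), 0, (-41), 15, (-74), 5, 92, (-26), 25, (-2), (-81), 212, (-39), (-33), 0, (-495), 346, (-32), 299, (-7), (-49), 13,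 13906, (-406), (-6317), 315, (-14738), (-11764), (-2677), 517, 4809, 21686, 105933]), (false, 1, [(-881), 346, 23, (-8), 4, (-4), 24, (-20), (-2), 0, 0, (-4), 2, 16, 0, 72, (-4), 4, 46, (-56), 288, (-92), (-104), 0, (-854), 433, 90, 406, 0, (-6), 2, 17272, (-1149), (-8539), 1032, (-16968), (-16344), (-4900), 1460, 5667, 30316, 154297]), (false, 1, [(-1061), 285, 6, (-95), 21, (-57), 39, 53, (-26), (-13), 0, (-58), 26, (-90), 5, 146, (-42), 37, 12, (-148), 377, (-85), (-75), 0, (-897), 574, (-13), 524, (-10), (-73), 21, 25045, (-891), (-11218), 653, (-26585), (-21538), (-5113), 1230, 8713, 40071, 192904]), (false, 1, [(-477), 105, 3, (-50), 21, (-29), 13, 31, (-15), (-3), 0, (-31), 12, (-52), 2, 62, (-24), 22, 6, (-73), 171, (-32), (-30), 0, (-385), 243, (-7), 235, (-3), (-40), 12, 11356, (-374),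 (-5021), 266, (-12017), (-9718), (-2254), 510, 3677, 17688, 86311]), (false, 1, [(-418), 24, (-12), (-76), 22, (-50), 9, 79, (-24), (-10), 0, (-54), 20, (-109), 6, 83, (-36), 34, (-24), (-86), 141, (-4), 8, 0, (-226), 233, (-84), 196, (-8), (-66), 18, 10095, 37, (-4143), (-103), (-11409), (-7664), (-1123), (-28), 3551, 13956, 64866]), (false, 1, [378, (-290), (-31), (-59), 24, (-42), (-21), 99, (-21), (-6), 0, (-48), 15, (-123), 6, 7, (-30), 31, (-62), (-24), (-130), 85, 102, 0, 556, (-179), (-157), (-183), (-6), (-58), 15, (-6650), 1079, 3954, (-994), 5400, 7928, 3405, (-1392), (-2191), (-15294), (-80596)]), (false, 1, [(-986), 316, 14, (-53), 13, (-32), 31, 21, (-15), (-7), 0, (-33), 14, (-42), 3, 111, (-24), 22, 28, (-103), 336, (-87), (-89), 0, (-881), 511, 35, 470, (-5), (-42), 12, 21356, (-1015),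 (-9974), 845, (-21967), (-19080), (-5025), 1326, 7213, 35371, 174845]), (false, 3, [(-3262), 849, 14, (-297), 68, (-182), 113, 189, (-85), (-42), 0, (-188), 79, (-305), 18, 450, (-134), 122, 28, (-452), 1150, (-243), (-219), 0, (-2710), 1760, (-65), 1599, (-30), (-237), 67, 76234, (-2609), (-34138), 1946, (-80873), (-65295), (-15355), 3534, 26239, 120962, 584461]), (false, 12, [91170, (-23992), (-430), 8188, (-1852), 5008, (-3180), (-5116), 2336, 1164, 0, 5164, (-2180), 8312, (-492), (-12508), 3688, (-3352), (-860), 12548, (-32160), 6876, 6228, 0, 76104, (-49184), 1600, (-44716), 828, 6516, (-1844), (-2129760), 74006, 954838, (-55416), 2257456, 1826992, 431620, (-100200), (-733145), (-3385736), (-16364778)]), (true, 1, [1, 11]), (true, 1, [0, 1])]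

end CfsgLib.Known.U43Mult
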