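import Mathlib
import Cfsg.Agent.Lib.Known.U43Mult.Data

/-!
# Checks of table 0
-/

set_option autoImplicit false
set_option maxRecDepth 100000
set_option maxHeartbeats 0
set_option Elab.async false

namespace CfsgLib.Known.U43Mult

open CfsgLib.Schur.Cert CfsgLib.Sporadic

theorem shape0 : shapeOK (chainRels chain top) rows level0 [level1, level2] (top) = true := by decide +kernel

theorem deds0 : dedsOK level0 [level1, level2] = true := by
  have h : List.range level0.table.nded = List.range' 0 16 ++ List.range' 16 16 ++ List.range' 32 16 ++ List.range' 48 16 ++ List.range' 64 16 ++ List.range' 80 16 ++ List.range' 96 16 ++ List.range' 112 15 := by decide +kernel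
  simp only [dedsOK, h, List.all_append, Bool.and_eq_true]
  repeat' apply And.intro
  all_goals decide +kernel

theorem eqns0 : eqnsOK level0 [level1, level2] = true := by
  have h : List.range level0.eqs.length = List.range' 0 4 ++ List.range' 4 4 ++ List.range' 8 4 ++ List.range' 12 4 ++ List.range' 16 4 ++ List.range' 20 4 ++ List.range' 24 4 ++ List.range' 28 3 := by decide +kernel
  simp only [eqnsOK, h, List.all_append, Bool.and_eq_true]
  repeat' apply And.intro
  all_goals decide +kernel

end CfsgLib.Known.U43Mult
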