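import Mathlib
import Cfsg.Agent.Lib.Known.U43Mult.Data

/-!
# Checks of table 1
-/

set_option autoImplicit false
set_option maxRecDepth 100000
set_option maxHeartbeats 0
set_option Elab.async false

namespace CfsgLib.Known.U43Mult

open CfsgLib.Schur.Cert CfsgLib.Sporadic

theorem shape1 : shapeOK (chainRels chain top) rows level1 [level2] (nextWords (top) level0) = true := by decide +kernel

theorem deds1 : dedsOK level1 [level2] = true := by
  have h : List.range level1.table.nded = List.range' 0 24 ++ List.range' 24 22 := by decide +kernel
  simp only [dedsOK, h, List.all_append, Bool.and_eq_true]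
  repeat' apply And.intro
  all_goals decide +kernel

theorem eqns1 : eqnsOK level1 [level2] = true := by
  have h : List.range level1.eqs.length = List.range' 0 3 ++ List.range' 3 3 ++ List.range' 6 2 := by decide +kernel
  simp only [eqnsOK, h, List.all_append, Bool.and_eq_true]
  repeat' apply And.intro
  all_goals decide +kernel

end CfsgLib.Known.U43Mult
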