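import Mathlib
import Cfsg.Agent.Lib.Known.U43Mult.Data

/-!
# Checks of table 2
-/

set_option autoImplicit false
set_option maxRecDepth 100000
set_option maxHeartbeats 0
set_option Elab.async false

namespace CfsgLib.Known.U43Mult

open CfsgLib.Schur.Cert CfsgLib.Sporadic

theorem shape2 : shapeOK (chainRels chain top) rows level2 [] (nextWords (nextWords (top) level0) level1) = true := by decide +kernel

theorem deds2 : dedsOK level2 [] = true := by
  have h : List.range level2.table.nded = List.range' 0 80 ++ List.range' 80 80 ++ List.range' 160 80 ++ List.range' 240 80 ++ List.range' 320 80 ++ List.range' 400 80 ++ List.range' 480 80 ++ List.range' 560 17 := by decide +kernel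
  simp only [dedsOK, h, List.all_append, Bool.and_eq_true]
  repeat' apply And.intro
  all_goals decide +kernel

theorem eqns2 : eqnsOK level2 [] = true := by
  have h : List.range level2.eqs.length = List.range' 0 1 ++ List.range' 1 1 ++ List.range' 2 1 := by decide +kernel
  simp only [eqnsOK, h, List.all_append, Bool.and_eq_true]
  repeat' apply And.intro
  all_goals decide +kernel

end CfsgLib.Known.U43Mult
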