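import Mathlib
import Cfsg.Agent.Lib.Known.U43Mult.Check0
import Cfsg.Agent.Lib.Known.U43Mult.Check1
import Cfsg.Agent.Lib.Known.U43Mult.Check2

/-!
# All checks of the chain
-/

set_option autoImplicit false
set_option maxRecDepth 100000
set_option maxHeartbeats 0
set_option Elab.async false

namespace CfsgLib.Known.U43Mult

open CfsgLib.Schur.Cert CfsgLib.Sporadic

theorem perms_check : permsOKN 126 chain = true := by
  simp only [permsOKN, chain]
  rw [← List.take_append_drop 8 level0.table.rels, ← List.take_append_drop 8 (level0.table.rels.drop 8),
    ← List.take_append_drop 8 ((level0.table.rels.drop 8).drop 8)]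
  simp only [List.all_append, Bool.and_eq_true]
  repeat' apply And.intro
  all_goals decide +kernel

theorem rows_check : rows = relRows (chainRels chain top) ∧ chainExp chain = top.map (wexp vunit) := by decide +kernel

theorem lastWords : (nextWords (nextWords (nextWords (top) level0) level1) level2).isEmpty = true := by decide +kernel

theorem tables_check : tablesOK (chainRels chain top) rows chain top = true := by
  show tablesOK (chainRels chain top) rows [level0, level1, level2] top = true
  simp only [tablesOK, shape0, deds0, eqns0, shape1, deds1, eqns1, shape2, deds2, eqns2, lastWords, Bool.and_self]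

theorem lin_check : lin.ok rows 2 (chainEqns chain) = true := by
  have h1 : List.range rows.length = List.range' 0 22 ++ List.range' 22 21 := by decide +kernel
  have h2 : List.range lin.basis.length = List.range' 0 22 ++ List.range' 22 21 := by decide +kernel
  simp only [LinCertM.ok, h1, h2, List.all_append, Bool.and_eq_true]
  repeat' apply And.intro
  all_goals decide +kernel

theorem size_check : chainSize chain = 3265920 ∧ chainGen chain = 2 ∧ (chainPerm chain).length = 2 ∧
    lin.bound = 36 := by decide +kernel

end CfsgLib.Known.U43Mult
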