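import Mathlib
import Cfsg.Prelude.Def_Classical
import Cfsg.Agent.Lib.Classical.SmallOrtho.UnitarySix
import Cfsg.Agent.Lib.Classical.Unitary.MatrixStructure
import Cfsg.Agent.Lib.Classical.Unitary.Two
import Cfsg.Agent.Lib.Known.U43Mult.Checks
import Cfsg.Agent.Lib.Known.U43Mult.PointData

/-!
# PSU(4,3) as a permutation group on 126 points of an orthogonal space

The orthogonal group of minus type in dimension six over three elements permutes the 126 pairs of vectors of
value one; the centre of its commutator subgroup acts trivially.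
-/

set_option autoImplicit false
set_option maxRecDepth 100000
set_option maxHeartbeats 0

namespace CfsgLib.Known.U43Mult

open Cfsg CfsgLib.Schur.Cert CfsgLib.Sporadic
open Matrix
open scoped commutatorElement

/-- coordinates -/
abbrev Ix : Type := (Fin 2 ⊕ Fin 2) ⊕ Fin 2

/-- the form -/
abbrev Qf : (Ix → ZMod 3) → ZMod 3 := quadFormMinus 2 (ZMod 3) 0 1

/-- the isometries -/
abbrev Isom : Subgroup (GL Ix (ZMod 3)) := isometryGroup (ZMod 3) Qf

/-- the position of a coordinate -/
def pos : Ix → ℕ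
  | .inl (.inl i) => i
  | .inl (.inr i) => 2 + i
  | .inr i => 4 + i

/-- a vector from six coordinates -/
def mk6 (a b c d e f : ZMod 3) : Ix → ZMod 3
  | .inl (.inl i) => bif i.1 == 0 then a else b
  | .inl (.inr i) => bif i.1 == 0 then c else d
  | .inr i => bif i.1 == 0 then e else f

theorem mk6_eta (v : Ix → ZMod 3) : mk6 (v (.inl (.inl 0))) (v (.inl (.inl 1))) (v (.inl (.inr 0)))
    (v (.inl (.inr 1))) (v (.inr 0)) (v (.inr 1)) = v := by
  funext k
  rcases k with (i | i) | i <;> fin_cases i <;> rfl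

theorem forall_vec {P : (Ix → ZMod 3) → Prop} (h : ∀ a b c d e f, P (mk6 a b c d e f)) (v : Ix → ZMod 3) : P v :=
  mk6_eta v ▸ h _ _ _ _ _ _

/-- the representative of a point -/
def pt (i : ℕ) (k : Ix) : ZMod 3 := ((Nat.land (Nat.shiftRight ptCode (10 * i)) 1023 / 3 ^ pos k : ℕ) : ZMod 3)

/-- the code of a vector -/
def code (v : Ix → ZMod 3) : ℕ :=
  (v (.inl (.inl 0))).val + 3 * (v (.inl (.inl 1))).val + 9 * (v (.inl (.inr 0))).val +
    27 * (v (.inl (.inr 1))).val + 81 * (v (.inr 0)).val + 243 * (v (.inr 1)).val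

/-- the point of a vector -/
def ix (v : Ix → ZMod 3) : ℕ := Nat.land (Nat.shiftRight ptIdx (10 * code v)) 1023

theorem pt_check : ∀ i : Fin 126, Qf (pt i) = 1 ∧ ix (pt i) = i := by decide +kernel

theorem vec_check : ∀ a b c d e f : ZMod 3, Qf (mk6 a b c d e f) = 1 →
    ix (mk6 a b c d e f) < 126 ∧ ix (-mk6 a b c d e f) = ix (mk6 a b c d e f) ∧
      (pt (ix (mk6 a b c d e f)) = mk6 a b c d e f ∨ pt (ix (mk6 a b c d e f)) = -mk6 a b c d e f) := by
  decide +kernel

theorem vec_spec (v : Ix → ZMod 3) (hv : Qf v = 1) :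
    ix v < 126 ∧ ix (-v) = ix v ∧ (pt (ix v) = v ∨ pt (ix v) = -v) := by
  revert hv
  exact forall_vec (P := fun v => Qf v = 1 → ix v < 126 ∧ ix (-v) = ix v ∧ (pt (ix v) = v ∨ pt (ix v) = -v))
    vec_check v

theorem isom_apply (g : Isom) (v : Ix → ZMod 3) :
    Qf (((g : GL Ix (ZMod 3)) : Matrix Ix Ix (ZMod 3)) *ᵥ v) = Qf v := g.2 v v

/-- the image of a point -/
def img (g : Isom) (i : Fin 126) : Fin 126 :=
  ⟨ix (((g : GL Ix (ZMod 3)) : Matrix Ix Ix (ZMod 3)) *ᵥ pt i),
    (vec_spec _ ((isom_apply g _).trans (pt_check i).1)).1⟩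

theorem img_one (i : Fin 126) : img 1 i = i := Fin.ext (by
  show ix (((1 : GL Ix (ZMod 3)) : Matrix Ix Ix (ZMod 3)) *ᵥ pt i) = i
  rw [Units.val_one, Matrix.one_mulVec]
  exact (pt_check i).2)

theorem img_mul (g h : Isom) (i : Fin 126) : img (g * h) i = img g (img h i) := Fin.ext (by
  have hv := (isom_apply h _).trans (pt_check i).1
  obtain ⟨-, -, h3⟩ := vec_spec _ hv
  show ix ((((g * h : Isom) : GL Ix (ZMod 3)) : Matrix Ix Ix (ZMod 3)) *ᵥ pt i) =
    ix (((g : GL Ix (ZMod 3)) : Matrix Ix Ix (ZMod 3)) *ᵥ pt (img h i))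
  rw [Subgroup.coe_mul, Units.val_mul, ← Matrix.mulVec_mulVec]
  show _ = ix (_ *ᵥ pt (ix _))
  rcases h3 with e | e <;> rw [e]
  rw [Matrix.mulVec_neg]
  exact (vec_spec _ ((isom_apply g _).trans hv)).2.1.symm)

/-- the action on the points -/
def ptPerm : Isom →* Equiv.Perm (Fin 126) where
  toFun g :=
    { toFun := img g
      invFun := img g⁻¹
      left_inv := fun i => by rw [← img_mul, inv_mul_cancel, img_one]
      right_inv := fun i => by rw [← img_mul, mul_inv_cancel, img_one] }
  map_one' := Equiv.ext img_one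
  map_mul' g h := Equiv.ext fun i => img_mul g h i

/-- the action of the commutator subgroup -/
def omegaPerm : Omega (ZMod 3) Qf →* Equiv.Perm (Fin 126) := ptPerm.comp (Omega (ZMod 3) Qf).subtype

/-- the matrices -/
def mat (k : ℕ) : Matrix Ix Ix (ZMod 3) :=
  Matrix.of fun i j => (((mats.getD k []).getD (6 * pos i + pos j) 0 : ℕ) : ZMod 3)

theorem mat_inv : ∀ k : Fin 4, mat k * mat (k + 4) = 1 ∧ mat (k + 4) * mat k = 1 := by decide +kernel

theorem mat_isom : ∀ k : Fin 4, ∀ a b c d e f : ZMod 3,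
    Qf (mat k *ᵥ mk6 a b c d e f) = Qf (mk6 a b c d e f) := by
  intro k a b
  fin_cases k <;> fin_cases a <;> fin_cases b <;> decide +kernel

/-- the matrices as isometries -/
def iso (k : Fin 4) : Isom :=
  ⟨⟨mat k, mat (k + 4), (mat_inv k).1, (mat_inv k).2⟩, fun u _ =>
    forall_vec (P := fun u => Qf (mat k *ᵥ u) = Qf u) (mat_isom k) u⟩

theorem matPerms_check : ∀ k : Fin 4, ∀ x : Fin 126,
    pgetN (matPerms.getD k 0) x = ix (mat k *ᵥ pt x) ∧
      pgetN (matPerms.getD (k + 4) 0) x = ix (mat (k + 4) *ᵥ pt x) := by decide +kernel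

theorem rep_iso (k : Fin 4) : RepN (ptPerm (iso k)) (matPerms.getD k 0) ∧
    RepN (ptPerm (iso k))⁻¹ (matPerms.getD (k + 4) 0) :=
  ⟨fun x => (matPerms_check k x).1, fun x => by rw [← map_inv]; exact (matPerms_check k x).2⟩

/-- the packed generators and their inverses -/
noncomputable abbrev gperm : List ℕ := chainPerm chain

/-- the inverses -/
noncomputable abbrev ginv : List ℕ := (chain.head?.map ChainLevel.pinv).getD []

/-- words of the generators in the four matrices -/
def genWord (j : ℕ) : Word :=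
  bif j == 0 then [(0, true), (1, true), (0, false), (1, false)] else [(2, true), (3, true), (2, false), (3, false)]

theorem genWord_check : ∀ j : Fin 2, (genWord j).all (fun l => decide (l.1 < 4)) = true ∧
    ∀ x : Fin 126, wordImgN ((List.range 4).map fun k => matPerms.getD k 0)
      ((List.range 4).map fun k => matPerms.getD (k + 4) 0) (genWord j) x = pgetN (gperm.getD j 0) x := by
  decide +kernel

/-- the two generators -/
def gen (j : ℕ) : Omega (ZMod 3) Qf :=
  bif j == 0 then ⟨⁅iso 0, iso 1⁆, Subgroup.commutator_mem_commutator (Subgroup.mem_top _) (Subgroup.mem_top _)⟩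
  else ⟨⁅iso 2, iso 3⁆, Subgroup.commutator_mem_commutator (Subgroup.mem_top _) (Subgroup.mem_top _)⟩

theorem rep_gen : ∀ j < 2, RepN (omegaPerm (gen j)) (gperm.getD j 0) := by
  intro j hj x
  obtain ⟨hw, himg⟩ := genWord_check ⟨j, hj⟩
  simp only [List.all_eq_true, decide_eq_true_eq] at hw
  let b : ℕ → Isom := fun k => if h : k < 4 then iso ⟨k, h⟩ else 1
  have hP : ∀ k < 4, RepN (ptPerm (b k)) (((List.range 4).map fun k => matPerms.getD k 0).getD k 0) := by
    intro k hk
    rw [List.getD_eq_getElem _ _ (by simpa using hk), List.getElem_map, List.getElem_range]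
    simp only [b, dif_pos hk]
    exact (rep_iso ⟨k, hk⟩).1
  have hPi : ∀ k < 4, RepN (ptPerm (b k))⁻¹ (((List.range 4).map fun k => matPerms.getD (k + 4) 0).getD k 0) := by
    intro k hk
    rw [List.getD_eq_getElem _ _ (by simpa using hk), List.getElem_map, List.getElem_range]
    simp only [b, dif_pos hk]
    exact (rep_iso ⟨k, hk⟩).2
  rw [← himg x, wordImgN_spec ptPerm hP hPi _ hw x]
  have e : wval b (genWord j) = ((gen j : Omega (ZMod 3) Qf) : Isom) := by
    interval_cases j <;> simp [genWord, gen, wval, lett, b, commutatorElement_def, mul_assoc]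
  rw [e]
  rfl

theorem base_check : (∀ x : Fin 126, (level0.defs.all fun w => Nat.beq (wordImgN gperm ginv w x) x) = true → x = 0) ∧
    ((level0.defs.all fun w => w.all fun l => decide (l.1 < 2)) &&
      ((List.range level0.table.size).all fun v => (CfsgLib.Schur.Cert.treePath level0.table level0.table.size v).all fun l =>
        decide (l.1 < 2)) &&
      (level0.defs.all fun w => Nat.beq (wordImgN gperm ginv w 0) 0) &&
      ((List.range 126).all fun x => (List.range level0.table.size).any fun v =>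
        Nat.beq (wordImgN gperm ginv (winv (CfsgLib.Schur.Cert.treePath level0.table level0.table.size v)) 0) x)) = true := by
  decide +kernel

theorem ginv_check : (forallLt 2 fun j => forallLt 126 fun x =>
    Nat.beq (pgetN (ginv.getD j 0) (pgetN (gperm.getD j 0) x)) x) = true ∧
      pgetN (gperm.getD 0 0) 0 < 126 ∧ ∃ x : Fin 126, pgetN (gperm.getD 0 0) x ≠ x := by
  decide +kernel

theorem omegaPerm_word (w : Word) (hw : ∀ l ∈ w, l.1 < 2) (x : Fin 126) :
    wordImgN gperm ginv w x = (omegaPerm (wval gen w) x : ℕ) :=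
  wordImgN_spec omegaPerm rep_gen (fun j hj => RepN.inv (rep_gen j hj) (forallLt_elim ginv_check.1 hj)) w hw x

theorem center_le_ker : Subgroup.center (Omega (ZMod 3) Qf) ≤ omegaPerm.ker := by
  intro z hz
  obtain ⟨hfix, hrest⟩ := base_check
  simp only [Bool.and_eq_true, List.all_eq_true, decide_eq_true_eq, List.any_eq_true, List.mem_range,
    Nat.beq_eq] at hrest
  obtain ⟨⟨⟨hdv, htv⟩, h00⟩, htrans⟩ := hrest
  have hcomm : ∀ (w : Word) (x : Fin 126),
      omegaPerm (wval gen w) (omegaPerm z x) = omegaPerm z (omegaPerm (wval gen w) x) := fun w x => by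
    rw [← Equiv.Perm.mul_apply, ← Equiv.Perm.mul_apply, ← map_mul, ← map_mul,
      Subgroup.mem_center_iff.1 hz (wval gen w)]
  have h0 : omegaPerm z 0 = 0 := by
    refine hfix _ (List.all_eq_true.2 fun w hw => ?_)
    rw [Nat.beq_eq, omegaPerm_word w (hdv w hw), hcomm]
    have h1 := h00 w hw
    rw [show (0 : ℕ) = ((0 : Fin 126) : ℕ) from rfl, omegaPerm_word w (hdv w hw)] at h1
    rw [Fin.ext h1]
  refine MonoidHom.mem_ker.2 (Equiv.ext fun x => ?_)
  obtain ⟨v, hv, hx⟩ := htrans x x.isLt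
  have hwv : ∀ l ∈ winv (CfsgLib.Schur.Cert.treePath level0.table level0.table.size v), l.1 < 2 := fun l hl => by
    simp only [winv, List.mem_map, List.mem_reverse] at hl
    obtain ⟨l', hl', rfl⟩ := hl
    exact htv v hv l' hl'
  rw [show (0 : ℕ) = ((0 : Fin 126) : ℕ) from rfl, omegaPerm_word _ hwv] at hx
  rw [← Fin.ext hx, ← hcomm, h0]
  rfl

/-- the group -/
abbrev Mdl : Type := POmega (ZMod 3) Qf

/-- the action of the simple group -/
def phi : Mdl →* Equiv.Perm (Fin 126) := QuotientGroup.lift _ omegaPerm center_le_ker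

theorem aniso : ∀ z₁ z₂ : ZMod 3, z₁ ^ 2 + 0 * z₁ * z₂ + 1 * z₂ ^ 2 = 0 → z₁ = 0 ∧ z₂ = 0 := by decide

theorem nonempty_equiv {F : Type*} [Field F] [Fintype F] (hF : Fintype.card F = 9) :
    Nonempty (Mdl ≃* Cfsg.PSU 4 F 3) :=
  CfsgLib.Classical.SmallOrtho.nonempty_pomega_six_minus (q := 3) (ZMod.card 3) (by rw [hF]; rfl) aniso

theorem mdl_spec : IsSimpleGroup Mdl ∧ Nat.card Mdl = 3265920 := by
  classical
  let K := GaloisField 3 2
  haveI : Fintype K := Fintype.ofFinite K
  have hK : Fintype.card K = 9 := by rw [Fintype.card_eq_nat_card, GaloisField.card 3 2 (by norm_num)]; rfl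
  obtain ⟨e⟩ := nonempty_equiv hK
  haveI := CfsgLib.Classical.Herm.isSimpleGroup_PSU' (F := K) (q := 3) (by rw [hK]; rfl) 4 (by norm_num)
    (by norm_num)
  refine ⟨MulEquiv.isSimpleGroup e, ?_⟩
  have h := CfsgLib.Classical.Herm.card_PSU (F := K) (q := 3) (by rw [hK]; rfl) 4 (by norm_num)
  rw [Nat.card_congr e.toEquiv]
  rw [show Nat.gcd 4 (3 + 1) = 4 from rfl] at h
  norm_num [Finset.prod_range_succ, Nat.even_iff, ← Nat.card_eq_fintype_card] at h
  omega

/-- the generators of the simple group -/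
def mgen (j : ℕ) : Mdl := QuotientGroup.mk (gen j)

theorem rep_mgen : ∀ j < 2, RepN (phi (mgen j)) ((chainPerm chain).getD j 0) := rep_gen

theorem phi_injective : Function.Injective phi := by
  haveI := mdl_spec.1
  refine (MonoidHom.ker_eq_bot_iff phi).1 ((phi.normal_ker).eq_bot_or_eq_top.resolve_right fun h => ?_)
  obtain ⟨x, hx⟩ := ginv_check.2.2
  have h1 : phi (mgen 0) = 1 := MonoidHom.mem_ker.1 (h ▸ Subgroup.mem_top _)
  exact hx (by rw [rep_mgen 0 (by norm_num) x, h1]; rfl)

end CfsgLib.Known.U43Mult
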