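import Mathlib
import Cfsg.Prelude.Def_KGroupFacts
import Cfsg.Agent.Lib.Known.MultiplierCongr
import Cfsg.Agent.Lib.Known.U43Mult.Points
import Cfsg.Agent.Lib.Known.U43Mult.CoverData
import Cfsg.Agent.Lib.Schur.LinCertMulti
import Cfsg.Agent.Lib.Schur.MonomialWitness
import Cfsg.Agent.Lib.Schur.Multiplier
import Cfsg.Agent.Lib.Schur.StemProduct

/-!
# The Schur multiplier of PSU(4,3) is 4 × 3 × 3

The special unitary group gives the part of order four, two monomial representations on 126 points with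
scalars of order three give the rest, and a chain of coset tables gives the bound.
-/

set_option autoImplicit false
set_option maxRecDepth 100000
set_option maxHeartbeats 0

namespace CfsgLib.Known.U43Mult

open Cfsg CfsgLib.Schur.Cert CfsgLib.Sporadic
open scoped commutatorElement

theorem chain_facts : Subgroup.closure (mgen '' Set.Iio 2) = ⊤ ∧ Nat.card Mdl = chainSize chain ∧
    ∀ w ∈ chainRels chain top, wval mgen w = 1 := by
  obtain ⟨hsz, hgl, hlen, -⟩ := size_check
  have htl : top.length = 2 := by simp [top]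
  have hb : ∀ j < 2, wval mgen (top.getD j []) = mgen j := fun j hj => by
    rw [List.getD_eq_getElem _ _ (by omega)]; simp [top, wval, lett]
  haveI : Finite Mdl := Nat.finite_of_card_ne_zero (by rw [mdl_spec.2]; norm_num)
  obtain ⟨hrel, hsize⟩ := chain_permsN phi phi_injective mgen chain top perms_check (by rw [hlen, htl])
    fun j hj => by rw [htl] at hj; rw [hb j hj]; exact rep_mgen j hj
  refine ⟨Subgroup.eq_top_of_le_card _ ?_, mdl_spec.2.trans hsz.symm, hrel⟩
  rw [mdl_spec.2, ← hsz]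
  have : (fun j => wval mgen (top.getD j [])) '' Set.Iio top.length = mgen '' Set.Iio 2 := by
    rw [htl]; exact Set.image_congr fun j hj => hb j hj
  rwa [this] at hsize

/-- every stem extension has kernel of order at most 36 -/
theorem card_ker_le {Γ : Type*} [Group Γ] [Finite Γ] (σ : Γ →* Mdl) (hσ : Cfsg.IsStemExtension σ) :
    Nat.card σ.ker ≤ 36 := by
  obtain ⟨hsz, hgl, hlen, hbound⟩ := size_check
  haveI : Finite Mdl := Nat.finite_of_card_ne_zero (by rw [mdl_spec.2]; norm_num)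
  have h := card_ker_le_of_chainM phi phi_injective chain lin rows 2 (fun j hj => ⟨mgen j, rep_mgen j hj⟩) hlen hgl
    perms_check rows_check.1 tables_check (rows_check.2.trans (by decide +kernel)) chain_facts.2.1 lin_check σ hσ
  rwa [hbound] at h

theorem monA_check : monOK 126 3 chain monA = true := by
  simp only [monOK, chain]
  rw [← List.take_append_drop 8 level0.table.rels, ← List.take_append_drop 8 (level0.table.rels.drop 8),
    ← List.take_append_drop 8 ((level0.table.rels.drop 8).drop 8)]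
  simp only [List.all_append, Bool.and_eq_true]
  repeat' apply And.intro
  all_goals decide +kernel

theorem monB_check : monOK 126 3 chain monB = true := by
  simp only [monOK, chain]
  rw [← List.take_append_drop 8 level0.table.rels, ← List.take_append_drop 8 (level0.table.rels.drop 8),
    ← List.take_append_drop 8 ((level0.table.rels.drop 8).drop 8)]
  simp only [List.all_append, Bool.and_eq_true]
  repeat' apply And.intro
  all_goals decide +kernel

theorem word_check : ((kerA ++ kerB).all fun l => decide (l.1 < 2)) = true ∧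
    veq (wexp vunit kerA) [] = true ∧ veq (wexp vunit kerB) [] = true ∧
    (forallLt 126 fun x => Nat.beq (wordImgN gperm ginv kerA x) x) = true ∧
    (forallLt 126 fun x => Nat.beq (wordImgN gperm ginv kerB x) x) = true ∧
    meval 3 (monA.getD 0 ([], [])).1 (monA.getD 0 ([], [])).2 kerA 0 = 1 ∧
    meval 3 (monB.getD 0 ([], [])).1 (monB.getD 0 ([], [])).2 kerA 0 = 0 ∧
    meval 3 (monA.getD 0 ([], [])).1 (monA.getD 0 ([], [])).2 kerB 0 = 0 ∧
    meval 3 (monB.getD 0 ([], [])).1 (monB.getD 0 ([], [])).2 kerB 0 = 1 := by decide +kernel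

theorem exists_mon {d : List (List ℕ × List ℕ)} (h : monOK 126 3 chain d = true) :
    ∃ X : ℕ → monW 126 3, (∀ j < 2, RepM (X j).1 ((d.getD 0 ([], [])).1.getD j 0) ∧
      RepM ((X j)⁻¹).1 ((d.getD 0 ([], [])).2.getD j 0)) ∧
      ∀ w ∈ chainRels chain top, wval X w ∈ Subgroup.zpowers (scalar 126 3) := by
  obtain ⟨-, hgl, -, -⟩ := size_check
  have key : ∀ j < 2, ∃ σ : monW 126 3, RepM σ.1 ((d.getD 0 ([], [])).1.getD j 0) ∧
      RepM (σ⁻¹).1 ((d.getD 0 ([], [])).2.getD j 0) := fun j hj => by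
    refine exists_repM ?_
    have h' := h
    simp only [chain] at h'
    unfold monOK at h'
    simp only [Bool.and_eq_true, List.all_eq_true, List.mem_range] at h'
    exact h'.1.1.1.1.1 j hj
  choose X hX using key
  let Y : ℕ → monW 126 3 := fun j => if h : j < 2 then X j h else 1
  have hY : ∀ j < 2, RepM (Y j).1 ((d.getD 0 ([], [])).1.getD j 0) ∧
      RepM ((Y j)⁻¹).1 ((d.getD 0 ([], [])).2.getD j 0) := fun j hj => by
    simp only [Y, dif_pos hj]; exact hX j hj
  refine ⟨Y, hY, rels_scalar Y chain _ d h (hgl.trans (by simp [top])) fun j hj => ?_⟩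
  have hj' : j < 2 := by simpa [top] using hj
  rw [show (top : List Word).getD j [] = [(j, true)] by
    rw [List.getD_eq_getElem _ _ hj]; simp [top], show wval Y [(j, true)] = Y j by simp [wval, lett]]
  exact hY j hj'

/-- a scalar is known by its value at the first point -/
theorem scalar_of_value {y : monW 126 3} (hy : y ∈ Subgroup.zpowers (scalar 126 3)) {c : ℕ}
    (he : (y.1 ⟨0, by norm_num⟩ : ℕ) = c) : y = scalar 126 3 ^ c := by
  rw [← mem_powers_iff_mem_zpowers] at hy
  obtain ⟨i, rfl⟩ := hy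
  have h3 : scalar 126 3 ^ 3 = 1 := by
    refine Subtype.ext (Equiv.ext fun e => Fin.ext ?_)
    rw [SubmonoidClass.coe_pow]
    show ((labShift 126 3 ^ 3) e : ℕ) = e
    rw [labShift_pow, shiftLab_self (by norm_num)]
  rw [SubmonoidClass.coe_pow] at he
  change ((labShift 126 3 ^ i) _ : ℕ) = c at he
  rw [labShift_pow] at he
  change 0 / 3 * 3 + (0 + i) % 3 = c at he
  have he' : i % 3 = c := by simpa using he
  show scalar 126 3 ^ i = _
  rw [← he', ← pow_mod_orderOf]
  rcases (Nat.dvd_prime Nat.prime_three).1 (orderOf_dvd_of_pow_eq_one h3) with h | h <;> rw [h]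
  · rw [Nat.mod_one, pow_zero, orderOf_eq_one_iff.1 h, one_pow]

theorem card_scalars : Nat.card (Subgroup.zpowers (scalar 126 3)) = 3 := by
  rw [Nat.card_zpowers]
  refine orderOf_eq_prime (Subtype.ext (Equiv.ext fun e => Fin.ext ?_)) fun h => ?_
  · rw [SubmonoidClass.coe_pow]
    show ((labShift 126 3 ^ 3) e : ℕ) = e
    rw [labShift_pow, shiftLab_self (by norm_num)]
  · have h1 := congrArg (fun y : monW 126 3 => (y.1 ⟨0, by norm_num⟩ : ℕ)) h
    exact absurd h1 (by show ¬ shiftLab 3 1 0 = 0; decide)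

/-- the cover with kernel of order nine -/
theorem exists_cover_nine : ∃ (Γ : Type) (_ : Group Γ) (_ : Finite Γ) (τ : Γ →* Mdl),
    Cfsg.IsStemExtension τ ∧ Nonempty (τ.ker ≃* Multiplicative (ZMod 3 × ZMod 3)) := by
  classical
  obtain ⟨-, hgl, -, -⟩ := size_check
  obtain ⟨hwv, heA, heB, hiA, hiB, hAA, hAB, hBA, hBB⟩ := word_check
  simp only [List.all_eq_true, decide_eq_true_eq, List.mem_append] at hwv
  obtain ⟨hgen, hcard, harel⟩ := chain_facts
  haveI : Finite Mdl := Nat.finite_of_card_ne_zero (by rw [mdl_spec.2]; norm_num)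
  obtain ⟨X, hX, hXrel⟩ := exists_mon monA_check
  obtain ⟨Y, hY, hYrel⟩ := exists_mon monB_check
  have hmk : ∀ (Z : ℕ → monW 126 3),
      (∀ w ∈ chainRels chain top, wval Z w ∈ Subgroup.zpowers (scalar 126 3)) →
      ∀ w : Word, (∀ l ∈ w, l.1 < 2) → wval mgen w = 1 → wval Z w ∈ Subgroup.zpowers (scalar 126 3) := by
    intro Z hZ w hw h1
    rw [← QuotientGroup.eq_one_iff]
    have hcomp : (fun j => (Z j : monW 126 3 ⧸ Subgroup.zpowers (scalar 126 3))) = QuotientGroup.mk' _ ∘ Z := rfl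
    have := eq_one_of_present mgen (fun j => (Z j : monW 126 3 ⧸ Subgroup.zpowers (scalar 126 3))) chain rows 2 hgl
      rows_check.1 tables_check hgen hcard harel (fun u hu => by
        rw [hcomp, ← map_wval]
        exact (QuotientGroup.eq_one_iff _).2 (hZ u hu)) w hw h1
    rwa [hcomp, ← map_wval] at this
  let c : ℕ → Mdl × (monW 126 3 × monW 126 3) := fun j => (mgen j, X j, Y j)
  let Γ : Subgroup (Mdl × (monW 126 3 × monW 126 3)) := Subgroup.closure (c '' Set.Iio 2)
  have hword : ∀ x ∈ Γ, ∃ w : Word, (∀ l ∈ w, l.1 < 2) ∧ wval c w = x := by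
    intro x hx
    induction hx using Subgroup.closure_induction with
    | mem y hy =>
      obtain ⟨j, hj, rfl⟩ := hy
      exact ⟨[(j, true)], by simpa using hj, by simp [wval, lett]⟩
    | one => exact ⟨[], by simp, rfl⟩
    | mul y z _ _ ihy ihz =>
      obtain ⟨u, hu, rfl⟩ := ihy; obtain ⟨u', hu', rfl⟩ := ihz
      exact ⟨u ++ u', fun l hl => (List.mem_append.mp hl).elim (hu l) (hu' l), wval_append _ _ _⟩
    | inv y _ ih =>
      obtain ⟨u, hu, rfl⟩ := ih
      refine ⟨winv u, fun l hl => ?_, wval_winv _ _⟩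
      simp only [winv, List.mem_map, List.mem_reverse] at hl
      obtain ⟨l', hl', rfl⟩ := hl
      exact hu l' hl'
  have hc : ∀ w, wval c w = (wval mgen w, wval X w, wval Y w) := fun w => by
    refine Prod.ext ?_ (Prod.ext ?_ ?_)
    · show MonoidHom.fst _ _ (wval c w) = _
      rw [map_wval]; rfl
    · show ((MonoidHom.fst _ _).comp (MonoidHom.snd _ _)) (wval c w) = _
      rw [map_wval]; rfl
    · show ((MonoidHom.snd _ _).comp (MonoidHom.snd _ _)) (wval c w) = _
      rw [map_wval]; rfl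
  let τ : Γ →* Mdl := (MonoidHom.fst _ _).comp Γ.subtype
  let S := Subgroup.zpowers (scalar 126 3)
  have hker : ∀ x : Γ, x ∈ τ.ker → x.1.2.1 ∈ S ∧ x.1.2.2 ∈ S := by
    rintro ⟨x, hx⟩ hk
    obtain ⟨w, hw, rfl⟩ := hword x hx
    have h1 : wval mgen w = 1 := by
      have : (wval c w).1 = 1 := MonoidHom.mem_ker.1 hk
      rwa [hc] at this
    show (wval c w).2.1 ∈ _ ∧ (wval c w).2.2 ∈ _
    rw [hc]
    exact ⟨hmk X hXrel w hw h1, hmk Y hYrel w hw h1⟩
  have hsurj : Function.Surjective τ := by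
    rw [← MonoidHom.range_eq_top, eq_top_iff, ← hgen, Subgroup.closure_le]
    rintro _ ⟨j, hj, rfl⟩
    exact ⟨⟨c j, Subgroup.subset_closure ⟨j, hj, rfl⟩⟩, rfl⟩
  have hcent : τ.ker ≤ Subgroup.center Γ := fun x hx => by
    obtain ⟨h3, h4⟩ := hker x hx
    refine Subgroup.mem_center_iff.2 fun y => Subtype.ext (Prod.ext ?_ (Prod.ext ?_ ?_))
    · show y.1.1 * x.1.1 = x.1.1 * y.1.1
      rw [show x.1.1 = 1 from MonoidHom.mem_ker.1 hx, one_mul, mul_one]
    · exact Subgroup.mem_center_iff.1 (scalar_central _ _ h3) _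
    · exact Subgroup.mem_center_iff.1 (scalar_central _ _ h4) _
  -- the two words
  have hgi : ∀ j < 2, RepN (phi (mgen j))⁻¹ (ginv.getD j 0) := fun j hj =>
    RepN.inv (rep_mgen j hj) (forallLt_elim ginv_check.1 hj)
  let b : ℕ → Γ := fun j => if h : j < 2 then ⟨c j, Subgroup.subset_closure ⟨j, h, rfl⟩⟩ else 1
  have hzmk : ∀ (w : Word), (∀ l ∈ w, l.1 < 2) → veq (wexp vunit w) [] = true →
      (forallLt 126 fun x => Nat.beq (wordImgN gperm ginv w x) x) = true →
      wval b w ∈ τ.ker ∧ wval b w ∈ commutator Γ ∧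
      (wval b w).1 = (1, wval X w, wval Y w) := by
    intro w hw he hi
    have hb : (wval b w).1 = wval c w := by
      show Γ.subtype (wval b w) = _
      rw [map_wval]
      refine congrArg List.prod (List.map_congr_left fun l hl => ?_)
      simp [lett, b, Nat.lt_succ_iff.1 (hw l hl)]
    have h1 : wval mgen w = 1 := phi_injective (Equiv.ext fun x => Fin.ext (by
      have h2 := Nat.eq_of_beq_eq_true (forallLt_elim hi x.isLt)
      rw [wordImgN_spec phi rep_mgen hgi w hw x] at h2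
      rw [map_one]; exact h2))
    refine ⟨MonoidHom.mem_ker.2 (show (wval b w).1.1 = 1 by rw [hb, hc]; exact h1), ?_, by rw [hb, hc, h1]⟩
    rw [← Abelianization.ker_of, MonoidHom.mem_ker, map_wval]
    have hev : ∀ (R : ℕ → Abelianization Γ) (u : Word), wval R u = ev R (wexp vunit u) := by
      intro R u
      induction u with
      | nil => rfl
      | cons l u ih =>
        rw [wval_cons, ih, wexp, ev_vadd]
        obtain ⟨x, s⟩ := l
        cases s <;> simp [lett, ev_vneg, ev_vunit]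
    rw [hev, ev_eq_of_veq he]
    rfl
  obtain ⟨hzA, hzA', hzAe⟩ := hzmk kerA (fun l hl => hwv l (Or.inl hl)) heA hiA
  obtain ⟨hzB, hzB', hzBe⟩ := hzmk kerB (fun l hl => hwv l (Or.inr hl)) heB hiB
  let f : τ.ker →* S × S :=
    { toFun := fun x => (⟨x.1.1.2.1, (hker x.1 x.2).1⟩, ⟨x.1.1.2.2, (hker x.1 x.2).2⟩)
      map_one' := rfl
      map_mul' := fun _ _ => rfl }
  have hf : Function.Injective f := fun x y e => by
    have e1 := congrArg (fun p => (p.1 : monW 126 3)) e
    have e2 := congrArg (fun p => (p.2 : monW 126 3)) e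
    refine Subtype.ext (Subtype.ext (Prod.ext ?_ (Prod.ext e1 e2)))
    exact (MonoidHom.mem_ker.1 x.2).trans (MonoidHom.mem_ker.1 y.2).symm
  have hval : ∀ (Z : ℕ → monW 126 3) (P Pi : List ℕ), (∀ w ∈ chainRels chain top, wval Z w ∈ S) →
      (∀ j < 2, RepM (Z j).1 (P.getD j 0) ∧ RepM ((Z j)⁻¹).1 (Pi.getD j 0)) →
      ∀ w : Word, (∀ l ∈ w, l.1 < 2) → wval mgen w = 1 → ∀ k, meval 3 P Pi w 0 = k →
        wval Z w = scalar 126 3 ^ k := by
    intro Z P Pi hrel hP w hw h1 k hk
    refine scalar_of_value (hmk Z hrel w hw h1) ?_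
    rw [← hk]
    exact (meval_spec (fun j hj => (hP j hj).1) (fun j hj => (hP j hj).2) w hw ⟨0, by norm_num⟩).symm
  have h1of : ∀ w : Word, (∀ l ∈ w, l.1 < 2) →
      (forallLt 126 fun x => Nat.beq (wordImgN gperm ginv w x) x) = true → wval mgen w = 1 := fun w hw hi =>
    phi_injective (Equiv.ext fun x => Fin.ext (by
      have h2 := Nat.eq_of_beq_eq_true (forallLt_elim hi x.isLt)
      rw [wordImgN_spec phi rep_mgen hgi w hw x] at h2
      rw [map_one]; exact h2))
  have hfA : f ⟨_, hzA⟩ = (⟨scalar 126 3, Subgroup.mem_zpowers _⟩, 1) := by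
    have hw : ∀ l ∈ kerA, l.1 < 2 := fun l hl => hwv l (Or.inl hl)
    refine Prod.ext (Subtype.ext ?_) (Subtype.ext ?_)
    · show (wval b kerA).1.2.1 = _
      rw [hzAe]; exact (hval X _ _ hXrel hX kerA hw (h1of _ hw hiA) 1 hAA).trans (pow_one _)
    · show (wval b kerA).1.2.2 = _
      rw [hzAe]; exact (hval Y _ _ hYrel hY kerA hw (h1of _ hw hiA) 0 hAB).trans (pow_zero _)
  have hfB : f ⟨_, hzB⟩ = (1, ⟨scalar 126 3, Subgroup.mem_zpowers _⟩) := by
    have hw : ∀ l ∈ kerB, l.1 < 2 := fun l hl => hwv l (Or.inr hl)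
    refine Prod.ext (Subtype.ext ?_) (Subtype.ext ?_)
    · show (wval b kerB).1.2.1 = _
      rw [hzBe]; exact (hval X _ _ hXrel hX kerB hw (h1of _ hw hiB) 0 hBA).trans (pow_zero _)
    · show (wval b kerB).1.2.2 = _
      rw [hzBe]; exact (hval Y _ _ hYrel hY kerB hw (h1of _ hw hiB) 1 hBB).trans (pow_one _)
  have hgenker : ∀ x : τ.ker, ∃ i j : ℕ, x = ⟨_, hzA⟩ ^ i * ⟨_, hzB⟩ ^ j := by
    intro x
    obtain ⟨i, hi⟩ := mem_powers_iff_mem_zpowers.2 (f x).1.2
    obtain ⟨j, hj⟩ := mem_powers_iff_mem_zpowers.2 (f x).2.2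
    refine ⟨i, j, hf ?_⟩
    rw [map_mul, map_pow, map_pow, hfA, hfB]
    refine Prod.ext (Subtype.ext ?_) (Subtype.ext ?_) <;> simp [← hi, ← hj]
  have hfs : Function.Surjective f := by
    rintro ⟨⟨u, hu⟩, ⟨v, hv⟩⟩
    obtain ⟨i, rfl⟩ := mem_powers_iff_mem_zpowers.2 hu
    obtain ⟨j, rfl⟩ := mem_powers_iff_mem_zpowers.2 hv
    refine ⟨⟨_, hzA⟩ ^ i * ⟨_, hzB⟩ ^ j, ?_⟩
    rw [map_mul, map_pow, map_pow, hfA, hfB]
    refine Prod.ext (Subtype.ext ?_) (Subtype.ext ?_) <;> simp
  haveI : IsCyclic S := inferInstance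
  let e3 : S ≃* Multiplicative (ZMod 3) := mulEquivOfCyclicCardEq (by rw [card_scalars]; simp)
  refine ⟨Γ, inferInstance, inferInstance, τ, ⟨hsurj, hcent, fun x hx => ?_⟩,
    ⟨((MulEquiv.ofBijective f ⟨hf, hfs⟩).trans (e3.prodCongr e3)).trans (MulEquiv.prodMultiplicative _ _).symm⟩⟩
  obtain ⟨i, j, e⟩ := hgenker ⟨x, hx⟩
  have e' : x = wval b kerA ^ i * wval b kerB ^ j := by
    have := congrArg Subtype.val e
    simpa using this
  rw [e']
  exact mul_mem (pow_mem hzA' i) (pow_mem hzB' j)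

section Four

variable {F : Type*} [Field F] [Fintype F]

theorem perfect_SU (hF : Fintype.card F = 3 ^ 2) : commutator (Cfsg.SU 4 F 3) = ⊤ := by
  rw [eq_top_iff, ← CfsgLib.Classical.Herm.su_closure_transvections hF 4 (by norm_num) (by norm_num)]
  refine (Subgroup.closure_le _).2 ?_
  rintro A ⟨v, c, hv, hA⟩
  rw [commutator_eq_closure]
  exact Subgroup.subset_closure
    (CfsgLib.Classical.Herm.transvection_mem_commutatorSet hF (by norm_num) A v c hv hA)

theorem center_SU_equiv (hF : Fintype.card F = 3 ^ 2) :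
    Nonempty (Subgroup.center (Cfsg.SU 4 F 3) ≃* Multiplicative (ZMod 4)) := by
  classical
  have hcard := CfsgLib.Classical.Herm.card_center_SU hF 4 (by norm_num)
  let M : Cfsg.SU 4 F 3 → Matrix (Fin 4) (Fin 4) F := fun g => ((g : Matrix.SpecialLinearGroup (Fin 4) F) : Matrix (Fin 4) (Fin 4) F)
  have hsc : ∀ z ∈ Subgroup.center (Cfsg.SU 4 F 3), M z = Matrix.scalar (Fin 4) (M z 0 0) := by
    intro z hz
    have hz' : CfsgLib.Classical.Herm.suEquiv 4 hF z ∈
        Subgroup.center (CfsgLib.Classical.Herm.HSU (CfsgLib.Classical.Herm.hermStd 4 hF)) := by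
      rw [← CfsgLib.Classical.Herm.map_center_of_equiv (CfsgLib.Classical.Herm.suEquiv 4 hF)]
      exact ⟨z, hz, rfl⟩
    obtain ⟨a, ha⟩ := ((CfsgLib.Classical.Herm.hermStd_isHerm hF).mem_center_HSU_iff
      (by rw [CfsgLib.Classical.Herm.finrank_std]; norm_num)).1 hz'
    have key : ∀ i j, M z i j = if i = j then a else 0 := by
      intro i j
      have h := ha (Pi.single j 1)
      rw [CfsgLib.Classical.Herm.suEquiv_apply] at h
      have hij := congrFun h i
      rw [Matrix.mulVec_single_one] at hij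
      simpa [M, Matrix.col_apply, Pi.single_apply] using hij
    ext i j
    rw [key, key, Matrix.scalar_apply, Matrix.diagonal_apply]
    simp
  let χ : Subgroup.center (Cfsg.SU 4 F 3) →* F :=
    { toFun := fun z => M z 0 0
      map_one' := by simp [M]
      map_mul' := fun x y => by
        show (M x * M y) 0 0 = _
        rw [hsc x x.2, hsc y y.2]
        simp [Matrix.scalar_apply] }
  have hχ : Function.Injective χ := fun x y e => by
    refine Subtype.ext (Subtype.ext (Subtype.ext ?_))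
    show M x = M y
    rw [hsc x x.2, hsc y y.2]
    exact congrArg _ e
  haveI : Finite (Subgroup.center (Cfsg.SU 4 F 3)) := Nat.finite_of_card_ne_zero (by rw [hcard]; norm_num)
  haveI : IsCyclic (Subgroup.center (Cfsg.SU 4 F 3)) := isCyclic_of_subgroup_isDomain χ hχ
  exact ⟨mulEquivOfCyclicCardEq (by rw [hcard]; simp)⟩

end Four

theorem exists_cover : ∃ (Δ : Type) (_ : Group Δ) (τ : Δ →* Mdl), Cfsg.IsStemExtension τ ∧ Finite Δ ∧
    Nonempty (τ.ker ≃* Multiplicative (ZMod 4 × ZMod 3 × ZMod 3)) := by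
  classical
  let K := GaloisField 3 2
  haveI : Fintype K := Fintype.ofFinite K
  have hK : Fintype.card K = 3 ^ 2 := by rw [Fintype.card_eq_nat_card, GaloisField.card 3 2 (by norm_num)]
  obtain ⟨e⟩ := nonempty_equiv (F := K) (by rw [hK]; rfl)
  let mk : Cfsg.SU 4 K 3 →* Cfsg.PSU 4 K 3 := QuotientGroup.mk' _
  have hst : Cfsg.IsStemExtension mk := by
    refine ⟨QuotientGroup.mk'_surjective _, ?_, ?_⟩
    · rw [QuotientGroup.ker_mk']
    · rw [perfect_SU hK]; exact le_top
  obtain ⟨hs1, hk1⟩ := CfsgLib.Known.stem_comp hst e.symm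
  obtain ⟨Γ, _, _, τ, hτ, ⟨e9⟩⟩ := exists_cover_nine
  set σ := e.symm.toMonoidHom.comp mk with hσ
  obtain ⟨e4⟩ := center_SU_equiv hK
  let e4' : σ.ker ≃* Multiplicative (ZMod 4) :=
    ((MulEquiv.subgroupCongr hk1).trans (MulEquiv.subgroupCongr (QuotientGroup.ker_mk' _))).trans e4
  have hcop : Nat.Coprime (Nat.card σ.ker) (Nat.card τ.ker) := by
    rw [Nat.card_congr e4'.toEquiv, Nat.card_congr e9.toEquiv]
    simp [Nat.Coprime]
  refine ⟨_, inferInstance, CfsgLib.Schur.fibreMap σ τ,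
    CfsgLib.Schur.isStemExtension_fibreProduct σ τ hs1 hτ hcop, inferInstance,
    ⟨((CfsgLib.Schur.fibreKerEquiv σ τ).trans (e4'.prodCongr e9)).trans (MulEquiv.prodMultiplicative _ _).symm⟩⟩

/-- every copy of the group has multiplier 4 × 3 × 3 -/
theorem hasSchurMultiplier_of_equiv {Q : Type*} [Group Q] [Finite Q] (f : Mdl ≃* Q) :
    Cfsg.HasSchurMultiplier Q (Multiplicative (ZMod 4 × ZMod 3 × ZMod 3)) := by
  obtain ⟨Δ, _, τ, ⟨hs, hc, hd⟩, _, ⟨e⟩⟩ := exists_cover
  have hk : (f.toMonoidHom.comp τ).ker = τ.ker := by ext; simp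
  refine CfsgLib.Schur.hasSchurMultiplier_of_witness (f.toMonoidHom.comp τ)
    ⟨f.surjective.comp hs, hk ▸ hc, hk ▸ hd⟩ ((MulEquiv.subgroupCongr hk).trans e) fun Γ _ _ σ hσ => ?_
  have hk' : (f.symm.toMonoidHom.comp σ).ker = σ.ker := by ext; simp
  have h := card_ker_le (f.symm.toMonoidHom.comp σ) ⟨f.symm.surjective.comp hσ.1, hk' ▸ hσ.2.1, hk' ▸ hσ.2.2⟩
  rw [hk'] at h
  simpa using h

end CfsgLib.Known.U43Mult
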